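import Groth.Agent.Lib.helper4.G4.Defs

/-!
# Genus one classification on 4 indices: generated case analysis, part 0 (helper4)
-/

set_option autoImplicit false
set_option maxHeartbeats 1000000
set_option linter.unusedVariables false

namespace Groth.Agent.Lib.helper4.G4

open Groth.Agent.Lib.helper4

theorem nd_2 (T : Models.NumericalType 4)
    (hG : NTGood T)
    (hmax : ∀ j, T.m j ≤ T.m 0)
    (cl : ∀ a b : Fin 4, a.val < 1 → 1 ≤ b.val → T.picMatrix a b = 0) :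
    Goal T := by
  obtain ⟨hg0, hdA, hdP, hnn, hrow, hsym, hpair⟩ := ntgood_data T (by norm_num) hG
  have hm_0 := T.m_pos 0
  have hw_0 := T.w_pos 0
  have Z_0_1 := cl 0 1 (by decide) (by decide)
  have Z_0_2 := cl 0 2 (by decide) (by decide)
  have Z_0_3 := cl 0 3 (by decide) (by decide)
  have R_0 := hrow 0
  rw [Fin.sum_univ_four, hdP 0, Z_0_1, Z_0_2, Z_0_3] at R_0
  exfalso
  omega

theorem nd_5 (T : Models.NumericalType 4)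
    (hG : NTGood T)
    (hmax : ∀ j, T.m j ≤ T.m 0)
    (e_0_1 : T.picMatrix 0 1 = 1)
    (e_1_0 : T.picMatrix 1 0 = 1)
    (cl : ∀ a b : Fin 4, a.val < 1 → 2 ≤ b.val → T.picMatrix a b = 0) :
    Goal T := by
  obtain ⟨hg0, hdA, hdP, hnn, hrow, hsym, hpair⟩ := ntgood_data T (by norm_num) hG
  have hm_0 := T.m_pos 0
  have hw_0 := T.w_pos 0
  have hm_1 := T.m_pos 1
  have hw_1 := T.w_pos 1
  have hx_1 := hmax 1
  have Z_0_2 := cl 0 2 (by decide) (by decide)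
  have Z_0_3 := cl 0 3 (by decide) (by decide)
  have N_1_2 := mul_nonneg (hnn 1 2 (by decide)) (T.m_pos 2).le
  have N_1_3 := mul_nonneg (hnn 1 3 (by decide)) (T.m_pos 3).le
  have R_0 := hrow 0
  rw [Fin.sum_univ_four, hdP 0, e_0_1, Z_0_2, Z_0_3] at R_0
  have R_1 := hrow 1
  rw [Fin.sum_univ_four, hdP 1, e_1_0] at R_1
  have S_0_1 := hsym 0 1
  rw [e_0_1, e_1_0] at S_0_1
  exfalso
  omega

theorem nd_9 (T : Models.NumericalType 4)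
    (hG : NTGood T)
    (hmax : ∀ j, T.m j ≤ T.m 0)
    (e_0_1 : T.picMatrix 0 1 = 1)
    (e_0_2 : T.picMatrix 0 2 = 1)
    (e_1_0 : T.picMatrix 1 0 = 1)
    (e_1_2 : T.picMatrix 1 2 = 0)
    (e_2_0 : T.picMatrix 2 0 = 1)
    (e_2_1 : T.picMatrix 2 1 = 0)
    (cl : ∀ a b : Fin 4, a.val < 2 → 3 ≤ b.val → T.picMatrix a b = 0) :
    Goal T := by
  obtain ⟨hg0, hdA, hdP, hnn, hrow, hsym, hpair⟩ := ntgood_data T (by norm_num) hG
  have hm_0 := T.m_pos 0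
  have hw_0 := T.w_pos 0
  have hm_1 := T.m_pos 1
  have hw_1 := T.w_pos 1
  have hm_2 := T.m_pos 2
  have hw_2 := T.w_pos 2
  have hx_1 := hmax 1
  have hx_2 := hmax 2
  have Z_0_3 := cl 0 3 (by decide) (by decide)
  have Z_1_3 := cl 1 3 (by decide) (by decide)
  have N_2_3 := mul_nonneg (hnn 2 3 (by decide)) (T.m_pos 3).le
  have R_0 := hrow 0
  rw [Fin.sum_univ_four, hdP 0, e_0_1, e_0_2, Z_0_3] at R_0
  have R_1 := hrow 1
  rw [Fin.sum_univ_four, hdP 1, e_1_0, e_1_2, Z_1_3] at R_1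
  have R_2 := hrow 2
  rw [Fin.sum_univ_four, hdP 2, e_2_0, e_2_1] at R_2
  have S_0_1 := hsym 0 1
  rw [e_0_1, e_1_0] at S_0_1
  have S_0_2 := hsym 0 2
  rw [e_0_2, e_2_0] at S_0_2
  have S_1_2 := hsym 1 2
  rw [e_1_2, e_2_1] at S_1_2
  exfalso
  omega

theorem nd_11 (T : Models.NumericalType 4)
    (hG : NTGood T)
    (hmax : ∀ j, T.m j ≤ T.m 0)
    (e_0_1 : T.picMatrix 0 1 = 1)
    (e_0_2 : T.picMatrix 0 2 = 1)
    (e_0_3 : T.picMatrix 0 3 = 0)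
    (e_1_0 : T.picMatrix 1 0 = 1)
    (e_1_2 : T.picMatrix 1 2 = 0)
    (e_1_3 : T.picMatrix 1 3 = 1)
    (e_2_0 : T.picMatrix 2 0 = 1)
    (e_2_1 : T.picMatrix 2 1 = 0)
    (e_2_3 : T.picMatrix 2 3 = 1)
    (e_3_0 : T.picMatrix 3 0 = 0)
    (e_3_1 : T.picMatrix 3 1 = 1)
    (e_3_2 : T.picMatrix 3 2 = 1)
    (cl : ∀ a b : Fin 4, a.val < 1 → 4 ≤ b.val → T.picMatrix a b = 0) :
    Goal T := by
  obtain ⟨hg0, hdA, hdP, hnn, hrow, hsym, hpair⟩ := ntgood_data T (by norm_num) hG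
  have hm_0 := T.m_pos 0
  have hw_0 := T.w_pos 0
  have hm_1 := T.m_pos 1
  have hw_1 := T.w_pos 1
  have hm_2 := T.m_pos 2
  have hw_2 := T.w_pos 2
  have hm_3 := T.m_pos 3
  have hw_3 := T.w_pos 3
  have hx_1 := hmax 1
  have hx_2 := hmax 2
  have hx_3 := hmax 3
  have R_0 := hrow 0
  rw [Fin.sum_univ_four, hdP 0, e_0_1, e_0_2, e_0_3] at R_0
  have R_1 := hrow 1
  rw [Fin.sum_univ_four, hdP 1, e_1_0, e_1_2, e_1_3] at R_1
  have R_2 := hrow 2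
  rw [Fin.sum_univ_four, hdP 2, e_2_0, e_2_1, e_2_3] at R_2
  have R_3 := hrow 3
  rw [Fin.sum_univ_four, hdP 3, e_3_0, e_3_1, e_3_2] at R_3
  have S_0_1 := hsym 0 1
  rw [e_0_1, e_1_0] at S_0_1
  have S_0_2 := hsym 0 2
  rw [e_0_2, e_2_0] at S_0_2
  have S_0_3 := hsym 0 3
  rw [e_0_3, e_3_0] at S_0_3
  have S_1_2 := hsym 1 2
  rw [e_1_2, e_2_1] at S_1_2
  have S_1_3 := hsym 1 3
  rw [e_1_3, e_3_1] at S_1_3
  have S_2_3 := hsym 2 3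
  rw [e_2_3, e_3_2] at S_2_3
  have D_0 := hdA 0
  have A_0_1 := nt_a_eq T 0 1
  rw [e_0_1] at A_0_1
  have A_0_2 := nt_a_eq T 0 2
  rw [e_0_2] at A_0_2
  have A_0_3 := nt_a_eq T 0 3
  rw [e_0_3] at A_0_3
  have D_1 := hdA 1
  have A_1_0 := nt_a_eq T 1 0
  rw [e_1_0] at A_1_0
  have A_1_2 := nt_a_eq T 1 2
  rw [e_1_2] at A_1_2
  have A_1_3 := nt_a_eq T 1 3
  rw [e_1_3] at A_1_3
  have D_2 := hdA 2
  have A_2_0 := nt_a_eq T 2 0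
  rw [e_2_0] at A_2_0
  have A_2_1 := nt_a_eq T 2 1
  rw [e_2_1] at A_2_1
  have A_2_3 := nt_a_eq T 2 3
  rw [e_2_3] at A_2_3
  have D_3 := hdA 3
  have A_3_0 := nt_a_eq T 3 0
  rw [e_3_0] at A_3_0
  have A_3_1 := nt_a_eq T 3 1
  rw [e_3_1] at A_3_1
  have A_3_2 := nt_a_eq T 3 2
  rw [e_3_2] at A_3_2
  refine goal_of_indices T hg0 0 1 3 2 (by decide) (T.m 0) (T.w 0) ?_
  unfold Goali
  exact Or.inl ⟨by omega, by omega, by omega, by omega, by omega, by omega, by omega, by omega, by omega, by omega, by omega, by omega, by omega, by omega, by omega, by omega, by omega, by omega⟩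

theorem ex_10 (T : Models.NumericalType 4)
    (hG : NTGood T)
    (hmax : ∀ j, T.m j ≤ T.m 0)
    (e_0_1 : T.picMatrix 0 1 = 1)
    (e_0_2 : T.picMatrix 0 2 = 1)
    (e_1_0 : T.picMatrix 1 0 = 1)
    (e_1_2 : T.picMatrix 1 2 = 0)
    (e_2_0 : T.picMatrix 2 0 = 1)
    (e_2_1 : T.picMatrix 2 1 = 0)
    (cl : ∀ a b : Fin 4, a.val < 1 → 4 ≤ b.val → T.picMatrix a b = 0)
    (z : ∀ a : Fin 4, a.val < 1 → T.picMatrix a 3 = 0)
    (hne : T.picMatrix 1 3 ≠ 0) :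
    Goal T := by
  have e_0_3 : T.picMatrix 0 3 = 0 := z 0 (by decide)
  have e_3_0 : T.picMatrix 3 0 = 0 := nt_pic_zero_symm T 0 3 e_0_3
  obtain ⟨hg0, hdA, hdP, hnn, hrow, hsym, hpair⟩ := ntgood_data T (by norm_num) hG
  have hm_0 := T.m_pos 0
  have hw_0 := T.w_pos 0
  have hm_1 := T.m_pos 1
  have hw_1 := T.w_pos 1
  have hm_2 := T.m_pos 2
  have hw_2 := T.w_pos 2
  have hm_3 := T.m_pos 3
  have hw_3 := T.w_pos 3
  have hx_1 := hmax 1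
  have hx_2 := hmax 2
  have hx_3 := hmax 3
  have N_1_3 := mul_nonneg (hnn 1 3 (by decide)) (T.m_pos 3).le
  have N_3_1 := mul_nonneg (hnn 3 1 (by decide)) (T.m_pos 1).le
  have N_2_3 := mul_nonneg (hnn 2 3 (by decide)) (T.m_pos 3).le
  have N_3_2 := mul_nonneg (hnn 3 2 (by decide)) (T.m_pos 2).le
  have R_0 := hrow 0
  rw [Fin.sum_univ_four, hdP 0, e_0_1, e_0_2, e_0_3] at R_0
  have R_1 := hrow 1
  rw [Fin.sum_univ_four, hdP 1, e_1_0, e_1_2] at R_1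
  have R_2 := hrow 2
  rw [Fin.sum_univ_four, hdP 2, e_2_0, e_2_1] at R_2
  have R_3 := hrow 3
  rw [Fin.sum_univ_four, hdP 3, e_3_0] at R_3
  have S_0_1 := hsym 0 1
  rw [e_0_1, e_1_0] at S_0_1
  have S_0_2 := hsym 0 2
  rw [e_0_2, e_2_0] at S_0_2
  have S_0_3 := hsym 0 3
  rw [e_0_3, e_3_0] at S_0_3
  have S_1_2 := hsym 1 2
  rw [e_1_2, e_2_1] at S_1_2
  have S_1_3 := hsym 1 3
  have S_2_3 := hsym 2 3
  have Q_1 := hpair 1 3 (by decide)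
  have Q_2 := hpair 2 3 (by decide)
  generalize e_1_3 : T.picMatrix 1 3 = x_1 at *
  generalize e_3_1 : T.picMatrix 3 1 = y_1 at *
  generalize e_2_3 : T.picMatrix 2 3 = x_2 at *
  generalize e_3_2 : T.picMatrix 3 2 = y_2 at *
  rcases Q_1 with ⟨rfl, rfl⟩ | ⟨rfl, rfl⟩ | ⟨rfl, rfl⟩ | ⟨rfl, rfl⟩ | ⟨rfl, rfl⟩ | ⟨rfl, rfl⟩ | ⟨rfl, rfl⟩ | ⟨rfl, rfl⟩ | ⟨rfl, rfl⟩
  · exact absurd rfl hne
  · -- (1,3) = (1,1)
    rcases Q_2 with ⟨rfl, rfl⟩ | ⟨rfl, rfl⟩ | ⟨rfl, rfl⟩ | ⟨rfl, rfl⟩ | ⟨rfl, rfl⟩ | ⟨rfl, rfl⟩ | ⟨rfl, rfl⟩ | ⟨rfl, rfl⟩ | ⟨rfl, rfl⟩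
    · -- (2,3) = (0,0)
      omega
    · -- (2,3) = (1,1)
      exact nd_11 T hG hmax e_0_1 e_0_2 e_0_3 e_1_0 e_1_2 e_1_3 e_2_0 e_2_1 e_2_3 e_3_0 e_3_1 e_3_2 cl
    · -- (2,3) = (1,2)
      omega
    · -- (2,3) = (2,1)
      omega
    · -- (2,3) = (1,3)
      omega
    · -- (2,3) = (3,1)
      omega
    · -- (2,3) = (1,4)
      omega
    · -- (2,3) = (4,1)
      omega
    · -- (2,3) = (2,2)
      omega
  · -- (1,3) = (1,2)
    rcases Q_2 with ⟨rfl, rfl⟩ | ⟨rfl, rfl⟩ | ⟨rfl, rfl⟩ | ⟨rfl, rfl⟩ | ⟨rfl, rfl⟩ | ⟨rfl, rfl⟩ | ⟨rfl, rfl⟩ | ⟨rfl, rfl⟩ | ⟨rfl, rfl⟩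
    · -- (2,3) = (0,0)
      omega
    · -- (2,3) = (1,1)
      omega
    · -- (2,3) = (1,2)
      omega
    · -- (2,3) = (2,1)
      omega
    · -- (2,3) = (1,3)
      omega
    · -- (2,3) = (3,1)
      omega
    · -- (2,3) = (1,4)
      omega
    · -- (2,3) = (4,1)
      omega
    · -- (2,3) = (2,2)
      omega
  · -- (1,3) = (2,1)
    rcases Q_2 with ⟨rfl, rfl⟩ | ⟨rfl, rfl⟩ | ⟨rfl, rfl⟩ | ⟨rfl, rfl⟩ | ⟨rfl, rfl⟩ | ⟨rfl, rfl⟩ | ⟨rfl, rfl⟩ | ⟨rfl, rfl⟩ | ⟨rfl, rfl⟩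
    · -- (2,3) = (0,0)
      omega
    · -- (2,3) = (1,1)
      omega
    · -- (2,3) = (1,2)
      omega
    · -- (2,3) = (2,1)
      omega
    · -- (2,3) = (1,3)
      omega
    · -- (2,3) = (3,1)
      omega
    · -- (2,3) = (1,4)
      omega
    · -- (2,3) = (4,1)
      omega
    · -- (2,3) = (2,2)
      omega
  · omega
  · omega
  · omega
  · omega
  · omega

theorem nd_8 (T : Models.NumericalType 4)
    (hG : NTGood T)
    (hmax : ∀ j, T.m j ≤ T.m 0)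
    (e_0_1 : T.picMatrix 0 1 = 1)
    (e_0_2 : T.picMatrix 0 2 = 1)
    (e_1_0 : T.picMatrix 1 0 = 1)
    (e_1_2 : T.picMatrix 1 2 = 0)
    (e_2_0 : T.picMatrix 2 0 = 1)
    (e_2_1 : T.picMatrix 2 1 = 0)
    (cl : ∀ a b : Fin 4, a.val < 1 → 3 ≤ b.val → T.picMatrix a b = 0) :
    Goal T := by
  by_cases hc : ∀ b : Fin 4, 3 ≤ b.val → T.picMatrix 1 b = 0
  · exact nd_9 T hG hmax e_0_1 e_0_2 e_1_0 e_1_2 e_2_0 e_2_1 (nt_cl_succ T 3 1 1 rfl cl hc)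
  · obtain ⟨τ, hfix, cl', z, hne⟩ := nt_wlog_step T 3 (by norm_num) 1 (by norm_num) 1 (by decide) cl hc
    apply goal_relabel T τ
    refine ex_10 (ntRelabel T τ) (hG.relabel τ) ?_ ?_ ?_ ?_ ?_ ?_ ?_ cl' z hne
    · intro j
      show T.m (τ j) ≤ T.m (τ 0)
      rw [hfix 0 (by decide)]
      exact hmax _
    · show T.picMatrix (τ 0) (τ 1) = 1
      rw [hfix 0 (by decide), hfix 1 (by decide)]
      exact e_0_1
    · show T.picMatrix (τ 0) (τ 2) = 1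
      rw [hfix 0 (by decide), hfix 2 (by decide)]
      exact e_0_2
    · show T.picMatrix (τ 1) (τ 0) = 1
      rw [hfix 1 (by decide), hfix 0 (by decide)]
      exact e_1_0
    · show T.picMatrix (τ 1) (τ 2) = 0
      rw [hfix 1 (by decide), hfix 2 (by decide)]
      exact e_1_2
    · show T.picMatrix (τ 2) (τ 0) = 1
      rw [hfix 2 (by decide), hfix 0 (by decide)]
      exact e_2_0
    · show T.picMatrix (τ 2) (τ 1) = 0
      rw [hfix 2 (by decide), hfix 1 (by decide)]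
      exact e_2_1

theorem nd_13 (T : Models.NumericalType 4)
    (hG : NTGood T)
    (hmax : ∀ j, T.m j ≤ T.m 0)
    (e_0_1 : T.picMatrix 0 1 = 1)
    (e_0_2 : T.picMatrix 0 2 = 1)
    (e_0_3 : T.picMatrix 0 3 = 1)
    (e_1_0 : T.picMatrix 1 0 = 1)
    (e_1_2 : T.picMatrix 1 2 = 0)
    (e_1_3 : T.picMatrix 1 3 = 0)
    (e_2_0 : T.picMatrix 2 0 = 1)
    (e_2_1 : T.picMatrix 2 1 = 0)
    (e_2_3 : T.picMatrix 2 3 = 0)
    (e_3_0 : T.picMatrix 3 0 = 2)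
    (e_3_1 : T.picMatrix 3 1 = 0)
    (e_3_2 : T.picMatrix 3 2 = 0)
    (cl : ∀ a b : Fin 4, a.val < 0 → 4 ≤ b.val → T.picMatrix a b = 0) :
    Goal T := by
  obtain ⟨hg0, hdA, hdP, hnn, hrow, hsym, hpair⟩ := ntgood_data T (by norm_num) hG
  have hm_0 := T.m_pos 0
  have hw_0 := T.w_pos 0
  have hm_1 := T.m_pos 1
  have hw_1 := T.w_pos 1
  have hm_2 := T.m_pos 2
  have hw_2 := T.w_pos 2
  have hm_3 := T.m_pos 3
  have hw_3 := T.w_pos 3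
  have hx_1 := hmax 1
  have hx_2 := hmax 2
  have hx_3 := hmax 3
  have R_0 := hrow 0
  rw [Fin.sum_univ_four, hdP 0, e_0_1, e_0_2, e_0_3] at R_0
  have R_1 := hrow 1
  rw [Fin.sum_univ_four, hdP 1, e_1_0, e_1_2, e_1_3] at R_1
  have R_2 := hrow 2
  rw [Fin.sum_univ_four, hdP 2, e_2_0, e_2_1, e_2_3] at R_2
  have R_3 := hrow 3
  rw [Fin.sum_univ_four, hdP 3, e_3_0, e_3_1, e_3_2] at R_3
  have S_0_1 := hsym 0 1
  rw [e_0_1, e_1_0] at S_0_1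
  have S_0_2 := hsym 0 2
  rw [e_0_2, e_2_0] at S_0_2
  have S_0_3 := hsym 0 3
  rw [e_0_3, e_3_0] at S_0_3
  have S_1_2 := hsym 1 2
  rw [e_1_2, e_2_1] at S_1_2
  have S_1_3 := hsym 1 3
  rw [e_1_3, e_3_1] at S_1_3
  have S_2_3 := hsym 2 3
  rw [e_2_3, e_3_2] at S_2_3
  have D_0 := hdA 0
  have A_0_1 := nt_a_eq T 0 1
  rw [e_0_1] at A_0_1
  have A_0_2 := nt_a_eq T 0 2
  rw [e_0_2] at A_0_2
  have A_0_3 := nt_a_eq T 0 3
  rw [e_0_3] at A_0_3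
  have D_1 := hdA 1
  have A_1_0 := nt_a_eq T 1 0
  rw [e_1_0] at A_1_0
  have A_1_2 := nt_a_eq T 1 2
  rw [e_1_2] at A_1_2
  have A_1_3 := nt_a_eq T 1 3
  rw [e_1_3] at A_1_3
  have D_2 := hdA 2
  have A_2_0 := nt_a_eq T 2 0
  rw [e_2_0] at A_2_0
  have A_2_1 := nt_a_eq T 2 1
  rw [e_2_1] at A_2_1
  have A_2_3 := nt_a_eq T 2 3
  rw [e_2_3] at A_2_3
  have D_3 := hdA 3
  have A_3_0 := nt_a_eq T 3 0
  rw [e_3_0] at A_3_0
  have A_3_1 := nt_a_eq T 3 1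
  rw [e_3_1] at A_3_1
  have A_3_2 := nt_a_eq T 3 2
  rw [e_3_2] at A_3_2
  refine goal_of_indices T hg0 0 1 2 3 (by decide) (T.m 1) (T.w 3) ?_
  unfold Goali
  exact Or.inr (Or.inr (Or.inr (Or.inr (Or.inr (⟨by omega, by omega, by omega, by omega, by omega, by omega, by omega, by omega, by omega, by omega, by omega, by omega, by omega, by omega, by omega, by omega, by omega, by omega⟩)))))

theorem nd_14 (T : Models.NumericalType 4)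
    (hG : NTGood T)
    (hmax : ∀ j, T.m j ≤ T.m 0)
    (e_0_1 : T.picMatrix 0 1 = 1)
    (e_0_2 : T.picMatrix 0 2 = 1)
    (e_0_3 : T.picMatrix 0 3 = 2)
    (e_1_0 : T.picMatrix 1 0 = 1)
    (e_1_2 : T.picMatrix 1 2 = 0)
    (e_1_3 : T.picMatrix 1 3 = 0)
    (e_2_0 : T.picMatrix 2 0 = 1)
    (e_2_1 : T.picMatrix 2 1 = 0)
    (e_2_3 : T.picMatrix 2 3 = 0)
    (e_3_0 : T.picMatrix 3 0 = 1)
    (e_3_1 : T.picMatrix 3 1 = 0)
    (e_3_2 : T.picMatrix 3 2 = 0)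
    (cl : ∀ a b : Fin 4, a.val < 0 → 4 ≤ b.val → T.picMatrix a b = 0) :
    Goal T := by
  obtain ⟨hg0, hdA, hdP, hnn, hrow, hsym, hpair⟩ := ntgood_data T (by norm_num) hG
  have hm_0 := T.m_pos 0
  have hw_0 := T.w_pos 0
  have hm_1 := T.m_pos 1
  have hw_1 := T.w_pos 1
  have hm_2 := T.m_pos 2
  have hw_2 := T.w_pos 2
  have hm_3 := T.m_pos 3
  have hw_3 := T.w_pos 3
  have hx_1 := hmax 1
  have hx_2 := hmax 2
  have hx_3 := hmax 3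
  have R_0 := hrow 0
  rw [Fin.sum_univ_four, hdP 0, e_0_1, e_0_2, e_0_3] at R_0
  have R_1 := hrow 1
  rw [Fin.sum_univ_four, hdP 1, e_1_0, e_1_2, e_1_3] at R_1
  have R_2 := hrow 2
  rw [Fin.sum_univ_four, hdP 2, e_2_0, e_2_1, e_2_3] at R_2
  have R_3 := hrow 3
  rw [Fin.sum_univ_four, hdP 3, e_3_0, e_3_1, e_3_2] at R_3
  have S_0_1 := hsym 0 1
  rw [e_0_1, e_1_0] at S_0_1
  have S_0_2 := hsym 0 2
  rw [e_0_2, e_2_0] at S_0_2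
  have S_0_3 := hsym 0 3
  rw [e_0_3, e_3_0] at S_0_3
  have S_1_2 := hsym 1 2
  rw [e_1_2, e_2_1] at S_1_2
  have S_1_3 := hsym 1 3
  rw [e_1_3, e_3_1] at S_1_3
  have S_2_3 := hsym 2 3
  rw [e_2_3, e_3_2] at S_2_3
  have D_0 := hdA 0
  have A_0_1 := nt_a_eq T 0 1
  rw [e_0_1] at A_0_1
  have A_0_2 := nt_a_eq T 0 2
  rw [e_0_2] at A_0_2
  have A_0_3 := nt_a_eq T 0 3
  rw [e_0_3] at A_0_3
  have D_1 := hdA 1
  have A_1_0 := nt_a_eq T 1 0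
  rw [e_1_0] at A_1_0
  have A_1_2 := nt_a_eq T 1 2
  rw [e_1_2] at A_1_2
  have A_1_3 := nt_a_eq T 1 3
  rw [e_1_3] at A_1_3
  have D_2 := hdA 2
  have A_2_0 := nt_a_eq T 2 0
  rw [e_2_0] at A_2_0
  have A_2_1 := nt_a_eq T 2 1
  rw [e_2_1] at A_2_1
  have A_2_3 := nt_a_eq T 2 3
  rw [e_2_3] at A_2_3
  have D_3 := hdA 3
  have A_3_0 := nt_a_eq T 3 0
  rw [e_3_0] at A_3_0
  have A_3_1 := nt_a_eq T 3 1
  rw [e_3_1] at A_3_1
  have A_3_2 := nt_a_eq T 3 2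
  rw [e_3_2] at A_3_2
  refine goal_of_indices T hg0 0 1 2 3 (by decide) (T.m 1) (T.w 0) ?_
  unfold Goali
  exact Or.inr (Or.inr (Or.inr (Or.inr (Or.inl ⟨by omega, by omega, by omega, by omega, by omega, by omega, by omega, by omega, by omega, by omega, by omega, by omega, by omega, by omega, by omega, by omega, by omega, by omega⟩))))

theorem ex_12 (T : Models.NumericalType 4)
    (hG : NTGood T)
    (hmax : ∀ j, T.m j ≤ T.m 0)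
    (e_0_1 : T.picMatrix 0 1 = 1)
    (e_0_2 : T.picMatrix 0 2 = 1)
    (e_1_0 : T.picMatrix 1 0 = 1)
    (e_1_2 : T.picMatrix 1 2 = 0)
    (e_2_0 : T.picMatrix 2 0 = 1)
    (e_2_1 : T.picMatrix 2 1 = 0)
    (cl : ∀ a b : Fin 4, a.val < 0 → 4 ≤ b.val → T.picMatrix a b = 0)
    (z : ∀ a : Fin 4, a.val < 0 → T.picMatrix a 3 = 0)
    (hne : T.picMatrix 0 3 ≠ 0) :
    Goal T := by
  obtain ⟨hg0, hdA, hdP, hnn, hrow, hsym, hpair⟩ := ntgood_data T (by norm_num) hG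
  have hm_0 := T.m_pos 0
  have hw_0 := T.w_pos 0
  have hm_1 := T.m_pos 1
  have hw_1 := T.w_pos 1
  have hm_2 := T.m_pos 2
  have hw_2 := T.w_pos 2
  have hm_3 := T.m_pos 3
  have hw_3 := T.w_pos 3
  have hx_1 := hmax 1
  have hx_2 := hmax 2
  have hx_3 := hmax 3
  have N_0_3 := mul_nonneg (hnn 0 3 (by decide)) (T.m_pos 3).le
  have N_3_0 := mul_nonneg (hnn 3 0 (by decide)) (T.m_pos 0).le
  have N_1_3 := mul_nonneg (hnn 1 3 (by decide)) (T.m_pos 3).le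
  have N_3_1 := mul_nonneg (hnn 3 1 (by decide)) (T.m_pos 1).le
  have N_2_3 := mul_nonneg (hnn 2 3 (by decide)) (T.m_pos 3).le
  have N_3_2 := mul_nonneg (hnn 3 2 (by decide)) (T.m_pos 2).le
  have R_0 := hrow 0
  rw [Fin.sum_univ_four, hdP 0, e_0_1, e_0_2] at R_0
  have R_1 := hrow 1
  rw [Fin.sum_univ_four, hdP 1, e_1_0, e_1_2] at R_1
  have R_2 := hrow 2
  rw [Fin.sum_univ_four, hdP 2, e_2_0, e_2_1] at R_2
  have R_3 := hrow 3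
  rw [Fin.sum_univ_four, hdP 3] at R_3
  have S_0_1 := hsym 0 1
  rw [e_0_1, e_1_0] at S_0_1
  have S_0_2 := hsym 0 2
  rw [e_0_2, e_2_0] at S_0_2
  have S_0_3 := hsym 0 3
  have S_1_2 := hsym 1 2
  rw [e_1_2, e_2_1] at S_1_2
  have S_1_3 := hsym 1 3
  have S_2_3 := hsym 2 3
  have Q_0 := hpair 0 3 (by decide)
  have Q_1 := hpair 1 3 (by decide)
  have Q_2 := hpair 2 3 (by decide)
  generalize e_0_3 : T.picMatrix 0 3 = x_0 at *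
  generalize e_3_0 : T.picMatrix 3 0 = y_0 at *
  generalize e_1_3 : T.picMatrix 1 3 = x_1 at *
  generalize e_3_1 : T.picMatrix 3 1 = y_1 at *
  generalize e_2_3 : T.picMatrix 2 3 = x_2 at *
  generalize e_3_2 : T.picMatrix 3 2 = y_2 at *
  rcases Q_0 with ⟨rfl, rfl⟩ | ⟨rfl, rfl⟩ | ⟨rfl, rfl⟩ | ⟨rfl, rfl⟩ | ⟨rfl, rfl⟩ | ⟨rfl, rfl⟩ | ⟨rfl, rfl⟩ | ⟨rfl, rfl⟩ | ⟨rfl, rfl⟩
  · exact absurd rfl hne
  · -- (0,3) = (1,1)
    rcases Q_1 with ⟨rfl, rfl⟩ | ⟨rfl, rfl⟩ | ⟨rfl, rfl⟩ | ⟨rfl, rfl⟩ | ⟨rfl, rfl⟩ | ⟨rfl, rfl⟩ | ⟨rfl, rfl⟩ | ⟨rfl, rfl⟩ | ⟨rfl, rfl⟩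
    · -- (1,3) = (0,0)
      rcases Q_2 with ⟨rfl, rfl⟩ | ⟨rfl, rfl⟩ | ⟨rfl, rfl⟩ | ⟨rfl, rfl⟩ | ⟨rfl, rfl⟩ | ⟨rfl, rfl⟩ | ⟨rfl, rfl⟩ | ⟨rfl, rfl⟩ | ⟨rfl, rfl⟩
      · -- (2,3) = (0,0)
        omega
      · -- (2,3) = (1,1)
        omega
      · -- (2,3) = (1,2)
        omega
      · -- (2,3) = (2,1)
        omega
      · -- (2,3) = (1,3)
        omega
      · -- (2,3) = (3,1)
        omega
      · -- (2,3) = (1,4)
        omega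
      · -- (2,3) = (4,1)
        omega
      · -- (2,3) = (2,2)
        omega
    · omega
    · omega
    · omega
    · omega
    · omega
    · omega
    · omega
    · omega
  · -- (0,3) = (1,2)
    rcases Q_1 with ⟨rfl, rfl⟩ | ⟨rfl, rfl⟩ | ⟨rfl, rfl⟩ | ⟨rfl, rfl⟩ | ⟨rfl, rfl⟩ | ⟨rfl, rfl⟩ | ⟨rfl, rfl⟩ | ⟨rfl, rfl⟩ | ⟨rfl, rfl⟩
    · -- (1,3) = (0,0)
      rcases Q_2 with ⟨rfl, rfl⟩ | ⟨rfl, rfl⟩ | ⟨rfl, rfl⟩ | ⟨rfl, rfl⟩ | ⟨rfl, rfl⟩ | ⟨rfl, rfl⟩ | ⟨rfl, rfl⟩ | ⟨rfl, rfl⟩ | ⟨rfl, rfl⟩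
      · -- (2,3) = (0,0)
        exact nd_13 T hG hmax e_0_1 e_0_2 e_0_3 e_1_0 e_1_2 e_1_3 e_2_0 e_2_1 e_2_3 e_3_0 e_3_1 e_3_2 cl
      · -- (2,3) = (1,1)
        omega
      · -- (2,3) = (1,2)
        omega
      · -- (2,3) = (2,1)
        omega
      · -- (2,3) = (1,3)
        omega
      · -- (2,3) = (3,1)
        omega
      · -- (2,3) = (1,4)
        omega
      · -- (2,3) = (4,1)
        omega
      · -- (2,3) = (2,2)
        omega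
    · omega
    · omega
    · omega
    · omega
    · omega
    · omega
    · omega
    · omega
  · -- (0,3) = (2,1)
    rcases Q_1 with ⟨rfl, rfl⟩ | ⟨rfl, rfl⟩ | ⟨rfl, rfl⟩ | ⟨rfl, rfl⟩ | ⟨rfl, rfl⟩ | ⟨rfl, rfl⟩ | ⟨rfl, rfl⟩ | ⟨rfl, rfl⟩ | ⟨rfl, rfl⟩
    · -- (1,3) = (0,0)
      rcases Q_2 with ⟨rfl, rfl⟩ | ⟨rfl, rfl⟩ | ⟨rfl, rfl⟩ | ⟨rfl, rfl⟩ | ⟨rfl, rfl⟩ | ⟨rfl, rfl⟩ | ⟨rfl, rfl⟩ | ⟨rfl, rfl⟩ | ⟨rfl, rfl⟩
      · -- (2,3) = (0,0)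
        exact nd_14 T hG hmax e_0_1 e_0_2 e_0_3 e_1_0 e_1_2 e_1_3 e_2_0 e_2_1 e_2_3 e_3_0 e_3_1 e_3_2 cl
      · -- (2,3) = (1,1)
        omega
      · -- (2,3) = (1,2)
        omega
      · -- (2,3) = (2,1)
        omega
      · -- (2,3) = (1,3)
        omega
      · -- (2,3) = (3,1)
        omega
      · -- (2,3) = (1,4)
        omega
      · -- (2,3) = (4,1)
        omega
      · -- (2,3) = (2,2)
        omega
    · omega
    · omega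
    · omega
    · omega
    · omega
    · omega
    · omega
    · omega
  · omega
  · omega
  · omega
  · omega
  · omega

theorem nd_7 (T : Models.NumericalType 4)
    (hG : NTGood T)
    (hmax : ∀ j, T.m j ≤ T.m 0)
    (e_0_1 : T.picMatrix 0 1 = 1)
    (e_0_2 : T.picMatrix 0 2 = 1)
    (e_1_0 : T.picMatrix 1 0 = 1)
    (e_1_2 : T.picMatrix 1 2 = 0)
    (e_2_0 : T.picMatrix 2 0 = 1)
    (e_2_1 : T.picMatrix 2 1 = 0)
    (cl : ∀ a b : Fin 4, a.val < 0 → 3 ≤ b.val → T.picMatrix a b = 0) :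
    Goal T := by
  by_cases hc : ∀ b : Fin 4, 3 ≤ b.val → T.picMatrix 0 b = 0
  · exact nd_8 T hG hmax e_0_1 e_0_2 e_1_0 e_1_2 e_2_0 e_2_1 (nt_cl_succ T 3 0 0 rfl cl hc)
  · obtain ⟨τ, hfix, cl', z, hne⟩ := nt_wlog_step T 3 (by norm_num) 0 (by norm_num) 0 (by decide) cl hc
    apply goal_relabel T τ
    refine ex_12 (ntRelabel T τ) (hG.relabel τ) ?_ ?_ ?_ ?_ ?_ ?_ ?_ cl' z hne
    · intro j
      show T.m (τ j) ≤ T.m (τ 0)
      rw [hfix 0 (by decide)]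
      exact hmax _
    · show T.picMatrix (τ 0) (τ 1) = 1
      rw [hfix 0 (by decide), hfix 1 (by decide)]
      exact e_0_1
    · show T.picMatrix (τ 0) (τ 2) = 1
      rw [hfix 0 (by decide), hfix 2 (by decide)]
      exact e_0_2
    · show T.picMatrix (τ 1) (τ 0) = 1
      rw [hfix 1 (by decide), hfix 0 (by decide)]
      exact e_1_0
    · show T.picMatrix (τ 1) (τ 2) = 0
      rw [hfix 1 (by decide), hfix 2 (by decide)]
      exact e_1_2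
    · show T.picMatrix (τ 2) (τ 0) = 1
      rw [hfix 2 (by decide), hfix 0 (by decide)]
      exact e_2_0
    · show T.picMatrix (τ 2) (τ 1) = 0
      rw [hfix 2 (by decide), hfix 1 (by decide)]
      exact e_2_1

theorem nd_18 (T : Models.NumericalType 4)
    (hG : NTGood T)
    (hmax : ∀ j, T.m j ≤ T.m 0)
    (e_0_1 : T.picMatrix 0 1 = 1)
    (e_0_2 : T.picMatrix 0 2 = 1)
    (e_1_0 : T.picMatrix 1 0 = 1)
    (e_1_2 : T.picMatrix 1 2 = 1)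
    (e_2_0 : T.picMatrix 2 0 = 1)
    (e_2_1 : T.picMatrix 2 1 = 1)
    (cl : ∀ a b : Fin 4, a.val < 3 → 3 ≤ b.val → T.picMatrix a b = 0) :
    Goal T := by
  exact (nt_closed_false T 3 (by norm_num) (by norm_num) cl).elim

theorem ex_19 (T : Models.NumericalType 4)
    (hG : NTGood T)
    (hmax : ∀ j, T.m j ≤ T.m 0)
    (e_0_1 : T.picMatrix 0 1 = 1)
    (e_0_2 : T.picMatrix 0 2 = 1)
    (e_1_0 : T.picMatrix 1 0 = 1)
    (e_1_2 : T.picMatrix 1 2 = 1)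
    (e_2_0 : T.picMatrix 2 0 = 1)
    (e_2_1 : T.picMatrix 2 1 = 1)
    (cl : ∀ a b : Fin 4, a.val < 2 → 4 ≤ b.val → T.picMatrix a b = 0)
    (z : ∀ a : Fin 4, a.val < 2 → T.picMatrix a 3 = 0)
    (hne : T.picMatrix 2 3 ≠ 0) :
    Goal T := by
  have e_0_3 : T.picMatrix 0 3 = 0 := z 0 (by decide)
  have e_3_0 : T.picMatrix 3 0 = 0 := nt_pic_zero_symm T 0 3 e_0_3
  have e_1_3 : T.picMatrix 1 3 = 0 := z 1 (by decide)
  have e_3_1 : T.picMatrix 3 1 = 0 := nt_pic_zero_symm T 1 3 e_1_3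
  obtain ⟨hg0, hdA, hdP, hnn, hrow, hsym, hpair⟩ := ntgood_data T (by norm_num) hG
  have hm_0 := T.m_pos 0
  have hw_0 := T.w_pos 0
  have hm_1 := T.m_pos 1
  have hw_1 := T.w_pos 1
  have hm_2 := T.m_pos 2
  have hw_2 := T.w_pos 2
  have hm_3 := T.m_pos 3
  have hw_3 := T.w_pos 3
  have hx_1 := hmax 1
  have hx_2 := hmax 2
  have hx_3 := hmax 3
  have N_2_3 := mul_nonneg (hnn 2 3 (by decide)) (T.m_pos 3).le
  have N_3_2 := mul_nonneg (hnn 3 2 (by decide)) (T.m_pos 2).le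
  have R_0 := hrow 0
  rw [Fin.sum_univ_four, hdP 0, e_0_1, e_0_2, e_0_3] at R_0
  have R_1 := hrow 1
  rw [Fin.sum_univ_four, hdP 1, e_1_0, e_1_2, e_1_3] at R_1
  have R_2 := hrow 2
  rw [Fin.sum_univ_four, hdP 2, e_2_0, e_2_1] at R_2
  have R_3 := hrow 3
  rw [Fin.sum_univ_four, hdP 3, e_3_0, e_3_1] at R_3
  have S_0_1 := hsym 0 1
  rw [e_0_1, e_1_0] at S_0_1
  have S_0_2 := hsym 0 2
  rw [e_0_2, e_2_0] at S_0_2
  have S_0_3 := hsym 0 3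
  rw [e_0_3, e_3_0] at S_0_3
  have S_1_2 := hsym 1 2
  rw [e_1_2, e_2_1] at S_1_2
  have S_1_3 := hsym 1 3
  rw [e_1_3, e_3_1] at S_1_3
  have S_2_3 := hsym 2 3
  have Q_2 := hpair 2 3 (by decide)
  generalize e_2_3 : T.picMatrix 2 3 = x_2 at *
  generalize e_3_2 : T.picMatrix 3 2 = y_2 at *
  rcases Q_2 with ⟨rfl, rfl⟩ | ⟨rfl, rfl⟩ | ⟨rfl, rfl⟩ | ⟨rfl, rfl⟩ | ⟨rfl, rfl⟩ | ⟨rfl, rfl⟩ | ⟨rfl, rfl⟩ | ⟨rfl, rfl⟩ | ⟨rfl, rfl⟩
  · exact absurd rfl hne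
  · -- (2,3) = (1,1)
    omega
  · -- (2,3) = (1,2)
    omega
  · -- (2,3) = (2,1)
    omega
  · -- (2,3) = (1,3)
    omega
  · -- (2,3) = (3,1)
    omega
  · -- (2,3) = (1,4)
    omega
  · -- (2,3) = (4,1)
    omega
  · -- (2,3) = (2,2)
    omega

theorem nd_17 (T : Models.NumericalType 4)
    (hG : NTGood T)
    (hmax : ∀ j, T.m j ≤ T.m 0)
    (e_0_1 : T.picMatrix 0 1 = 1)
    (e_0_2 : T.picMatrix 0 2 = 1)
    (e_1_0 : T.picMatrix 1 0 = 1)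
    (e_1_2 : T.picMatrix 1 2 = 1)
    (e_2_0 : T.picMatrix 2 0 = 1)
    (e_2_1 : T.picMatrix 2 1 = 1)
    (cl : ∀ a b : Fin 4, a.val < 2 → 3 ≤ b.val → T.picMatrix a b = 0) :
    Goal T := by
  by_cases hc : ∀ b : Fin 4, 3 ≤ b.val → T.picMatrix 2 b = 0
  · exact nd_18 T hG hmax e_0_1 e_0_2 e_1_0 e_1_2 e_2_0 e_2_1 (nt_cl_succ T 3 2 2 rfl cl hc)
  · obtain ⟨τ, hfix, cl', z, hne⟩ := nt_wlog_step T 3 (by norm_num) 2 (by norm_num) 2 (by decide) cl hc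
    apply goal_relabel T τ
    refine ex_19 (ntRelabel T τ) (hG.relabel τ) ?_ ?_ ?_ ?_ ?_ ?_ ?_ cl' z hne
    · intro j
      show T.m (τ j) ≤ T.m (τ 0)
      rw [hfix 0 (by decide)]
      exact hmax _
    · show T.picMatrix (τ 0) (τ 1) = 1
      rw [hfix 0 (by decide), hfix 1 (by decide)]
      exact e_0_1
    · show T.picMatrix (τ 0) (τ 2) = 1
      rw [hfix 0 (by decide), hfix 2 (by decide)]
      exact e_0_2
    · show T.picMatrix (τ 1) (τ 0) = 1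
      rw [hfix 1 (by decide), hfix 0 (by decide)]
      exact e_1_0
    · show T.picMatrix (τ 1) (τ 2) = 1
      rw [hfix 1 (by decide), hfix 2 (by decide)]
      exact e_1_2
    · show T.picMatrix (τ 2) (τ 0) = 1
      rw [hfix 2 (by decide), hfix 0 (by decide)]
      exact e_2_0
    · show T.picMatrix (τ 2) (τ 1) = 1
      rw [hfix 2 (by decide), hfix 1 (by decide)]
      exact e_2_1

theorem ex_20 (T : Models.NumericalType 4)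
    (hG : NTGood T)
    (hmax : ∀ j, T.m j ≤ T.m 0)
    (e_0_1 : T.picMatrix 0 1 = 1)
    (e_0_2 : T.picMatrix 0 2 = 1)
    (e_1_0 : T.picMatrix 1 0 = 1)
    (e_1_2 : T.picMatrix 1 2 = 1)
    (e_2_0 : T.picMatrix 2 0 = 1)
    (e_2_1 : T.picMatrix 2 1 = 1)
    (cl : ∀ a b : Fin 4, a.val < 1 → 4 ≤ b.val → T.picMatrix a b = 0)
    (z : ∀ a : Fin 4, a.val < 1 → T.picMatrix a 3 = 0)
    (hne : T.picMatrix 1 3 ≠ 0) :
    Goal T := by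
  have e_0_3 : T.picMatrix 0 3 = 0 := z 0 (by decide)
  have e_3_0 : T.picMatrix 3 0 = 0 := nt_pic_zero_symm T 0 3 e_0_3
  obtain ⟨hg0, hdA, hdP, hnn, hrow, hsym, hpair⟩ := ntgood_data T (by norm_num) hG
  have hm_0 := T.m_pos 0
  have hw_0 := T.w_pos 0
  have hm_1 := T.m_pos 1
  have hw_1 := T.w_pos 1
  have hm_2 := T.m_pos 2
  have hw_2 := T.w_pos 2
  have hm_3 := T.m_pos 3
  have hw_3 := T.w_pos 3
  have hx_1 := hmax 1
  have hx_2 := hmax 2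
  have hx_3 := hmax 3
  have N_1_3 := mul_nonneg (hnn 1 3 (by decide)) (T.m_pos 3).le
  have N_3_1 := mul_nonneg (hnn 3 1 (by decide)) (T.m_pos 1).le
  have N_2_3 := mul_nonneg (hnn 2 3 (by decide)) (T.m_pos 3).le
  have N_3_2 := mul_nonneg (hnn 3 2 (by decide)) (T.m_pos 2).le
  have R_0 := hrow 0
  rw [Fin.sum_univ_four, hdP 0, e_0_1, e_0_2, e_0_3] at R_0
  have R_1 := hrow 1
  rw [Fin.sum_univ_four, hdP 1, e_1_0, e_1_2] at R_1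
  have R_2 := hrow 2
  rw [Fin.sum_univ_four, hdP 2, e_2_0, e_2_1] at R_2
  have R_3 := hrow 3
  rw [Fin.sum_univ_four, hdP 3, e_3_0] at R_3
  have S_0_1 := hsym 0 1
  rw [e_0_1, e_1_0] at S_0_1
  have S_0_2 := hsym 0 2
  rw [e_0_2, e_2_0] at S_0_2
  have S_0_3 := hsym 0 3
  rw [e_0_3, e_3_0] at S_0_3
  have S_1_2 := hsym 1 2
  rw [e_1_2, e_2_1] at S_1_2
  have S_1_3 := hsym 1 3
  have S_2_3 := hsym 2 3
  have Q_1 := hpair 1 3 (by decide)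
  have Q_2 := hpair 2 3 (by decide)
  generalize e_1_3 : T.picMatrix 1 3 = x_1 at *
  generalize e_3_1 : T.picMatrix 3 1 = y_1 at *
  generalize e_2_3 : T.picMatrix 2 3 = x_2 at *
  generalize e_3_2 : T.picMatrix 3 2 = y_2 at *
  rcases Q_1 with ⟨rfl, rfl⟩ | ⟨rfl, rfl⟩ | ⟨rfl, rfl⟩ | ⟨rfl, rfl⟩ | ⟨rfl, rfl⟩ | ⟨rfl, rfl⟩ | ⟨rfl, rfl⟩ | ⟨rfl, rfl⟩ | ⟨rfl, rfl⟩
  · exact absurd rfl hne
  · omega
  · omega
  · omega
  · omega
  · omega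
  · omega
  · omega
  · omega

theorem nd_16 (T : Models.NumericalType 4)
    (hG : NTGood T)
    (hmax : ∀ j, T.m j ≤ T.m 0)
    (e_0_1 : T.picMatrix 0 1 = 1)
    (e_0_2 : T.picMatrix 0 2 = 1)
    (e_1_0 : T.picMatrix 1 0 = 1)
    (e_1_2 : T.picMatrix 1 2 = 1)
    (e_2_0 : T.picMatrix 2 0 = 1)
    (e_2_1 : T.picMatrix 2 1 = 1)
    (cl : ∀ a b : Fin 4, a.val < 1 → 3 ≤ b.val → T.picMatrix a b = 0) :
    Goal T := by
  by_cases hc : ∀ b : Fin 4, 3 ≤ b.val → T.picMatrix 1 b = 0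
  · exact nd_17 T hG hmax e_0_1 e_0_2 e_1_0 e_1_2 e_2_0 e_2_1 (nt_cl_succ T 3 1 1 rfl cl hc)
  · obtain ⟨τ, hfix, cl', z, hne⟩ := nt_wlog_step T 3 (by norm_num) 1 (by norm_num) 1 (by decide) cl hc
    apply goal_relabel T τ
    refine ex_20 (ntRelabel T τ) (hG.relabel τ) ?_ ?_ ?_ ?_ ?_ ?_ ?_ cl' z hne
    · intro j
      show T.m (τ j) ≤ T.m (τ 0)
      rw [hfix 0 (by decide)]
      exact hmax _
    · show T.picMatrix (τ 0) (τ 1) = 1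
      rw [hfix 0 (by decide), hfix 1 (by decide)]
      exact e_0_1
    · show T.picMatrix (τ 0) (τ 2) = 1
      rw [hfix 0 (by decide), hfix 2 (by decide)]
      exact e_0_2
    · show T.picMatrix (τ 1) (τ 0) = 1
      rw [hfix 1 (by decide), hfix 0 (by decide)]
      exact e_1_0
    · show T.picMatrix (τ 1) (τ 2) = 1
      rw [hfix 1 (by decide), hfix 2 (by decide)]
      exact e_1_2
    · show T.picMatrix (τ 2) (τ 0) = 1
      rw [hfix 2 (by decide), hfix 0 (by decide)]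
      exact e_2_0
    · show T.picMatrix (τ 2) (τ 1) = 1
      rw [hfix 2 (by decide), hfix 1 (by decide)]
      exact e_2_1

theorem ex_21 (T : Models.NumericalType 4)
    (hG : NTGood T)
    (hmax : ∀ j, T.m j ≤ T.m 0)
    (e_0_1 : T.picMatrix 0 1 = 1)
    (e_0_2 : T.picMatrix 0 2 = 1)
    (e_1_0 : T.picMatrix 1 0 = 1)
    (e_1_2 : T.picMatrix 1 2 = 1)
    (e_2_0 : T.picMatrix 2 0 = 1)
    (e_2_1 : T.picMatrix 2 1 = 1)
    (cl : ∀ a b : Fin 4, a.val < 0 → 4 ≤ b.val → T.picMatrix a b = 0)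
    (z : ∀ a : Fin 4, a.val < 0 → T.picMatrix a 3 = 0)
    (hne : T.picMatrix 0 3 ≠ 0) :
    Goal T := by
  obtain ⟨hg0, hdA, hdP, hnn, hrow, hsym, hpair⟩ := ntgood_data T (by norm_num) hG
  have hm_0 := T.m_pos 0
  have hw_0 := T.w_pos 0
  have hm_1 := T.m_pos 1
  have hw_1 := T.w_pos 1
  have hm_2 := T.m_pos 2
  have hw_2 := T.w_pos 2
  have hm_3 := T.m_pos 3
  have hw_3 := T.w_pos 3
  have hx_1 := hmax 1
  have hx_2 := hmax 2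
  have hx_3 := hmax 3
  have N_0_3 := mul_nonneg (hnn 0 3 (by decide)) (T.m_pos 3).le
  have N_3_0 := mul_nonneg (hnn 3 0 (by decide)) (T.m_pos 0).le
  have N_1_3 := mul_nonneg (hnn 1 3 (by decide)) (T.m_pos 3).le
  have N_3_1 := mul_nonneg (hnn 3 1 (by decide)) (T.m_pos 1).le
  have N_2_3 := mul_nonneg (hnn 2 3 (by decide)) (T.m_pos 3).le
  have N_3_2 := mul_nonneg (hnn 3 2 (by decide)) (T.m_pos 2).le
  have R_0 := hrow 0
  rw [Fin.sum_univ_four, hdP 0, e_0_1, e_0_2] at R_0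
  have R_1 := hrow 1
  rw [Fin.sum_univ_four, hdP 1, e_1_0, e_1_2] at R_1
  have R_2 := hrow 2
  rw [Fin.sum_univ_four, hdP 2, e_2_0, e_2_1] at R_2
  have R_3 := hrow 3
  rw [Fin.sum_univ_four, hdP 3] at R_3
  have S_0_1 := hsym 0 1
  rw [e_0_1, e_1_0] at S_0_1
  have S_0_2 := hsym 0 2
  rw [e_0_2, e_2_0] at S_0_2
  have S_0_3 := hsym 0 3
  have S_1_2 := hsym 1 2
  rw [e_1_2, e_2_1] at S_1_2
  have S_1_3 := hsym 1 3
  have S_2_3 := hsym 2 3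
  have Q_0 := hpair 0 3 (by decide)
  have Q_1 := hpair 1 3 (by decide)
  have Q_2 := hpair 2 3 (by decide)
  generalize e_0_3 : T.picMatrix 0 3 = x_0 at *
  generalize e_3_0 : T.picMatrix 3 0 = y_0 at *
  generalize e_1_3 : T.picMatrix 1 3 = x_1 at *
  generalize e_3_1 : T.picMatrix 3 1 = y_1 at *
  generalize e_2_3 : T.picMatrix 2 3 = x_2 at *
  generalize e_3_2 : T.picMatrix 3 2 = y_2 at *
  rcases Q_0 with ⟨rfl, rfl⟩ | ⟨rfl, rfl⟩ | ⟨rfl, rfl⟩ | ⟨rfl, rfl⟩ | ⟨rfl, rfl⟩ | ⟨rfl, rfl⟩ | ⟨rfl, rfl⟩ | ⟨rfl, rfl⟩ | ⟨rfl, rfl⟩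
  · exact absurd rfl hne
  · omega
  · omega
  · omega
  · omega
  · omega
  · omega
  · omega
  · omega

theorem nd_15 (T : Models.NumericalType 4)
    (hG : NTGood T)
    (hmax : ∀ j, T.m j ≤ T.m 0)
    (e_0_1 : T.picMatrix 0 1 = 1)
    (e_0_2 : T.picMatrix 0 2 = 1)
    (e_1_0 : T.picMatrix 1 0 = 1)
    (e_1_2 : T.picMatrix 1 2 = 1)
    (e_2_0 : T.picMatrix 2 0 = 1)
    (e_2_1 : T.picMatrix 2 1 = 1)
    (cl : ∀ a b : Fin 4, a.val < 0 → 3 ≤ b.val → T.picMatrix a b = 0) :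
    Goal T := by
  by_cases hc : ∀ b : Fin 4, 3 ≤ b.val → T.picMatrix 0 b = 0
  · exact nd_16 T hG hmax e_0_1 e_0_2 e_1_0 e_1_2 e_2_0 e_2_1 (nt_cl_succ T 3 0 0 rfl cl hc)
  · obtain ⟨τ, hfix, cl', z, hne⟩ := nt_wlog_step T 3 (by norm_num) 0 (by norm_num) 0 (by decide) cl hc
    apply goal_relabel T τ
    refine ex_21 (ntRelabel T τ) (hG.relabel τ) ?_ ?_ ?_ ?_ ?_ ?_ ?_ cl' z hne
    · intro j
      show T.m (τ j) ≤ T.m (τ 0)
      rw [hfix 0 (by decide)]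
      exact hmax _
    · show T.picMatrix (τ 0) (τ 1) = 1
      rw [hfix 0 (by decide), hfix 1 (by decide)]
      exact e_0_1
    · show T.picMatrix (τ 0) (τ 2) = 1
      rw [hfix 0 (by decide), hfix 2 (by decide)]
      exact e_0_2
    · show T.picMatrix (τ 1) (τ 0) = 1
      rw [hfix 1 (by decide), hfix 0 (by decide)]
      exact e_1_0
    · show T.picMatrix (τ 1) (τ 2) = 1
      rw [hfix 1 (by decide), hfix 2 (by decide)]
      exact e_1_2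
    · show T.picMatrix (τ 2) (τ 0) = 1
      rw [hfix 2 (by decide), hfix 0 (by decide)]
      exact e_2_0
    · show T.picMatrix (τ 2) (τ 1) = 1
      rw [hfix 2 (by decide), hfix 1 (by decide)]
      exact e_2_1

theorem nd_24 (T : Models.NumericalType 4)
    (hG : NTGood T)
    (hmax : ∀ j, T.m j ≤ T.m 0)
    (e_0_1 : T.picMatrix 0 1 = 1)
    (e_0_2 : T.picMatrix 0 2 = 1)
    (e_1_0 : T.picMatrix 1 0 = 1)
    (e_1_2 : T.picMatrix 1 2 = 0)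
    (e_2_0 : T.picMatrix 2 0 = 2)
    (e_2_1 : T.picMatrix 2 1 = 0)
    (cl : ∀ a b : Fin 4, a.val < 2 → 3 ≤ b.val → T.picMatrix a b = 0) :
    Goal T := by
  obtain ⟨hg0, hdA, hdP, hnn, hrow, hsym, hpair⟩ := ntgood_data T (by norm_num) hG
  have hm_0 := T.m_pos 0
  have hw_0 := T.w_pos 0
  have hm_1 := T.m_pos 1
  have hw_1 := T.w_pos 1
  have hm_2 := T.m_pos 2
  have hw_2 := T.w_pos 2
  have hx_1 := hmax 1
  have hx_2 := hmax 2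
  have Z_0_3 := cl 0 3 (by decide) (by decide)
  have Z_1_3 := cl 1 3 (by decide) (by decide)
  have N_2_3 := mul_nonneg (hnn 2 3 (by decide)) (T.m_pos 3).le
  have R_0 := hrow 0
  rw [Fin.sum_univ_four, hdP 0, e_0_1, e_0_2, Z_0_3] at R_0
  have R_1 := hrow 1
  rw [Fin.sum_univ_four, hdP 1, e_1_0, e_1_2, Z_1_3] at R_1
  have R_2 := hrow 2
  rw [Fin.sum_univ_four, hdP 2, e_2_0, e_2_1] at R_2
  have S_0_1 := hsym 0 1
  rw [e_0_1, e_1_0] at S_0_1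
  have S_0_2 := hsym 0 2
  rw [e_0_2, e_2_0] at S_0_2
  have S_1_2 := hsym 1 2
  rw [e_1_2, e_2_1] at S_1_2
  exfalso
  omega

theorem nd_26 (T : Models.NumericalType 4)
    (hG : NTGood T)
    (hmax : ∀ j, T.m j ≤ T.m 0)
    (e_0_1 : T.picMatrix 0 1 = 1)
    (e_0_2 : T.picMatrix 0 2 = 1)
    (e_0_3 : T.picMatrix 0 3 = 0)
    (e_1_0 : T.picMatrix 1 0 = 1)
    (e_1_2 : T.picMatrix 1 2 = 0)
    (e_1_3 : T.picMatrix 1 3 = 1)
    (e_2_0 : T.picMatrix 2 0 = 2)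
    (e_2_1 : T.picMatrix 2 1 = 0)
    (e_2_3 : T.picMatrix 2 3 = 0)
    (e_3_0 : T.picMatrix 3 0 = 0)
    (e_3_1 : T.picMatrix 3 1 = 2)
    (e_3_2 : T.picMatrix 3 2 = 0)
    (cl : ∀ a b : Fin 4, a.val < 1 → 4 ≤ b.val → T.picMatrix a b = 0) :
    Goal T := by
  obtain ⟨hg0, hdA, hdP, hnn, hrow, hsym, hpair⟩ := ntgood_data T (by norm_num) hG
  have hm_0 := T.m_pos 0
  have hw_0 := T.w_pos 0
  have hm_1 := T.m_pos 1
  have hw_1 := T.w_pos 1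
  have hm_2 := T.m_pos 2
  have hw_2 := T.w_pos 2
  have hm_3 := T.m_pos 3
  have hw_3 := T.w_pos 3
  have hx_1 := hmax 1
  have hx_2 := hmax 2
  have hx_3 := hmax 3
  have R_0 := hrow 0
  rw [Fin.sum_univ_four, hdP 0, e_0_1, e_0_2, e_0_3] at R_0
  have R_1 := hrow 1
  rw [Fin.sum_univ_four, hdP 1, e_1_0, e_1_2, e_1_3] at R_1
  have R_2 := hrow 2
  rw [Fin.sum_univ_four, hdP 2, e_2_0, e_2_1, e_2_3] at R_2
  have R_3 := hrow 3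
  rw [Fin.sum_univ_four, hdP 3, e_3_0, e_3_1, e_3_2] at R_3
  have S_0_1 := hsym 0 1
  rw [e_0_1, e_1_0] at S_0_1
  have S_0_2 := hsym 0 2
  rw [e_0_2, e_2_0] at S_0_2
  have S_0_3 := hsym 0 3
  rw [e_0_3, e_3_0] at S_0_3
  have S_1_2 := hsym 1 2
  rw [e_1_2, e_2_1] at S_1_2
  have S_1_3 := hsym 1 3
  rw [e_1_3, e_3_1] at S_1_3
  have S_2_3 := hsym 2 3
  rw [e_2_3, e_3_2] at S_2_3
  have D_0 := hdA 0
  have A_0_1 := nt_a_eq T 0 1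
  rw [e_0_1] at A_0_1
  have A_0_2 := nt_a_eq T 0 2
  rw [e_0_2] at A_0_2
  have A_0_3 := nt_a_eq T 0 3
  rw [e_0_3] at A_0_3
  have D_1 := hdA 1
  have A_1_0 := nt_a_eq T 1 0
  rw [e_1_0] at A_1_0
  have A_1_2 := nt_a_eq T 1 2
  rw [e_1_2] at A_1_2
  have A_1_3 := nt_a_eq T 1 3
  rw [e_1_3] at A_1_3
  have D_2 := hdA 2
  have A_2_0 := nt_a_eq T 2 0
  rw [e_2_0] at A_2_0
  have A_2_1 := nt_a_eq T 2 1
  rw [e_2_1] at A_2_1
  have A_2_3 := nt_a_eq T 2 3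
  rw [e_2_3] at A_2_3
  have D_3 := hdA 3
  have A_3_0 := nt_a_eq T 3 0
  rw [e_3_0] at A_3_0
  have A_3_1 := nt_a_eq T 3 1
  rw [e_3_1] at A_3_1
  have A_3_2 := nt_a_eq T 3 2
  rw [e_3_2] at A_3_2
  refine goal_of_indices T hg0 2 0 1 3 (by decide) (T.m 2) (T.w 2) ?_
  unfold Goali
  exact Or.inr (Or.inr (Or.inl ⟨by omega, by omega, by omega, by omega, by omega, by omega, by omega, by omega, by omega, by omega, by omega, by omega, by omega, by omega, by omega, by omega, by omega, by omega⟩))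

theorem nd_27 (T : Models.NumericalType 4)
    (hG : NTGood T)
    (hmax : ∀ j, T.m j ≤ T.m 0)
    (e_0_1 : T.picMatrix 0 1 = 1)
    (e_0_2 : T.picMatrix 0 2 = 1)
    (e_0_3 : T.picMatrix 0 3 = 0)
    (e_1_0 : T.picMatrix 1 0 = 1)
    (e_1_2 : T.picMatrix 1 2 = 0)
    (e_1_3 : T.picMatrix 1 3 = 2)
    (e_2_0 : T.picMatrix 2 0 = 2)
    (e_2_1 : T.picMatrix 2 1 = 0)
    (e_2_3 : T.picMatrix 2 3 = 0)
    (e_3_0 : T.picMatrix 3 0 = 0)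
    (e_3_1 : T.picMatrix 3 1 = 1)
    (e_3_2 : T.picMatrix 3 2 = 0)
    (cl : ∀ a b : Fin 4, a.val < 1 → 4 ≤ b.val → T.picMatrix a b = 0) :
    Goal T := by
  obtain ⟨hg0, hdA, hdP, hnn, hrow, hsym, hpair⟩ := ntgood_data T (by norm_num) hG
  have hm_0 := T.m_pos 0
  have hw_0 := T.w_pos 0
  have hm_1 := T.m_pos 1
  have hw_1 := T.w_pos 1
  have hm_2 := T.m_pos 2
  have hw_2 := T.w_pos 2
  have hm_3 := T.m_pos 3
  have hw_3 := T.w_pos 3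
  have hx_1 := hmax 1
  have hx_2 := hmax 2
  have hx_3 := hmax 3
  have R_0 := hrow 0
  rw [Fin.sum_univ_four, hdP 0, e_0_1, e_0_2, e_0_3] at R_0
  have R_1 := hrow 1
  rw [Fin.sum_univ_four, hdP 1, e_1_0, e_1_2, e_1_3] at R_1
  have R_2 := hrow 2
  rw [Fin.sum_univ_four, hdP 2, e_2_0, e_2_1, e_2_3] at R_2
  have R_3 := hrow 3
  rw [Fin.sum_univ_four, hdP 3, e_3_0, e_3_1, e_3_2] at R_3
  have S_0_1 := hsym 0 1
  rw [e_0_1, e_1_0] at S_0_1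
  have S_0_2 := hsym 0 2
  rw [e_0_2, e_2_0] at S_0_2
  have S_0_3 := hsym 0 3
  rw [e_0_3, e_3_0] at S_0_3
  have S_1_2 := hsym 1 2
  rw [e_1_2, e_2_1] at S_1_2
  have S_1_3 := hsym 1 3
  rw [e_1_3, e_3_1] at S_1_3
  have S_2_3 := hsym 2 3
  rw [e_2_3, e_3_2] at S_2_3
  have D_0 := hdA 0
  have A_0_1 := nt_a_eq T 0 1
  rw [e_0_1] at A_0_1
  have A_0_2 := nt_a_eq T 0 2
  rw [e_0_2] at A_0_2
  have A_0_3 := nt_a_eq T 0 3
  rw [e_0_3] at A_0_3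
  have D_1 := hdA 1
  have A_1_0 := nt_a_eq T 1 0
  rw [e_1_0] at A_1_0
  have A_1_2 := nt_a_eq T 1 2
  rw [e_1_2] at A_1_2
  have A_1_3 := nt_a_eq T 1 3
  rw [e_1_3] at A_1_3
  have D_2 := hdA 2
  have A_2_0 := nt_a_eq T 2 0
  rw [e_2_0] at A_2_0
  have A_2_1 := nt_a_eq T 2 1
  rw [e_2_1] at A_2_1
  have A_2_3 := nt_a_eq T 2 3
  rw [e_2_3] at A_2_3
  have D_3 := hdA 3
  have A_3_0 := nt_a_eq T 3 0
  rw [e_3_0] at A_3_0
  have A_3_1 := nt_a_eq T 3 1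
  rw [e_3_1] at A_3_1
  have A_3_2 := nt_a_eq T 3 2
  rw [e_3_2] at A_3_2
  refine goal_of_indices T hg0 2 0 1 3 (by decide) (T.m 3) (T.w 2) ?_
  unfold Goali
  exact Or.inr (Or.inl ⟨by omega, by omega, by omega, by omega, by omega, by omega, by omega, by omega, by omega, by omega, by omega, by omega, by omega, by omega, by omega, by omega, by omega, by omega⟩)

theorem ex_25 (T : Models.NumericalType 4)
    (hG : NTGood T)
    (hmax : ∀ j, T.m j ≤ T.m 0)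
    (e_0_1 : T.picMatrix 0 1 = 1)
    (e_0_2 : T.picMatrix 0 2 = 1)
    (e_1_0 : T.picMatrix 1 0 = 1)
    (e_1_2 : T.picMatrix 1 2 = 0)
    (e_2_0 : T.picMatrix 2 0 = 2)
    (e_2_1 : T.picMatrix 2 1 = 0)
    (cl : ∀ a b : Fin 4, a.val < 1 → 4 ≤ b.val → T.picMatrix a b = 0)
    (z : ∀ a : Fin 4, a.val < 1 → T.picMatrix a 3 = 0)
    (hne : T.picMatrix 1 3 ≠ 0) :
    Goal T := by
  have e_0_3 : T.picMatrix 0 3 = 0 := z 0 (by decide)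
  have e_3_0 : T.picMatrix 3 0 = 0 := nt_pic_zero_symm T 0 3 e_0_3
  obtain ⟨hg0, hdA, hdP, hnn, hrow, hsym, hpair⟩ := ntgood_data T (by norm_num) hG
  have hm_0 := T.m_pos 0
  have hw_0 := T.w_pos 0
  have hm_1 := T.m_pos 1
  have hw_1 := T.w_pos 1
  have hm_2 := T.m_pos 2
  have hw_2 := T.w_pos 2
  have hm_3 := T.m_pos 3
  have hw_3 := T.w_pos 3
  have hx_1 := hmax 1
  have hx_2 := hmax 2
  have hx_3 := hmax 3
  have N_1_3 := mul_nonneg (hnn 1 3 (by decide)) (T.m_pos 3).le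
  have N_3_1 := mul_nonneg (hnn 3 1 (by decide)) (T.m_pos 1).le
  have N_2_3 := mul_nonneg (hnn 2 3 (by decide)) (T.m_pos 3).le
  have N_3_2 := mul_nonneg (hnn 3 2 (by decide)) (T.m_pos 2).le
  have R_0 := hrow 0
  rw [Fin.sum_univ_four, hdP 0, e_0_1, e_0_2, e_0_3] at R_0
  have R_1 := hrow 1
  rw [Fin.sum_univ_four, hdP 1, e_1_0, e_1_2] at R_1
  have R_2 := hrow 2
  rw [Fin.sum_univ_four, hdP 2, e_2_0, e_2_1] at R_2
  have R_3 := hrow 3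
  rw [Fin.sum_univ_four, hdP 3, e_3_0] at R_3
  have S_0_1 := hsym 0 1
  rw [e_0_1, e_1_0] at S_0_1
  have S_0_2 := hsym 0 2
  rw [e_0_2, e_2_0] at S_0_2
  have S_0_3 := hsym 0 3
  rw [e_0_3, e_3_0] at S_0_3
  have S_1_2 := hsym 1 2
  rw [e_1_2, e_2_1] at S_1_2
  have S_1_3 := hsym 1 3
  have S_2_3 := hsym 2 3
  have Q_1 := hpair 1 3 (by decide)
  have Q_2 := hpair 2 3 (by decide)
  generalize e_1_3 : T.picMatrix 1 3 = x_1 at *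
  generalize e_3_1 : T.picMatrix 3 1 = y_1 at *
  generalize e_2_3 : T.picMatrix 2 3 = x_2 at *
  generalize e_3_2 : T.picMatrix 3 2 = y_2 at *
  rcases Q_1 with ⟨rfl, rfl⟩ | ⟨rfl, rfl⟩ | ⟨rfl, rfl⟩ | ⟨rfl, rfl⟩ | ⟨rfl, rfl⟩ | ⟨rfl, rfl⟩ | ⟨rfl, rfl⟩ | ⟨rfl, rfl⟩ | ⟨rfl, rfl⟩
  · exact absurd rfl hne
  · -- (1,3) = (1,1)
    rcases Q_2 with ⟨rfl, rfl⟩ | ⟨rfl, rfl⟩ | ⟨rfl, rfl⟩ | ⟨rfl, rfl⟩ | ⟨rfl, rfl⟩ | ⟨rfl, rfl⟩ | ⟨rfl, rfl⟩ | ⟨rfl, rfl⟩ | ⟨rfl, rfl⟩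
    · -- (2,3) = (0,0)
      omega
    · -- (2,3) = (1,1)
      omega
    · -- (2,3) = (1,2)
      omega
    · -- (2,3) = (2,1)
      omega
    · -- (2,3) = (1,3)
      omega
    · -- (2,3) = (3,1)
      omega
    · -- (2,3) = (1,4)
      omega
    · -- (2,3) = (4,1)
      omega
    · -- (2,3) = (2,2)
      omega
  · -- (1,3) = (1,2)
    rcases Q_2 with ⟨rfl, rfl⟩ | ⟨rfl, rfl⟩ | ⟨rfl, rfl⟩ | ⟨rfl, rfl⟩ | ⟨rfl, rfl⟩ | ⟨rfl, rfl⟩ | ⟨rfl, rfl⟩ | ⟨rfl, rfl⟩ | ⟨rfl, rfl⟩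
    · -- (2,3) = (0,0)
      exact nd_26 T hG hmax e_0_1 e_0_2 e_0_3 e_1_0 e_1_2 e_1_3 e_2_0 e_2_1 e_2_3 e_3_0 e_3_1 e_3_2 cl
    · -- (2,3) = (1,1)
      omega
    · -- (2,3) = (1,2)
      omega
    · -- (2,3) = (2,1)
      omega
    · -- (2,3) = (1,3)
      omega
    · -- (2,3) = (3,1)
      omega
    · -- (2,3) = (1,4)
      omega
    · -- (2,3) = (4,1)
      omega
    · -- (2,3) = (2,2)
      omega
  · -- (1,3) = (2,1)
    rcases Q_2 with ⟨rfl, rfl⟩ | ⟨rfl, rfl⟩ | ⟨rfl, rfl⟩ | ⟨rfl, rfl⟩ | ⟨rfl, rfl⟩ | ⟨rfl, rfl⟩ | ⟨rfl, rfl⟩ | ⟨rfl, rfl⟩ | ⟨rfl, rfl⟩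
    · -- (2,3) = (0,0)
      exact nd_27 T hG hmax e_0_1 e_0_2 e_0_3 e_1_0 e_1_2 e_1_3 e_2_0 e_2_1 e_2_3 e_3_0 e_3_1 e_3_2 cl
    · -- (2,3) = (1,1)
      omega
    · -- (2,3) = (1,2)
      omega
    · -- (2,3) = (2,1)
      omega
    · -- (2,3) = (1,3)
      omega
    · -- (2,3) = (3,1)
      omega
    · -- (2,3) = (1,4)
      omega
    · -- (2,3) = (4,1)
      omega
    · -- (2,3) = (2,2)
      omega
  · omega
  · omega
  · omega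
  · omega
  · omega

theorem nd_23 (T : Models.NumericalType 4)
    (hG : NTGood T)
    (hmax : ∀ j, T.m j ≤ T.m 0)
    (e_0_1 : T.picMatrix 0 1 = 1)
    (e_0_2 : T.picMatrix 0 2 = 1)
    (e_1_0 : T.picMatrix 1 0 = 1)
    (e_1_2 : T.picMatrix 1 2 = 0)
    (e_2_0 : T.picMatrix 2 0 = 2)
    (e_2_1 : T.picMatrix 2 1 = 0)
    (cl : ∀ a b : Fin 4, a.val < 1 → 3 ≤ b.val → T.picMatrix a b = 0) :
    Goal T := by
  by_cases hc : ∀ b : Fin 4, 3 ≤ b.val → T.picMatrix 1 b = 0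
  · exact nd_24 T hG hmax e_0_1 e_0_2 e_1_0 e_1_2 e_2_0 e_2_1 (nt_cl_succ T 3 1 1 rfl cl hc)
  · obtain ⟨τ, hfix, cl', z, hne⟩ := nt_wlog_step T 3 (by norm_num) 1 (by norm_num) 1 (by decide) cl hc
    apply goal_relabel T τ
    refine ex_25 (ntRelabel T τ) (hG.relabel τ) ?_ ?_ ?_ ?_ ?_ ?_ ?_ cl' z hne
    · intro j
      show T.m (τ j) ≤ T.m (τ 0)
      rw [hfix 0 (by decide)]
      exact hmax _
    · show T.picMatrix (τ 0) (τ 1) = 1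
      rw [hfix 0 (by decide), hfix 1 (by decide)]
      exact e_0_1
    · show T.picMatrix (τ 0) (τ 2) = 1
      rw [hfix 0 (by decide), hfix 2 (by decide)]
      exact e_0_2
    · show T.picMatrix (τ 1) (τ 0) = 1
      rw [hfix 1 (by decide), hfix 0 (by decide)]
      exact e_1_0
    · show T.picMatrix (τ 1) (τ 2) = 0
      rw [hfix 1 (by decide), hfix 2 (by decide)]
      exact e_1_2
    · show T.picMatrix (τ 2) (τ 0) = 2
      rw [hfix 2 (by decide), hfix 0 (by decide)]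
      exact e_2_0
    · show T.picMatrix (τ 2) (τ 1) = 0
      rw [hfix 2 (by decide), hfix 1 (by decide)]
      exact e_2_1

theorem nd_29 (T : Models.NumericalType 4)
    (hG : NTGood T)
    (hmax : ∀ j, T.m j ≤ T.m 0)
    (e_0_1 : T.picMatrix 0 1 = 1)
    (e_0_2 : T.picMatrix 0 2 = 1)
    (e_0_3 : T.picMatrix 0 3 = 1)
    (e_1_0 : T.picMatrix 1 0 = 1)
    (e_1_2 : T.picMatrix 1 2 = 0)
    (e_1_3 : T.picMatrix 1 3 = 0)
    (e_2_0 : T.picMatrix 2 0 = 2)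
    (e_2_1 : T.picMatrix 2 1 = 0)
    (e_2_3 : T.picMatrix 2 3 = 0)
    (e_3_0 : T.picMatrix 3 0 = 1)
    (e_3_1 : T.picMatrix 3 1 = 0)
    (e_3_2 : T.picMatrix 3 2 = 0)
    (cl : ∀ a b : Fin 4, a.val < 0 → 4 ≤ b.val → T.picMatrix a b = 0) :
    Goal T := by
  obtain ⟨hg0, hdA, hdP, hnn, hrow, hsym, hpair⟩ := ntgood_data T (by norm_num) hG
  have hm_0 := T.m_pos 0
  have hw_0 := T.w_pos 0
  have hm_1 := T.m_pos 1
  have hw_1 := T.w_pos 1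
  have hm_2 := T.m_pos 2
  have hw_2 := T.w_pos 2
  have hm_3 := T.m_pos 3
  have hw_3 := T.w_pos 3
  have hx_1 := hmax 1
  have hx_2 := hmax 2
  have hx_3 := hmax 3
  have R_0 := hrow 0
  rw [Fin.sum_univ_four, hdP 0, e_0_1, e_0_2, e_0_3] at R_0
  have R_1 := hrow 1
  rw [Fin.sum_univ_four, hdP 1, e_1_0, e_1_2, e_1_3] at R_1
  have R_2 := hrow 2
  rw [Fin.sum_univ_four, hdP 2, e_2_0, e_2_1, e_2_3] at R_2
  have R_3 := hrow 3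
  rw [Fin.sum_univ_four, hdP 3, e_3_0, e_3_1, e_3_2] at R_3
  have S_0_1 := hsym 0 1
  rw [e_0_1, e_1_0] at S_0_1
  have S_0_2 := hsym 0 2
  rw [e_0_2, e_2_0] at S_0_2
  have S_0_3 := hsym 0 3
  rw [e_0_3, e_3_0] at S_0_3
  have S_1_2 := hsym 1 2
  rw [e_1_2, e_2_1] at S_1_2
  have S_1_3 := hsym 1 3
  rw [e_1_3, e_3_1] at S_1_3
  have S_2_3 := hsym 2 3
  rw [e_2_3, e_3_2] at S_2_3
  have D_0 := hdA 0
  have A_0_1 := nt_a_eq T 0 1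
  rw [e_0_1] at A_0_1
  have A_0_2 := nt_a_eq T 0 2
  rw [e_0_2] at A_0_2
  have A_0_3 := nt_a_eq T 0 3
  rw [e_0_3] at A_0_3
  have D_1 := hdA 1
  have A_1_0 := nt_a_eq T 1 0
  rw [e_1_0] at A_1_0
  have A_1_2 := nt_a_eq T 1 2
  rw [e_1_2] at A_1_2
  have A_1_3 := nt_a_eq T 1 3
  rw [e_1_3] at A_1_3
  have D_2 := hdA 2
  have A_2_0 := nt_a_eq T 2 0
  rw [e_2_0] at A_2_0
  have A_2_1 := nt_a_eq T 2 1
  rw [e_2_1] at A_2_1
  have A_2_3 := nt_a_eq T 2 3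
  rw [e_2_3] at A_2_3
  have D_3 := hdA 3
  have A_3_0 := nt_a_eq T 3 0
  rw [e_3_0] at A_3_0
  have A_3_1 := nt_a_eq T 3 1
  rw [e_3_1] at A_3_1
  have A_3_2 := nt_a_eq T 3 2
  rw [e_3_2] at A_3_2
  refine goal_of_indices T hg0 0 1 3 2 (by decide) (T.m 1) (T.w 2) ?_
  unfold Goali
  exact Or.inr (Or.inr (Or.inr (Or.inr (Or.inr (⟨by omega, by omega, by omega, by omega, by omega, by omega, by omega, by omega, by omega, by omega, by omega, by omega, by omega, by omega, by omega, by omega, by omega, by omega⟩)))))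

theorem ex_28 (T : Models.NumericalType 4)
    (hG : NTGood T)
    (hmax : ∀ j, T.m j ≤ T.m 0)
    (e_0_1 : T.picMatrix 0 1 = 1)
    (e_0_2 : T.picMatrix 0 2 = 1)
    (e_1_0 : T.picMatrix 1 0 = 1)
    (e_1_2 : T.picMatrix 1 2 = 0)
    (e_2_0 : T.picMatrix 2 0 = 2)
    (e_2_1 : T.picMatrix 2 1 = 0)
    (cl : ∀ a b : Fin 4, a.val < 0 → 4 ≤ b.val → T.picMatrix a b = 0)
    (z : ∀ a : Fin 4, a.val < 0 → T.picMatrix a 3 = 0)
    (hne : T.picMatrix 0 3 ≠ 0) :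
    Goal T := by
  obtain ⟨hg0, hdA, hdP, hnn, hrow, hsym, hpair⟩ := ntgood_data T (by norm_num) hG
  have hm_0 := T.m_pos 0
  have hw_0 := T.w_pos 0
  have hm_1 := T.m_pos 1
  have hw_1 := T.w_pos 1
  have hm_2 := T.m_pos 2
  have hw_2 := T.w_pos 2
  have hm_3 := T.m_pos 3
  have hw_3 := T.w_pos 3
  have hx_1 := hmax 1
  have hx_2 := hmax 2
  have hx_3 := hmax 3
  have N_0_3 := mul_nonneg (hnn 0 3 (by decide)) (T.m_pos 3).le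
  have N_3_0 := mul_nonneg (hnn 3 0 (by decide)) (T.m_pos 0).le
  have N_1_3 := mul_nonneg (hnn 1 3 (by decide)) (T.m_pos 3).le
  have N_3_1 := mul_nonneg (hnn 3 1 (by decide)) (T.m_pos 1).le
  have N_2_3 := mul_nonneg (hnn 2 3 (by decide)) (T.m_pos 3).le
  have N_3_2 := mul_nonneg (hnn 3 2 (by decide)) (T.m_pos 2).le
  have R_0 := hrow 0
  rw [Fin.sum_univ_four, hdP 0, e_0_1, e_0_2] at R_0
  have R_1 := hrow 1
  rw [Fin.sum_univ_four, hdP 1, e_1_0, e_1_2] at R_1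
  have R_2 := hrow 2
  rw [Fin.sum_univ_four, hdP 2, e_2_0, e_2_1] at R_2
  have R_3 := hrow 3
  rw [Fin.sum_univ_four, hdP 3] at R_3
  have S_0_1 := hsym 0 1
  rw [e_0_1, e_1_0] at S_0_1
  have S_0_2 := hsym 0 2
  rw [e_0_2, e_2_0] at S_0_2
  have S_0_3 := hsym 0 3
  have S_1_2 := hsym 1 2
  rw [e_1_2, e_2_1] at S_1_2
  have S_1_3 := hsym 1 3
  have S_2_3 := hsym 2 3
  have Q_0 := hpair 0 3 (by decide)
  have Q_1 := hpair 1 3 (by decide)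
  have Q_2 := hpair 2 3 (by decide)
  generalize e_0_3 : T.picMatrix 0 3 = x_0 at *
  generalize e_3_0 : T.picMatrix 3 0 = y_0 at *
  generalize e_1_3 : T.picMatrix 1 3 = x_1 at *
  generalize e_3_1 : T.picMatrix 3 1 = y_1 at *
  generalize e_2_3 : T.picMatrix 2 3 = x_2 at *
  generalize e_3_2 : T.picMatrix 3 2 = y_2 at *
  rcases Q_0 with ⟨rfl, rfl⟩ | ⟨rfl, rfl⟩ | ⟨rfl, rfl⟩ | ⟨rfl, rfl⟩ | ⟨rfl, rfl⟩ | ⟨rfl, rfl⟩ | ⟨rfl, rfl⟩ | ⟨rfl, rfl⟩ | ⟨rfl, rfl⟩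
  · exact absurd rfl hne
  · -- (0,3) = (1,1)
    rcases Q_1 with ⟨rfl, rfl⟩ | ⟨rfl, rfl⟩ | ⟨rfl, rfl⟩ | ⟨rfl, rfl⟩ | ⟨rfl, rfl⟩ | ⟨rfl, rfl⟩ | ⟨rfl, rfl⟩ | ⟨rfl, rfl⟩ | ⟨rfl, rfl⟩
    · -- (1,3) = (0,0)
      rcases Q_2 with ⟨rfl, rfl⟩ | ⟨rfl, rfl⟩ | ⟨rfl, rfl⟩ | ⟨rfl, rfl⟩ | ⟨rfl, rfl⟩ | ⟨rfl, rfl⟩ | ⟨rfl, rfl⟩ | ⟨rfl, rfl⟩ | ⟨rfl, rfl⟩
      · -- (2,3) = (0,0)
        exact nd_29 T hG hmax e_0_1 e_0_2 e_0_3 e_1_0 e_1_2 e_1_3 e_2_0 e_2_1 e_2_3 e_3_0 e_3_1 e_3_2 cl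
      · -- (2,3) = (1,1)
        omega
      · -- (2,3) = (1,2)
        omega
      · -- (2,3) = (2,1)
        omega
      · -- (2,3) = (1,3)
        omega
      · -- (2,3) = (3,1)
        omega
      · -- (2,3) = (1,4)
        omega
      · -- (2,3) = (4,1)
        omega
      · -- (2,3) = (2,2)
        omega
    · omega
    · omega
    · omega
    · omega
    · omega
    · omega
    · omega
    · omega
  · omega
  · omega
  · omega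
  · omega
  · omega
  · omega
  · omega

theorem nd_22 (T : Models.NumericalType 4)
    (hG : NTGood T)
    (hmax : ∀ j, T.m j ≤ T.m 0)
    (e_0_1 : T.picMatrix 0 1 = 1)
    (e_0_2 : T.picMatrix 0 2 = 1)
    (e_1_0 : T.picMatrix 1 0 = 1)
    (e_1_2 : T.picMatrix 1 2 = 0)
    (e_2_0 : T.picMatrix 2 0 = 2)
    (e_2_1 : T.picMatrix 2 1 = 0)
    (cl : ∀ a b : Fin 4, a.val < 0 → 3 ≤ b.val → T.picMatrix a b = 0) :
    Goal T := by
  by_cases hc : ∀ b : Fin 4, 3 ≤ b.val → T.picMatrix 0 b = 0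
  · exact nd_23 T hG hmax e_0_1 e_0_2 e_1_0 e_1_2 e_2_0 e_2_1 (nt_cl_succ T 3 0 0 rfl cl hc)
  · obtain ⟨τ, hfix, cl', z, hne⟩ := nt_wlog_step T 3 (by norm_num) 0 (by norm_num) 0 (by decide) cl hc
    apply goal_relabel T τ
    refine ex_28 (ntRelabel T τ) (hG.relabel τ) ?_ ?_ ?_ ?_ ?_ ?_ ?_ cl' z hne
    · intro j
      show T.m (τ j) ≤ T.m (τ 0)
      rw [hfix 0 (by decide)]
      exact hmax _
    · show T.picMatrix (τ 0) (τ 1) = 1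
      rw [hfix 0 (by decide), hfix 1 (by decide)]
      exact e_0_1
    · show T.picMatrix (τ 0) (τ 2) = 1
      rw [hfix 0 (by decide), hfix 2 (by decide)]
      exact e_0_2
    · show T.picMatrix (τ 1) (τ 0) = 1
      rw [hfix 1 (by decide), hfix 0 (by decide)]
      exact e_1_0
    · show T.picMatrix (τ 1) (τ 2) = 0
      rw [hfix 1 (by decide), hfix 2 (by decide)]
      exact e_1_2
    · show T.picMatrix (τ 2) (τ 0) = 2
      rw [hfix 2 (by decide), hfix 0 (by decide)]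
      exact e_2_0
    · show T.picMatrix (τ 2) (τ 1) = 0
      rw [hfix 2 (by decide), hfix 1 (by decide)]
      exact e_2_1

theorem nd_33 (T : Models.NumericalType 4)
    (hG : NTGood T)
    (hmax : ∀ j, T.m j ≤ T.m 0)
    (e_0_1 : T.picMatrix 0 1 = 1)
    (e_0_2 : T.picMatrix 0 2 = 2)
    (e_1_0 : T.picMatrix 1 0 = 1)
    (e_1_2 : T.picMatrix 1 2 = 0)
    (e_2_0 : T.picMatrix 2 0 = 1)
    (e_2_1 : T.picMatrix 2 1 = 0)
    (cl : ∀ a b : Fin 4, a.val < 3 → 3 ≤ b.val → T.picMatrix a b = 0) :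
    Goal T := by
  obtain ⟨hg0, hdA, hdP, hnn, hrow, hsym, hpair⟩ := ntgood_data T (by norm_num) hG
  have hm_0 := T.m_pos 0
  have hw_0 := T.w_pos 0
  have hm_1 := T.m_pos 1
  have hw_1 := T.w_pos 1
  have hm_2 := T.m_pos 2
  have hw_2 := T.w_pos 2
  have hx_1 := hmax 1
  have hx_2 := hmax 2
  have Z_0_3 := cl 0 3 (by decide) (by decide)
  have Z_1_3 := cl 1 3 (by decide) (by decide)
  have Z_2_3 := cl 2 3 (by decide) (by decide)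
  have R_0 := hrow 0
  rw [Fin.sum_univ_four, hdP 0, e_0_1, e_0_2, Z_0_3] at R_0
  have R_1 := hrow 1
  rw [Fin.sum_univ_four, hdP 1, e_1_0, e_1_2, Z_1_3] at R_1
  have R_2 := hrow 2
  rw [Fin.sum_univ_four, hdP 2, e_2_0, e_2_1, Z_2_3] at R_2
  have S_0_1 := hsym 0 1
  rw [e_0_1, e_1_0] at S_0_1
  have S_0_2 := hsym 0 2
  rw [e_0_2, e_2_0] at S_0_2
  have S_1_2 := hsym 1 2
  rw [e_1_2, e_2_1] at S_1_2
  exfalso
  omega

theorem ex_34 (T : Models.NumericalType 4)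
    (hG : NTGood T)
    (hmax : ∀ j, T.m j ≤ T.m 0)
    (e_0_1 : T.picMatrix 0 1 = 1)
    (e_0_2 : T.picMatrix 0 2 = 2)
    (e_1_0 : T.picMatrix 1 0 = 1)
    (e_1_2 : T.picMatrix 1 2 = 0)
    (e_2_0 : T.picMatrix 2 0 = 1)
    (e_2_1 : T.picMatrix 2 1 = 0)
    (cl : ∀ a b : Fin 4, a.val < 2 → 4 ≤ b.val → T.picMatrix a b = 0)
    (z : ∀ a : Fin 4, a.val < 2 → T.picMatrix a 3 = 0)
    (hne : T.picMatrix 2 3 ≠ 0) :
    Goal T := by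
  have e_0_3 : T.picMatrix 0 3 = 0 := z 0 (by decide)
  have e_3_0 : T.picMatrix 3 0 = 0 := nt_pic_zero_symm T 0 3 e_0_3
  have e_1_3 : T.picMatrix 1 3 = 0 := z 1 (by decide)
  have e_3_1 : T.picMatrix 3 1 = 0 := nt_pic_zero_symm T 1 3 e_1_3
  obtain ⟨hg0, hdA, hdP, hnn, hrow, hsym, hpair⟩ := ntgood_data T (by norm_num) hG
  have hm_0 := T.m_pos 0
  have hw_0 := T.w_pos 0
  have hm_1 := T.m_pos 1
  have hw_1 := T.w_pos 1
  have hm_2 := T.m_pos 2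
  have hw_2 := T.w_pos 2
  have hm_3 := T.m_pos 3
  have hw_3 := T.w_pos 3
  have hx_1 := hmax 1
  have hx_2 := hmax 2
  have hx_3 := hmax 3
  have N_2_3 := mul_nonneg (hnn 2 3 (by decide)) (T.m_pos 3).le
  have N_3_2 := mul_nonneg (hnn 3 2 (by decide)) (T.m_pos 2).le
  have R_0 := hrow 0
  rw [Fin.sum_univ_four, hdP 0, e_0_1, e_0_2, e_0_3] at R_0
  have R_1 := hrow 1
  rw [Fin.sum_univ_four, hdP 1, e_1_0, e_1_2, e_1_3] at R_1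
  have R_2 := hrow 2
  rw [Fin.sum_univ_four, hdP 2, e_2_0, e_2_1] at R_2
  have R_3 := hrow 3
  rw [Fin.sum_univ_four, hdP 3, e_3_0, e_3_1] at R_3
  have S_0_1 := hsym 0 1
  rw [e_0_1, e_1_0] at S_0_1
  have S_0_2 := hsym 0 2
  rw [e_0_2, e_2_0] at S_0_2
  have S_0_3 := hsym 0 3
  rw [e_0_3, e_3_0] at S_0_3
  have S_1_2 := hsym 1 2
  rw [e_1_2, e_2_1] at S_1_2
  have S_1_3 := hsym 1 3
  rw [e_1_3, e_3_1] at S_1_3
  have S_2_3 := hsym 2 3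
  have Q_2 := hpair 2 3 (by decide)
  generalize e_2_3 : T.picMatrix 2 3 = x_2 at *
  generalize e_3_2 : T.picMatrix 3 2 = y_2 at *
  rcases Q_2 with ⟨rfl, rfl⟩ | ⟨rfl, rfl⟩ | ⟨rfl, rfl⟩ | ⟨rfl, rfl⟩ | ⟨rfl, rfl⟩ | ⟨rfl, rfl⟩ | ⟨rfl, rfl⟩ | ⟨rfl, rfl⟩ | ⟨rfl, rfl⟩
  · exact absurd rfl hne
  · -- (2,3) = (1,1)
    omega
  · -- (2,3) = (1,2)
    omega
  · -- (2,3) = (2,1)
    omega
  · -- (2,3) = (1,3)
    omega
  · -- (2,3) = (3,1)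
    omega
  · -- (2,3) = (1,4)
    omega
  · -- (2,3) = (4,1)
    omega
  · -- (2,3) = (2,2)
    omega

theorem nd_32 (T : Models.NumericalType 4)
    (hG : NTGood T)
    (hmax : ∀ j, T.m j ≤ T.m 0)
    (e_0_1 : T.picMatrix 0 1 = 1)
    (e_0_2 : T.picMatrix 0 2 = 2)
    (e_1_0 : T.picMatrix 1 0 = 1)
    (e_1_2 : T.picMatrix 1 2 = 0)
    (e_2_0 : T.picMatrix 2 0 = 1)
    (e_2_1 : T.picMatrix 2 1 = 0)
    (cl : ∀ a b : Fin 4, a.val < 2 → 3 ≤ b.val → T.picMatrix a b = 0) :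
    Goal T := by
  by_cases hc : ∀ b : Fin 4, 3 ≤ b.val → T.picMatrix 2 b = 0
  · exact nd_33 T hG hmax e_0_1 e_0_2 e_1_0 e_1_2 e_2_0 e_2_1 (nt_cl_succ T 3 2 2 rfl cl hc)
  · obtain ⟨τ, hfix, cl', z, hne⟩ := nt_wlog_step T 3 (by norm_num) 2 (by norm_num) 2 (by decide) cl hc
    apply goal_relabel T τ
    refine ex_34 (ntRelabel T τ) (hG.relabel τ) ?_ ?_ ?_ ?_ ?_ ?_ ?_ cl' z hne
    · intro j
      show T.m (τ j) ≤ T.m (τ 0)
      rw [hfix 0 (by decide)]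
      exact hmax _
    · show T.picMatrix (τ 0) (τ 1) = 1
      rw [hfix 0 (by decide), hfix 1 (by decide)]
      exact e_0_1
    · show T.picMatrix (τ 0) (τ 2) = 2
      rw [hfix 0 (by decide), hfix 2 (by decide)]
      exact e_0_2
    · show T.picMatrix (τ 1) (τ 0) = 1
      rw [hfix 1 (by decide), hfix 0 (by decide)]
      exact e_1_0
    · show T.picMatrix (τ 1) (τ 2) = 0
      rw [hfix 1 (by decide), hfix 2 (by decide)]
      exact e_1_2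
    · show T.picMatrix (τ 2) (τ 0) = 1
      rw [hfix 2 (by decide), hfix 0 (by decide)]
      exact e_2_0
    · show T.picMatrix (τ 2) (τ 1) = 0
      rw [hfix 2 (by decide), hfix 1 (by decide)]
      exact e_2_1

theorem nd_36 (T : Models.NumericalType 4)
    (hG : NTGood T)
    (hmax : ∀ j, T.m j ≤ T.m 0)
    (e_0_1 : T.picMatrix 0 1 = 1)
    (e_0_2 : T.picMatrix 0 2 = 2)
    (e_0_3 : T.picMatrix 0 3 = 0)
    (e_1_0 : T.picMatrix 1 0 = 1)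
    (e_1_2 : T.picMatrix 1 2 = 0)
    (e_1_3 : T.picMatrix 1 3 = 1)
    (e_2_0 : T.picMatrix 2 0 = 1)
    (e_2_1 : T.picMatrix 2 1 = 0)
    (e_2_3 : T.picMatrix 2 3 = 0)
    (e_3_0 : T.picMatrix 3 0 = 0)
    (e_3_1 : T.picMatrix 3 1 = 2)
    (e_3_2 : T.picMatrix 3 2 = 0)
    (cl : ∀ a b : Fin 4, a.val < 1 → 4 ≤ b.val → T.picMatrix a b = 0) :
    Goal T := by
  obtain ⟨hg0, hdA, hdP, hnn, hrow, hsym, hpair⟩ := ntgood_data T (by norm_num) hG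
  have hm_0 := T.m_pos 0
  have hw_0 := T.w_pos 0
  have hm_1 := T.m_pos 1
  have hw_1 := T.w_pos 1
  have hm_2 := T.m_pos 2
  have hw_2 := T.w_pos 2
  have hm_3 := T.m_pos 3
  have hw_3 := T.w_pos 3
  have hx_1 := hmax 1
  have hx_2 := hmax 2
  have hx_3 := hmax 3
  have R_0 := hrow 0
  rw [Fin.sum_univ_four, hdP 0, e_0_1, e_0_2, e_0_3] at R_0
  have R_1 := hrow 1
  rw [Fin.sum_univ_four, hdP 1, e_1_0, e_1_2, e_1_3] at R_1
  have R_2 := hrow 2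
  rw [Fin.sum_univ_four, hdP 2, e_2_0, e_2_1, e_2_3] at R_2
  have R_3 := hrow 3
  rw [Fin.sum_univ_four, hdP 3, e_3_0, e_3_1, e_3_2] at R_3
  have S_0_1 := hsym 0 1
  rw [e_0_1, e_1_0] at S_0_1
  have S_0_2 := hsym 0 2
  rw [e_0_2, e_2_0] at S_0_2
  have S_0_3 := hsym 0 3
  rw [e_0_3, e_3_0] at S_0_3
  have S_1_2 := hsym 1 2
  rw [e_1_2, e_2_1] at S_1_2
  have S_1_3 := hsym 1 3
  rw [e_1_3, e_3_1] at S_1_3
  have S_2_3 := hsym 2 3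
  rw [e_2_3, e_3_2] at S_2_3
  have D_0 := hdA 0
  have A_0_1 := nt_a_eq T 0 1
  rw [e_0_1] at A_0_1
  have A_0_2 := nt_a_eq T 0 2
  rw [e_0_2] at A_0_2
  have A_0_3 := nt_a_eq T 0 3
  rw [e_0_3] at A_0_3
  have D_1 := hdA 1
  have A_1_0 := nt_a_eq T 1 0
  rw [e_1_0] at A_1_0
  have A_1_2 := nt_a_eq T 1 2
  rw [e_1_2] at A_1_2
  have A_1_3 := nt_a_eq T 1 3
  rw [e_1_3] at A_1_3
  have D_2 := hdA 2
  have A_2_0 := nt_a_eq T 2 0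
  rw [e_2_0] at A_2_0
  have A_2_1 := nt_a_eq T 2 1
  rw [e_2_1] at A_2_1
  have A_2_3 := nt_a_eq T 2 3
  rw [e_2_3] at A_2_3
  have D_3 := hdA 3
  have A_3_0 := nt_a_eq T 3 0
  rw [e_3_0] at A_3_0
  have A_3_1 := nt_a_eq T 3 1
  rw [e_3_1] at A_3_1
  have A_3_2 := nt_a_eq T 3 2
  rw [e_3_2] at A_3_2
  refine goal_of_indices T hg0 3 1 0 2 (by decide) (T.m 2) (T.w 3) ?_
  unfold Goali
  exact Or.inr (Or.inl ⟨by omega, by omega, by omega, by omega, by omega, by omega, by omega, by omega, by omega, by omega, by omega, by omega, by omega, by omega, by omega, by omega, by omega, by omega⟩)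

theorem nd_37 (T : Models.NumericalType 4)
    (hG : NTGood T)
    (hmax : ∀ j, T.m j ≤ T.m 0)
    (e_0_1 : T.picMatrix 0 1 = 1)
    (e_0_2 : T.picMatrix 0 2 = 2)
    (e_0_3 : T.picMatrix 0 3 = 0)
    (e_1_0 : T.picMatrix 1 0 = 1)
    (e_1_2 : T.picMatrix 1 2 = 0)
    (e_1_3 : T.picMatrix 1 3 = 2)
    (e_2_0 : T.picMatrix 2 0 = 1)
    (e_2_1 : T.picMatrix 2 1 = 0)
    (e_2_3 : T.picMatrix 2 3 = 0)
    (e_3_0 : T.picMatrix 3 0 = 0)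
    (e_3_1 : T.picMatrix 3 1 = 1)
    (e_3_2 : T.picMatrix 3 2 = 0)
    (cl : ∀ a b : Fin 4, a.val < 1 → 4 ≤ b.val → T.picMatrix a b = 0) :
    Goal T := by
  obtain ⟨hg0, hdA, hdP, hnn, hrow, hsym, hpair⟩ := ntgood_data T (by norm_num) hG
  have hm_0 := T.m_pos 0
  have hw_0 := T.w_pos 0
  have hm_1 := T.m_pos 1
  have hw_1 := T.w_pos 1
  have hm_2 := T.m_pos 2
  have hw_2 := T.w_pos 2
  have hm_3 := T.m_pos 3
  have hw_3 := T.w_pos 3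
  have hx_1 := hmax 1
  have hx_2 := hmax 2
  have hx_3 := hmax 3
  have R_0 := hrow 0
  rw [Fin.sum_univ_four, hdP 0, e_0_1, e_0_2, e_0_3] at R_0
  have R_1 := hrow 1
  rw [Fin.sum_univ_four, hdP 1, e_1_0, e_1_2, e_1_3] at R_1
  have R_2 := hrow 2
  rw [Fin.sum_univ_four, hdP 2, e_2_0, e_2_1, e_2_3] at R_2
  have R_3 := hrow 3
  rw [Fin.sum_univ_four, hdP 3, e_3_0, e_3_1, e_3_2] at R_3
  have S_0_1 := hsym 0 1
  rw [e_0_1, e_1_0] at S_0_1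
  have S_0_2 := hsym 0 2
  rw [e_0_2, e_2_0] at S_0_2
  have S_0_3 := hsym 0 3
  rw [e_0_3, e_3_0] at S_0_3
  have S_1_2 := hsym 1 2
  rw [e_1_2, e_2_1] at S_1_2
  have S_1_3 := hsym 1 3
  rw [e_1_3, e_3_1] at S_1_3
  have S_2_3 := hsym 2 3
  rw [e_2_3, e_3_2] at S_2_3
  have D_0 := hdA 0
  have A_0_1 := nt_a_eq T 0 1
  rw [e_0_1] at A_0_1
  have A_0_2 := nt_a_eq T 0 2
  rw [e_0_2] at A_0_2
  have A_0_3 := nt_a_eq T 0 3
  rw [e_0_3] at A_0_3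
  have D_1 := hdA 1
  have A_1_0 := nt_a_eq T 1 0
  rw [e_1_0] at A_1_0
  have A_1_2 := nt_a_eq T 1 2
  rw [e_1_2] at A_1_2
  have A_1_3 := nt_a_eq T 1 3
  rw [e_1_3] at A_1_3
  have D_2 := hdA 2
  have A_2_0 := nt_a_eq T 2 0
  rw [e_2_0] at A_2_0
  have A_2_1 := nt_a_eq T 2 1
  rw [e_2_1] at A_2_1
  have A_2_3 := nt_a_eq T 2 3
  rw [e_2_3] at A_2_3
  have D_3 := hdA 3
  have A_3_0 := nt_a_eq T 3 0
  rw [e_3_0] at A_3_0
  have A_3_1 := nt_a_eq T 3 1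
  rw [e_3_1] at A_3_1
  have A_3_2 := nt_a_eq T 3 2
  rw [e_3_2] at A_3_2
  refine goal_of_indices T hg0 2 0 1 3 (by decide) (T.m 2) (T.w 0) ?_
  unfold Goali
  exact Or.inr (Or.inr (Or.inr (Or.inl ⟨by omega, by omega, by omega, by omega, by omega, by omega, by omega, by omega, by omega, by omega, by omega, by omega, by omega, by omega, by omega, by omega, by omega, by omega⟩)))

theorem ex_35 (T : Models.NumericalType 4)
    (hG : NTGood T)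
    (hmax : ∀ j, T.m j ≤ T.m 0)
    (e_0_1 : T.picMatrix 0 1 = 1)
    (e_0_2 : T.picMatrix 0 2 = 2)
    (e_1_0 : T.picMatrix 1 0 = 1)
    (e_1_2 : T.picMatrix 1 2 = 0)
    (e_2_0 : T.picMatrix 2 0 = 1)
    (e_2_1 : T.picMatrix 2 1 = 0)
    (cl : ∀ a b : Fin 4, a.val < 1 → 4 ≤ b.val → T.picMatrix a b = 0)
    (z : ∀ a : Fin 4, a.val < 1 → T.picMatrix a 3 = 0)
    (hne : T.picMatrix 1 3 ≠ 0) :
    Goal T := by
  have e_0_3 : T.picMatrix 0 3 = 0 := z 0 (by decide)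
  have e_3_0 : T.picMatrix 3 0 = 0 := nt_pic_zero_symm T 0 3 e_0_3
  obtain ⟨hg0, hdA, hdP, hnn, hrow, hsym, hpair⟩ := ntgood_data T (by norm_num) hG
  have hm_0 := T.m_pos 0
  have hw_0 := T.w_pos 0
  have hm_1 := T.m_pos 1
  have hw_1 := T.w_pos 1
  have hm_2 := T.m_pos 2
  have hw_2 := T.w_pos 2
  have hm_3 := T.m_pos 3
  have hw_3 := T.w_pos 3
  have hx_1 := hmax 1
  have hx_2 := hmax 2
  have hx_3 := hmax 3
  have N_1_3 := mul_nonneg (hnn 1 3 (by decide)) (T.m_pos 3).le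
  have N_3_1 := mul_nonneg (hnn 3 1 (by decide)) (T.m_pos 1).le
  have N_2_3 := mul_nonneg (hnn 2 3 (by decide)) (T.m_pos 3).le
  have N_3_2 := mul_nonneg (hnn 3 2 (by decide)) (T.m_pos 2).le
  have R_0 := hrow 0
  rw [Fin.sum_univ_four, hdP 0, e_0_1, e_0_2, e_0_3] at R_0
  have R_1 := hrow 1
  rw [Fin.sum_univ_four, hdP 1, e_1_0, e_1_2] at R_1
  have R_2 := hrow 2
  rw [Fin.sum_univ_four, hdP 2, e_2_0, e_2_1] at R_2
  have R_3 := hrow 3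
  rw [Fin.sum_univ_four, hdP 3, e_3_0] at R_3
  have S_0_1 := hsym 0 1
  rw [e_0_1, e_1_0] at S_0_1
  have S_0_2 := hsym 0 2
  rw [e_0_2, e_2_0] at S_0_2
  have S_0_3 := hsym 0 3
  rw [e_0_3, e_3_0] at S_0_3
  have S_1_2 := hsym 1 2
  rw [e_1_2, e_2_1] at S_1_2
  have S_1_3 := hsym 1 3
  have S_2_3 := hsym 2 3
  have Q_1 := hpair 1 3 (by decide)
  have Q_2 := hpair 2 3 (by decide)
  generalize e_1_3 : T.picMatrix 1 3 = x_1 at *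
  generalize e_3_1 : T.picMatrix 3 1 = y_1 at *
  generalize e_2_3 : T.picMatrix 2 3 = x_2 at *
  generalize e_3_2 : T.picMatrix 3 2 = y_2 at *
  rcases Q_1 with ⟨rfl, rfl⟩ | ⟨rfl, rfl⟩ | ⟨rfl, rfl⟩ | ⟨rfl, rfl⟩ | ⟨rfl, rfl⟩ | ⟨rfl, rfl⟩ | ⟨rfl, rfl⟩ | ⟨rfl, rfl⟩ | ⟨rfl, rfl⟩
  · exact absurd rfl hne
  · -- (1,3) = (1,1)
    rcases Q_2 with ⟨rfl, rfl⟩ | ⟨rfl, rfl⟩ | ⟨rfl, rfl⟩ | ⟨rfl, rfl⟩ | ⟨rfl, rfl⟩ | ⟨rfl, rfl⟩ | ⟨rfl, rfl⟩ | ⟨rfl, rfl⟩ | ⟨rfl, rfl⟩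
    · -- (2,3) = (0,0)
      omega
    · -- (2,3) = (1,1)
      omega
    · -- (2,3) = (1,2)
      omega
    · -- (2,3) = (2,1)
      omega
    · -- (2,3) = (1,3)
      omega
    · -- (2,3) = (3,1)
      omega
    · -- (2,3) = (1,4)
      omega
    · -- (2,3) = (4,1)
      omega
    · -- (2,3) = (2,2)
      omega
  · -- (1,3) = (1,2)
    rcases Q_2 with ⟨rfl, rfl⟩ | ⟨rfl, rfl⟩ | ⟨rfl, rfl⟩ | ⟨rfl, rfl⟩ | ⟨rfl, rfl⟩ | ⟨rfl, rfl⟩ | ⟨rfl, rfl⟩ | ⟨rfl, rfl⟩ | ⟨rfl, rfl⟩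
    · -- (2,3) = (0,0)
      exact nd_36 T hG hmax e_0_1 e_0_2 e_0_3 e_1_0 e_1_2 e_1_3 e_2_0 e_2_1 e_2_3 e_3_0 e_3_1 e_3_2 cl
    · -- (2,3) = (1,1)
      omega
    · -- (2,3) = (1,2)
      omega
    · -- (2,3) = (2,1)
      omega
    · -- (2,3) = (1,3)
      omega
    · -- (2,3) = (3,1)
      omega
    · -- (2,3) = (1,4)
      omega
    · -- (2,3) = (4,1)
      omega
    · -- (2,3) = (2,2)
      omega
  · -- (1,3) = (2,1)
    rcases Q_2 with ⟨rfl, rfl⟩ | ⟨rfl, rfl⟩ | ⟨rfl, rfl⟩ | ⟨rfl, rfl⟩ | ⟨rfl, rfl⟩ | ⟨rfl, rfl⟩ | ⟨rfl, rfl⟩ | ⟨rfl, rfl⟩ | ⟨rfl, rfl⟩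
    · -- (2,3) = (0,0)
      exact nd_37 T hG hmax e_0_1 e_0_2 e_0_3 e_1_0 e_1_2 e_1_3 e_2_0 e_2_1 e_2_3 e_3_0 e_3_1 e_3_2 cl
    · -- (2,3) = (1,1)
      omega
    · -- (2,3) = (1,2)
      omega
    · -- (2,3) = (2,1)
      omega
    · -- (2,3) = (1,3)
      omega
    · -- (2,3) = (3,1)
      omega
    · -- (2,3) = (1,4)
      omega
    · -- (2,3) = (4,1)
      omega
    · -- (2,3) = (2,2)
      omega
  · omega
  · omega
  · omega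
  · omega
  · omega

theorem nd_31 (T : Models.NumericalType 4)
    (hG : NTGood T)
    (hmax : ∀ j, T.m j ≤ T.m 0)
    (e_0_1 : T.picMatrix 0 1 = 1)
    (e_0_2 : T.picMatrix 0 2 = 2)
    (e_1_0 : T.picMatrix 1 0 = 1)
    (e_1_2 : T.picMatrix 1 2 = 0)
    (e_2_0 : T.picMatrix 2 0 = 1)
    (e_2_1 : T.picMatrix 2 1 = 0)
    (cl : ∀ a b : Fin 4, a.val < 1 → 3 ≤ b.val → T.picMatrix a b = 0) :
    Goal T := by
  by_cases hc : ∀ b : Fin 4, 3 ≤ b.val → T.picMatrix 1 b = 0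
  · exact nd_32 T hG hmax e_0_1 e_0_2 e_1_0 e_1_2 e_2_0 e_2_1 (nt_cl_succ T 3 1 1 rfl cl hc)
  · obtain ⟨τ, hfix, cl', z, hne⟩ := nt_wlog_step T 3 (by norm_num) 1 (by norm_num) 1 (by decide) cl hc
    apply goal_relabel T τ
    refine ex_35 (ntRelabel T τ) (hG.relabel τ) ?_ ?_ ?_ ?_ ?_ ?_ ?_ cl' z hne
    · intro j
      show T.m (τ j) ≤ T.m (τ 0)
      rw [hfix 0 (by decide)]
      exact hmax _
    · show T.picMatrix (τ 0) (τ 1) = 1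
      rw [hfix 0 (by decide), hfix 1 (by decide)]
      exact e_0_1
    · show T.picMatrix (τ 0) (τ 2) = 2
      rw [hfix 0 (by decide), hfix 2 (by decide)]
      exact e_0_2
    · show T.picMatrix (τ 1) (τ 0) = 1
      rw [hfix 1 (by decide), hfix 0 (by decide)]
      exact e_1_0
    · show T.picMatrix (τ 1) (τ 2) = 0
      rw [hfix 1 (by decide), hfix 2 (by decide)]
      exact e_1_2
    · show T.picMatrix (τ 2) (τ 0) = 1
      rw [hfix 2 (by decide), hfix 0 (by decide)]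
      exact e_2_0
    · show T.picMatrix (τ 2) (τ 1) = 0
      rw [hfix 2 (by decide), hfix 1 (by decide)]
      exact e_2_1

theorem nd_39 (T : Models.NumericalType 4)
    (hG : NTGood T)
    (hmax : ∀ j, T.m j ≤ T.m 0)
    (e_0_1 : T.picMatrix 0 1 = 1)
    (e_0_2 : T.picMatrix 0 2 = 2)
    (e_0_3 : T.picMatrix 0 3 = 1)
    (e_1_0 : T.picMatrix 1 0 = 1)
    (e_1_2 : T.picMatrix 1 2 = 0)
    (e_1_3 : T.picMatrix 1 3 = 0)
    (e_2_0 : T.picMatrix 2 0 = 1)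
    (e_2_1 : T.picMatrix 2 1 = 0)
    (e_2_3 : T.picMatrix 2 3 = 0)
    (e_3_0 : T.picMatrix 3 0 = 1)
    (e_3_1 : T.picMatrix 3 1 = 0)
    (e_3_2 : T.picMatrix 3 2 = 0)
    (cl : ∀ a b : Fin 4, a.val < 0 → 4 ≤ b.val → T.picMatrix a b = 0) :
    Goal T := by
  obtain ⟨hg0, hdA, hdP, hnn, hrow, hsym, hpair⟩ := ntgood_data T (by norm_num) hG
  have hm_0 := T.m_pos 0
  have hw_0 := T.w_pos 0
  have hm_1 := T.m_pos 1
  have hw_1 := T.w_pos 1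
  have hm_2 := T.m_pos 2
  have hw_2 := T.w_pos 2
  have hm_3 := T.m_pos 3
  have hw_3 := T.w_pos 3
  have hx_1 := hmax 1
  have hx_2 := hmax 2
  have hx_3 := hmax 3
  have R_0 := hrow 0
  rw [Fin.sum_univ_four, hdP 0, e_0_1, e_0_2, e_0_3] at R_0
  have R_1 := hrow 1
  rw [Fin.sum_univ_four, hdP 1, e_1_0, e_1_2, e_1_3] at R_1
  have R_2 := hrow 2
  rw [Fin.sum_univ_four, hdP 2, e_2_0, e_2_1, e_2_3] at R_2
  have R_3 := hrow 3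
  rw [Fin.sum_univ_four, hdP 3, e_3_0, e_3_1, e_3_2] at R_3
  have S_0_1 := hsym 0 1
  rw [e_0_1, e_1_0] at S_0_1
  have S_0_2 := hsym 0 2
  rw [e_0_2, e_2_0] at S_0_2
  have S_0_3 := hsym 0 3
  rw [e_0_3, e_3_0] at S_0_3
  have S_1_2 := hsym 1 2
  rw [e_1_2, e_2_1] at S_1_2
  have S_1_3 := hsym 1 3
  rw [e_1_3, e_3_1] at S_1_3
  have S_2_3 := hsym 2 3
  rw [e_2_3, e_3_2] at S_2_3
  have D_0 := hdA 0
  have A_0_1 := nt_a_eq T 0 1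
  rw [e_0_1] at A_0_1
  have A_0_2 := nt_a_eq T 0 2
  rw [e_0_2] at A_0_2
  have A_0_3 := nt_a_eq T 0 3
  rw [e_0_3] at A_0_3
  have D_1 := hdA 1
  have A_1_0 := nt_a_eq T 1 0
  rw [e_1_0] at A_1_0
  have A_1_2 := nt_a_eq T 1 2
  rw [e_1_2] at A_1_2
  have A_1_3 := nt_a_eq T 1 3
  rw [e_1_3] at A_1_3
  have D_2 := hdA 2
  have A_2_0 := nt_a_eq T 2 0
  rw [e_2_0] at A_2_0
  have A_2_1 := nt_a_eq T 2 1
  rw [e_2_1] at A_2_1
  have A_2_3 := nt_a_eq T 2 3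
  rw [e_2_3] at A_2_3
  have D_3 := hdA 3
  have A_3_0 := nt_a_eq T 3 0
  rw [e_3_0] at A_3_0
  have A_3_1 := nt_a_eq T 3 1
  rw [e_3_1] at A_3_1
  have A_3_2 := nt_a_eq T 3 2
  rw [e_3_2] at A_3_2
  refine goal_of_indices T hg0 0 1 3 2 (by decide) (T.m 1) (T.w 0) ?_
  unfold Goali
  exact Or.inr (Or.inr (Or.inr (Or.inr (Or.inl ⟨by omega, by omega, by omega, by omega, by omega, by omega, by omega, by omega, by omega, by omega, by omega, by omega, by omega, by omega, by omega, by omega, by omega, by omega⟩))))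

theorem ex_38 (T : Models.NumericalType 4)
    (hG : NTGood T)
    (hmax : ∀ j, T.m j ≤ T.m 0)
    (e_0_1 : T.picMatrix 0 1 = 1)
    (e_0_2 : T.picMatrix 0 2 = 2)
    (e_1_0 : T.picMatrix 1 0 = 1)
    (e_1_2 : T.picMatrix 1 2 = 0)
    (e_2_0 : T.picMatrix 2 0 = 1)
    (e_2_1 : T.picMatrix 2 1 = 0)
    (cl : ∀ a b : Fin 4, a.val < 0 → 4 ≤ b.val → T.picMatrix a b = 0)
    (z : ∀ a : Fin 4, a.val < 0 → T.picMatrix a 3 = 0)
    (hne : T.picMatrix 0 3 ≠ 0) :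
    Goal T := by
  obtain ⟨hg0, hdA, hdP, hnn, hrow, hsym, hpair⟩ := ntgood_data T (by norm_num) hG
  have hm_0 := T.m_pos 0
  have hw_0 := T.w_pos 0
  have hm_1 := T.m_pos 1
  have hw_1 := T.w_pos 1
  have hm_2 := T.m_pos 2
  have hw_2 := T.w_pos 2
  have hm_3 := T.m_pos 3
  have hw_3 := T.w_pos 3
  have hx_1 := hmax 1
  have hx_2 := hmax 2
  have hx_3 := hmax 3
  have N_0_3 := mul_nonneg (hnn 0 3 (by decide)) (T.m_pos 3).le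
  have N_3_0 := mul_nonneg (hnn 3 0 (by decide)) (T.m_pos 0).le
  have N_1_3 := mul_nonneg (hnn 1 3 (by decide)) (T.m_pos 3).le
  have N_3_1 := mul_nonneg (hnn 3 1 (by decide)) (T.m_pos 1).le
  have N_2_3 := mul_nonneg (hnn 2 3 (by decide)) (T.m_pos 3).le
  have N_3_2 := mul_nonneg (hnn 3 2 (by decide)) (T.m_pos 2).le
  have R_0 := hrow 0
  rw [Fin.sum_univ_four, hdP 0, e_0_1, e_0_2] at R_0
  have R_1 := hrow 1
  rw [Fin.sum_univ_four, hdP 1, e_1_0, e_1_2] at R_1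
  have R_2 := hrow 2
  rw [Fin.sum_univ_four, hdP 2, e_2_0, e_2_1] at R_2
  have R_3 := hrow 3
  rw [Fin.sum_univ_four, hdP 3] at R_3
  have S_0_1 := hsym 0 1
  rw [e_0_1, e_1_0] at S_0_1
  have S_0_2 := hsym 0 2
  rw [e_0_2, e_2_0] at S_0_2
  have S_0_3 := hsym 0 3
  have S_1_2 := hsym 1 2
  rw [e_1_2, e_2_1] at S_1_2
  have S_1_3 := hsym 1 3
  have S_2_3 := hsym 2 3
  have Q_0 := hpair 0 3 (by decide)
  have Q_1 := hpair 1 3 (by decide)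
  have Q_2 := hpair 2 3 (by decide)
  generalize e_0_3 : T.picMatrix 0 3 = x_0 at *
  generalize e_3_0 : T.picMatrix 3 0 = y_0 at *
  generalize e_1_3 : T.picMatrix 1 3 = x_1 at *
  generalize e_3_1 : T.picMatrix 3 1 = y_1 at *
  generalize e_2_3 : T.picMatrix 2 3 = x_2 at *
  generalize e_3_2 : T.picMatrix 3 2 = y_2 at *
  rcases Q_0 with ⟨rfl, rfl⟩ | ⟨rfl, rfl⟩ | ⟨rfl, rfl⟩ | ⟨rfl, rfl⟩ | ⟨rfl, rfl⟩ | ⟨rfl, rfl⟩ | ⟨rfl, rfl⟩ | ⟨rfl, rfl⟩ | ⟨rfl, rfl⟩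
  · exact absurd rfl hne
  · -- (0,3) = (1,1)
    rcases Q_1 with ⟨rfl, rfl⟩ | ⟨rfl, rfl⟩ | ⟨rfl, rfl⟩ | ⟨rfl, rfl⟩ | ⟨rfl, rfl⟩ | ⟨rfl, rfl⟩ | ⟨rfl, rfl⟩ | ⟨rfl, rfl⟩ | ⟨rfl, rfl⟩
    · -- (1,3) = (0,0)
      rcases Q_2 with ⟨rfl, rfl⟩ | ⟨rfl, rfl⟩ | ⟨rfl, rfl⟩ | ⟨rfl, rfl⟩ | ⟨rfl, rfl⟩ | ⟨rfl, rfl⟩ | ⟨rfl, rfl⟩ | ⟨rfl, rfl⟩ | ⟨rfl, rfl⟩
      · -- (2,3) = (0,0)
        exact nd_39 T hG hmax e_0_1 e_0_2 e_0_3 e_1_0 e_1_2 e_1_3 e_2_0 e_2_1 e_2_3 e_3_0 e_3_1 e_3_2 cl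
      · -- (2,3) = (1,1)
        omega
      · -- (2,3) = (1,2)
        omega
      · -- (2,3) = (2,1)
        omega
      · -- (2,3) = (1,3)
        omega
      · -- (2,3) = (3,1)
        omega
      · -- (2,3) = (1,4)
        omega
      · -- (2,3) = (4,1)
        omega
      · -- (2,3) = (2,2)
        omega
    · omega
    · omega
    · omega
    · omega
    · omega
    · omega
    · omega
    · omega
  · omega
  · omega
  · omega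
  · omega
  · omega
  · omega
  · omega

theorem nd_30 (T : Models.NumericalType 4)
    (hG : NTGood T)
    (hmax : ∀ j, T.m j ≤ T.m 0)
    (e_0_1 : T.picMatrix 0 1 = 1)
    (e_0_2 : T.picMatrix 0 2 = 2)
    (e_1_0 : T.picMatrix 1 0 = 1)
    (e_1_2 : T.picMatrix 1 2 = 0)
    (e_2_0 : T.picMatrix 2 0 = 1)
    (e_2_1 : T.picMatrix 2 1 = 0)
    (cl : ∀ a b : Fin 4, a.val < 0 → 3 ≤ b.val → T.picMatrix a b = 0) :
    Goal T := by
  by_cases hc : ∀ b : Fin 4, 3 ≤ b.val → T.picMatrix 0 b = 0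
  · exact nd_31 T hG hmax e_0_1 e_0_2 e_1_0 e_1_2 e_2_0 e_2_1 (nt_cl_succ T 3 0 0 rfl cl hc)
  · obtain ⟨τ, hfix, cl', z, hne⟩ := nt_wlog_step T 3 (by norm_num) 0 (by norm_num) 0 (by decide) cl hc
    apply goal_relabel T τ
    refine ex_38 (ntRelabel T τ) (hG.relabel τ) ?_ ?_ ?_ ?_ ?_ ?_ ?_ cl' z hne
    · intro j
      show T.m (τ j) ≤ T.m (τ 0)
      rw [hfix 0 (by decide)]
      exact hmax _
    · show T.picMatrix (τ 0) (τ 1) = 1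
      rw [hfix 0 (by decide), hfix 1 (by decide)]
      exact e_0_1
    · show T.picMatrix (τ 0) (τ 2) = 2
      rw [hfix 0 (by decide), hfix 2 (by decide)]
      exact e_0_2
    · show T.picMatrix (τ 1) (τ 0) = 1
      rw [hfix 1 (by decide), hfix 0 (by decide)]
      exact e_1_0
    · show T.picMatrix (τ 1) (τ 2) = 0
      rw [hfix 1 (by decide), hfix 2 (by decide)]
      exact e_1_2
    · show T.picMatrix (τ 2) (τ 0) = 1
      rw [hfix 2 (by decide), hfix 0 (by decide)]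
      exact e_2_0
    · show T.picMatrix (τ 2) (τ 1) = 0
      rw [hfix 2 (by decide), hfix 1 (by decide)]
      exact e_2_1

theorem nd_43 (T : Models.NumericalType 4)
    (hG : NTGood T)
    (hmax : ∀ j, T.m j ≤ T.m 0)
    (e_0_1 : T.picMatrix 0 1 = 1)
    (e_0_2 : T.picMatrix 0 2 = 3)
    (e_1_0 : T.picMatrix 1 0 = 1)
    (e_1_2 : T.picMatrix 1 2 = 0)
    (e_2_0 : T.picMatrix 2 0 = 1)
    (e_2_1 : T.picMatrix 2 1 = 0)
    (cl : ∀ a b : Fin 4, a.val < 3 → 3 ≤ b.val → T.picMatrix a b = 0) :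
    Goal T := by
  exact (nt_closed_false T 3 (by norm_num) (by norm_num) cl).elim

theorem ex_44 (T : Models.NumericalType 4)
    (hG : NTGood T)
    (hmax : ∀ j, T.m j ≤ T.m 0)
    (e_0_1 : T.picMatrix 0 1 = 1)
    (e_0_2 : T.picMatrix 0 2 = 3)
    (e_1_0 : T.picMatrix 1 0 = 1)
    (e_1_2 : T.picMatrix 1 2 = 0)
    (e_2_0 : T.picMatrix 2 0 = 1)
    (e_2_1 : T.picMatrix 2 1 = 0)
    (cl : ∀ a b : Fin 4, a.val < 2 → 4 ≤ b.val → T.picMatrix a b = 0)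
    (z : ∀ a : Fin 4, a.val < 2 → T.picMatrix a 3 = 0)
    (hne : T.picMatrix 2 3 ≠ 0) :
    Goal T := by
  have e_0_3 : T.picMatrix 0 3 = 0 := z 0 (by decide)
  have e_3_0 : T.picMatrix 3 0 = 0 := nt_pic_zero_symm T 0 3 e_0_3
  have e_1_3 : T.picMatrix 1 3 = 0 := z 1 (by decide)
  have e_3_1 : T.picMatrix 3 1 = 0 := nt_pic_zero_symm T 1 3 e_1_3
  obtain ⟨hg0, hdA, hdP, hnn, hrow, hsym, hpair⟩ := ntgood_data T (by norm_num) hG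
  have hm_0 := T.m_pos 0
  have hw_0 := T.w_pos 0
  have hm_1 := T.m_pos 1
  have hw_1 := T.w_pos 1
  have hm_2 := T.m_pos 2
  have hw_2 := T.w_pos 2
  have hm_3 := T.m_pos 3
  have hw_3 := T.w_pos 3
  have hx_1 := hmax 1
  have hx_2 := hmax 2
  have hx_3 := hmax 3
  have N_2_3 := mul_nonneg (hnn 2 3 (by decide)) (T.m_pos 3).le
  have N_3_2 := mul_nonneg (hnn 3 2 (by decide)) (T.m_pos 2).le
  have R_0 := hrow 0
  rw [Fin.sum_univ_four, hdP 0, e_0_1, e_0_2, e_0_3] at R_0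
  have R_1 := hrow 1
  rw [Fin.sum_univ_four, hdP 1, e_1_0, e_1_2, e_1_3] at R_1
  have R_2 := hrow 2
  rw [Fin.sum_univ_four, hdP 2, e_2_0, e_2_1] at R_2
  have R_3 := hrow 3
  rw [Fin.sum_univ_four, hdP 3, e_3_0, e_3_1] at R_3
  have S_0_1 := hsym 0 1
  rw [e_0_1, e_1_0] at S_0_1
  have S_0_2 := hsym 0 2
  rw [e_0_2, e_2_0] at S_0_2
  have S_0_3 := hsym 0 3
  rw [e_0_3, e_3_0] at S_0_3
  have S_1_2 := hsym 1 2
  rw [e_1_2, e_2_1] at S_1_2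
  have S_1_3 := hsym 1 3
  rw [e_1_3, e_3_1] at S_1_3
  have S_2_3 := hsym 2 3
  have Q_2 := hpair 2 3 (by decide)
  generalize e_2_3 : T.picMatrix 2 3 = x_2 at *
  generalize e_3_2 : T.picMatrix 3 2 = y_2 at *
  rcases Q_2 with ⟨rfl, rfl⟩ | ⟨rfl, rfl⟩ | ⟨rfl, rfl⟩ | ⟨rfl, rfl⟩ | ⟨rfl, rfl⟩ | ⟨rfl, rfl⟩ | ⟨rfl, rfl⟩ | ⟨rfl, rfl⟩ | ⟨rfl, rfl⟩
  · exact absurd rfl hne
  · -- (2,3) = (1,1)
    omega
  · -- (2,3) = (1,2)
    omega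
  · -- (2,3) = (2,1)
    omega
  · -- (2,3) = (1,3)
    omega
  · -- (2,3) = (3,1)
    omega
  · -- (2,3) = (1,4)
    omega
  · -- (2,3) = (4,1)
    omega
  · -- (2,3) = (2,2)
    omega

theorem nd_42 (T : Models.NumericalType 4)
    (hG : NTGood T)
    (hmax : ∀ j, T.m j ≤ T.m 0)
    (e_0_1 : T.picMatrix 0 1 = 1)
    (e_0_2 : T.picMatrix 0 2 = 3)
    (e_1_0 : T.picMatrix 1 0 = 1)
    (e_1_2 : T.picMatrix 1 2 = 0)
    (e_2_0 : T.picMatrix 2 0 = 1)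
    (e_2_1 : T.picMatrix 2 1 = 0)
    (cl : ∀ a b : Fin 4, a.val < 2 → 3 ≤ b.val → T.picMatrix a b = 0) :
    Goal T := by
  by_cases hc : ∀ b : Fin 4, 3 ≤ b.val → T.picMatrix 2 b = 0
  · exact nd_43 T hG hmax e_0_1 e_0_2 e_1_0 e_1_2 e_2_0 e_2_1 (nt_cl_succ T 3 2 2 rfl cl hc)
  · obtain ⟨τ, hfix, cl', z, hne⟩ := nt_wlog_step T 3 (by norm_num) 2 (by norm_num) 2 (by decide) cl hc
    apply goal_relabel T τ
    refine ex_44 (ntRelabel T τ) (hG.relabel τ) ?_ ?_ ?_ ?_ ?_ ?_ ?_ cl' z hne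
    · intro j
      show T.m (τ j) ≤ T.m (τ 0)
      rw [hfix 0 (by decide)]
      exact hmax _
    · show T.picMatrix (τ 0) (τ 1) = 1
      rw [hfix 0 (by decide), hfix 1 (by decide)]
      exact e_0_1
    · show T.picMatrix (τ 0) (τ 2) = 3
      rw [hfix 0 (by decide), hfix 2 (by decide)]
      exact e_0_2
    · show T.picMatrix (τ 1) (τ 0) = 1
      rw [hfix 1 (by decide), hfix 0 (by decide)]
      exact e_1_0
    · show T.picMatrix (τ 1) (τ 2) = 0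
      rw [hfix 1 (by decide), hfix 2 (by decide)]
      exact e_1_2
    · show T.picMatrix (τ 2) (τ 0) = 1
      rw [hfix 2 (by decide), hfix 0 (by decide)]
      exact e_2_0
    · show T.picMatrix (τ 2) (τ 1) = 0
      rw [hfix 2 (by decide), hfix 1 (by decide)]
      exact e_2_1

theorem ex_45 (T : Models.NumericalType 4)
    (hG : NTGood T)
    (hmax : ∀ j, T.m j ≤ T.m 0)
    (e_0_1 : T.picMatrix 0 1 = 1)
    (e_0_2 : T.picMatrix 0 2 = 3)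
    (e_1_0 : T.picMatrix 1 0 = 1)
    (e_1_2 : T.picMatrix 1 2 = 0)
    (e_2_0 : T.picMatrix 2 0 = 1)
    (e_2_1 : T.picMatrix 2 1 = 0)
    (cl : ∀ a b : Fin 4, a.val < 1 → 4 ≤ b.val → T.picMatrix a b = 0)
    (z : ∀ a : Fin 4, a.val < 1 → T.picMatrix a 3 = 0)
    (hne : T.picMatrix 1 3 ≠ 0) :
    Goal T := by
  have e_0_3 : T.picMatrix 0 3 = 0 := z 0 (by decide)
  have e_3_0 : T.picMatrix 3 0 = 0 := nt_pic_zero_symm T 0 3 e_0_3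
  obtain ⟨hg0, hdA, hdP, hnn, hrow, hsym, hpair⟩ := ntgood_data T (by norm_num) hG
  have hm_0 := T.m_pos 0
  have hw_0 := T.w_pos 0
  have hm_1 := T.m_pos 1
  have hw_1 := T.w_pos 1
  have hm_2 := T.m_pos 2
  have hw_2 := T.w_pos 2
  have hm_3 := T.m_pos 3
  have hw_3 := T.w_pos 3
  have hx_1 := hmax 1
  have hx_2 := hmax 2
  have hx_3 := hmax 3
  have N_1_3 := mul_nonneg (hnn 1 3 (by decide)) (T.m_pos 3).le
  have N_3_1 := mul_nonneg (hnn 3 1 (by decide)) (T.m_pos 1).le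
  have N_2_3 := mul_nonneg (hnn 2 3 (by decide)) (T.m_pos 3).le
  have N_3_2 := mul_nonneg (hnn 3 2 (by decide)) (T.m_pos 2).le
  have R_0 := hrow 0
  rw [Fin.sum_univ_four, hdP 0, e_0_1, e_0_2, e_0_3] at R_0
  have R_1 := hrow 1
  rw [Fin.sum_univ_four, hdP 1, e_1_0, e_1_2] at R_1
  have R_2 := hrow 2
  rw [Fin.sum_univ_four, hdP 2, e_2_0, e_2_1] at R_2
  have R_3 := hrow 3
  rw [Fin.sum_univ_four, hdP 3, e_3_0] at R_3
  have S_0_1 := hsym 0 1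
  rw [e_0_1, e_1_0] at S_0_1
  have S_0_2 := hsym 0 2
  rw [e_0_2, e_2_0] at S_0_2
  have S_0_3 := hsym 0 3
  rw [e_0_3, e_3_0] at S_0_3
  have S_1_2 := hsym 1 2
  rw [e_1_2, e_2_1] at S_1_2
  have S_1_3 := hsym 1 3
  have S_2_3 := hsym 2 3
  have Q_1 := hpair 1 3 (by decide)
  have Q_2 := hpair 2 3 (by decide)
  generalize e_1_3 : T.picMatrix 1 3 = x_1 at *
  generalize e_3_1 : T.picMatrix 3 1 = y_1 at *
  generalize e_2_3 : T.picMatrix 2 3 = x_2 at *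
  generalize e_3_2 : T.picMatrix 3 2 = y_2 at *
  rcases Q_1 with ⟨rfl, rfl⟩ | ⟨rfl, rfl⟩ | ⟨rfl, rfl⟩ | ⟨rfl, rfl⟩ | ⟨rfl, rfl⟩ | ⟨rfl, rfl⟩ | ⟨rfl, rfl⟩ | ⟨rfl, rfl⟩ | ⟨rfl, rfl⟩
  · exact absurd rfl hne
  · omega
  · omega
  · omega
  · omega
  · omega
  · omega
  · omega
  · omega

theorem nd_41 (T : Models.NumericalType 4)
    (hG : NTGood T)
    (hmax : ∀ j, T.m j ≤ T.m 0)
    (e_0_1 : T.picMatrix 0 1 = 1)
    (e_0_2 : T.picMatrix 0 2 = 3)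
    (e_1_0 : T.picMatrix 1 0 = 1)
    (e_1_2 : T.picMatrix 1 2 = 0)
    (e_2_0 : T.picMatrix 2 0 = 1)
    (e_2_1 : T.picMatrix 2 1 = 0)
    (cl : ∀ a b : Fin 4, a.val < 1 → 3 ≤ b.val → T.picMatrix a b = 0) :
    Goal T := by
  by_cases hc : ∀ b : Fin 4, 3 ≤ b.val → T.picMatrix 1 b = 0
  · exact nd_42 T hG hmax e_0_1 e_0_2 e_1_0 e_1_2 e_2_0 e_2_1 (nt_cl_succ T 3 1 1 rfl cl hc)
  · obtain ⟨τ, hfix, cl', z, hne⟩ := nt_wlog_step T 3 (by norm_num) 1 (by norm_num) 1 (by decide) cl hc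
    apply goal_relabel T τ
    refine ex_45 (ntRelabel T τ) (hG.relabel τ) ?_ ?_ ?_ ?_ ?_ ?_ ?_ cl' z hne
    · intro j
      show T.m (τ j) ≤ T.m (τ 0)
      rw [hfix 0 (by decide)]
      exact hmax _
    · show T.picMatrix (τ 0) (τ 1) = 1
      rw [hfix 0 (by decide), hfix 1 (by decide)]
      exact e_0_1
    · show T.picMatrix (τ 0) (τ 2) = 3
      rw [hfix 0 (by decide), hfix 2 (by decide)]
      exact e_0_2
    · show T.picMatrix (τ 1) (τ 0) = 1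
      rw [hfix 1 (by decide), hfix 0 (by decide)]
      exact e_1_0
    · show T.picMatrix (τ 1) (τ 2) = 0
      rw [hfix 1 (by decide), hfix 2 (by decide)]
      exact e_1_2
    · show T.picMatrix (τ 2) (τ 0) = 1
      rw [hfix 2 (by decide), hfix 0 (by decide)]
      exact e_2_0
    · show T.picMatrix (τ 2) (τ 1) = 0
      rw [hfix 2 (by decide), hfix 1 (by decide)]
      exact e_2_1

theorem ex_46 (T : Models.NumericalType 4)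
    (hG : NTGood T)
    (hmax : ∀ j, T.m j ≤ T.m 0)
    (e_0_1 : T.picMatrix 0 1 = 1)
    (e_0_2 : T.picMatrix 0 2 = 3)
    (e_1_0 : T.picMatrix 1 0 = 1)
    (e_1_2 : T.picMatrix 1 2 = 0)
    (e_2_0 : T.picMatrix 2 0 = 1)
    (e_2_1 : T.picMatrix 2 1 = 0)
    (cl : ∀ a b : Fin 4, a.val < 0 → 4 ≤ b.val → T.picMatrix a b = 0)
    (z : ∀ a : Fin 4, a.val < 0 → T.picMatrix a 3 = 0)
    (hne : T.picMatrix 0 3 ≠ 0) :
    Goal T := by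
  obtain ⟨hg0, hdA, hdP, hnn, hrow, hsym, hpair⟩ := ntgood_data T (by norm_num) hG
  have hm_0 := T.m_pos 0
  have hw_0 := T.w_pos 0
  have hm_1 := T.m_pos 1
  have hw_1 := T.w_pos 1
  have hm_2 := T.m_pos 2
  have hw_2 := T.w_pos 2
  have hm_3 := T.m_pos 3
  have hw_3 := T.w_pos 3
  have hx_1 := hmax 1
  have hx_2 := hmax 2
  have hx_3 := hmax 3
  have N_0_3 := mul_nonneg (hnn 0 3 (by decide)) (T.m_pos 3).le
  have N_3_0 := mul_nonneg (hnn 3 0 (by decide)) (T.m_pos 0).le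
  have N_1_3 := mul_nonneg (hnn 1 3 (by decide)) (T.m_pos 3).le
  have N_3_1 := mul_nonneg (hnn 3 1 (by decide)) (T.m_pos 1).le
  have N_2_3 := mul_nonneg (hnn 2 3 (by decide)) (T.m_pos 3).le
  have N_3_2 := mul_nonneg (hnn 3 2 (by decide)) (T.m_pos 2).le
  have R_0 := hrow 0
  rw [Fin.sum_univ_four, hdP 0, e_0_1, e_0_2] at R_0
  have R_1 := hrow 1
  rw [Fin.sum_univ_four, hdP 1, e_1_0, e_1_2] at R_1
  have R_2 := hrow 2
  rw [Fin.sum_univ_four, hdP 2, e_2_0, e_2_1] at R_2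
  have R_3 := hrow 3
  rw [Fin.sum_univ_four, hdP 3] at R_3
  have S_0_1 := hsym 0 1
  rw [e_0_1, e_1_0] at S_0_1
  have S_0_2 := hsym 0 2
  rw [e_0_2, e_2_0] at S_0_2
  have S_0_3 := hsym 0 3
  have S_1_2 := hsym 1 2
  rw [e_1_2, e_2_1] at S_1_2
  have S_1_3 := hsym 1 3
  have S_2_3 := hsym 2 3
  have Q_0 := hpair 0 3 (by decide)
  have Q_1 := hpair 1 3 (by decide)
  have Q_2 := hpair 2 3 (by decide)
  generalize e_0_3 : T.picMatrix 0 3 = x_0 at *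
  generalize e_3_0 : T.picMatrix 3 0 = y_0 at *
  generalize e_1_3 : T.picMatrix 1 3 = x_1 at *
  generalize e_3_1 : T.picMatrix 3 1 = y_1 at *
  generalize e_2_3 : T.picMatrix 2 3 = x_2 at *
  generalize e_3_2 : T.picMatrix 3 2 = y_2 at *
  rcases Q_0 with ⟨rfl, rfl⟩ | ⟨rfl, rfl⟩ | ⟨rfl, rfl⟩ | ⟨rfl, rfl⟩ | ⟨rfl, rfl⟩ | ⟨rfl, rfl⟩ | ⟨rfl, rfl⟩ | ⟨rfl, rfl⟩ | ⟨rfl, rfl⟩
  · exact absurd rfl hne
  · omega
  · omega
  · omega
  · omega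
  · omega
  · omega
  · omega
  · omega

theorem nd_40 (T : Models.NumericalType 4)
    (hG : NTGood T)
    (hmax : ∀ j, T.m j ≤ T.m 0)
    (e_0_1 : T.picMatrix 0 1 = 1)
    (e_0_2 : T.picMatrix 0 2 = 3)
    (e_1_0 : T.picMatrix 1 0 = 1)
    (e_1_2 : T.picMatrix 1 2 = 0)
    (e_2_0 : T.picMatrix 2 0 = 1)
    (e_2_1 : T.picMatrix 2 1 = 0)
    (cl : ∀ a b : Fin 4, a.val < 0 → 3 ≤ b.val → T.picMatrix a b = 0) :
    Goal T := by
  by_cases hc : ∀ b : Fin 4, 3 ≤ b.val → T.picMatrix 0 b = 0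
  · exact nd_41 T hG hmax e_0_1 e_0_2 e_1_0 e_1_2 e_2_0 e_2_1 (nt_cl_succ T 3 0 0 rfl cl hc)
  · obtain ⟨τ, hfix, cl', z, hne⟩ := nt_wlog_step T 3 (by norm_num) 0 (by norm_num) 0 (by decide) cl hc
    apply goal_relabel T τ
    refine ex_46 (ntRelabel T τ) (hG.relabel τ) ?_ ?_ ?_ ?_ ?_ ?_ ?_ cl' z hne
    · intro j
      show T.m (τ j) ≤ T.m (τ 0)
      rw [hfix 0 (by decide)]
      exact hmax _
    · show T.picMatrix (τ 0) (τ 1) = 1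
      rw [hfix 0 (by decide), hfix 1 (by decide)]
      exact e_0_1
    · show T.picMatrix (τ 0) (τ 2) = 3
      rw [hfix 0 (by decide), hfix 2 (by decide)]
      exact e_0_2
    · show T.picMatrix (τ 1) (τ 0) = 1
      rw [hfix 1 (by decide), hfix 0 (by decide)]
      exact e_1_0
    · show T.picMatrix (τ 1) (τ 2) = 0
      rw [hfix 1 (by decide), hfix 2 (by decide)]
      exact e_1_2
    · show T.picMatrix (τ 2) (τ 0) = 1
      rw [hfix 2 (by decide), hfix 0 (by decide)]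
      exact e_2_0
    · show T.picMatrix (τ 2) (τ 1) = 0
      rw [hfix 2 (by decide), hfix 1 (by decide)]
      exact e_2_1

theorem ex_6 (T : Models.NumericalType 4)
    (hG : NTGood T)
    (hmax : ∀ j, T.m j ≤ T.m 0)
    (e_0_1 : T.picMatrix 0 1 = 1)
    (e_1_0 : T.picMatrix 1 0 = 1)
    (cl : ∀ a b : Fin 4, a.val < 0 → 3 ≤ b.val → T.picMatrix a b = 0)
    (z : ∀ a : Fin 4, a.val < 0 → T.picMatrix a 2 = 0)
    (hne : T.picMatrix 0 2 ≠ 0) :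
    Goal T := by
  obtain ⟨hg0, hdA, hdP, hnn, hrow, hsym, hpair⟩ := ntgood_data T (by norm_num) hG
  have hm_0 := T.m_pos 0
  have hw_0 := T.w_pos 0
  have hm_1 := T.m_pos 1
  have hw_1 := T.w_pos 1
  have hm_2 := T.m_pos 2
  have hw_2 := T.w_pos 2
  have hx_1 := hmax 1
  have hx_2 := hmax 2
  have N_0_3 := mul_nonneg (hnn 0 3 (by decide)) (T.m_pos 3).le
  have N_1_3 := mul_nonneg (hnn 1 3 (by decide)) (T.m_pos 3).le
  have N_2_3 := mul_nonneg (hnn 2 3 (by decide)) (T.m_pos 3).le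
  have N_0_2 := mul_nonneg (hnn 0 2 (by decide)) (T.m_pos 2).le
  have N_2_0 := mul_nonneg (hnn 2 0 (by decide)) (T.m_pos 0).le
  have N_1_2 := mul_nonneg (hnn 1 2 (by decide)) (T.m_pos 2).le
  have N_2_1 := mul_nonneg (hnn 2 1 (by decide)) (T.m_pos 1).le
  have R_0 := hrow 0
  rw [Fin.sum_univ_four, hdP 0, e_0_1] at R_0
  have R_1 := hrow 1
  rw [Fin.sum_univ_four, hdP 1, e_1_0] at R_1
  have R_2 := hrow 2
  rw [Fin.sum_univ_four, hdP 2] at R_2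
  have S_0_1 := hsym 0 1
  rw [e_0_1, e_1_0] at S_0_1
  have S_0_2 := hsym 0 2
  have S_1_2 := hsym 1 2
  have Q_0 := hpair 0 2 (by decide)
  have Q_1 := hpair 1 2 (by decide)
  generalize e_0_2 : T.picMatrix 0 2 = x_0 at *
  generalize e_2_0 : T.picMatrix 2 0 = y_0 at *
  generalize e_1_2 : T.picMatrix 1 2 = x_1 at *
  generalize e_2_1 : T.picMatrix 2 1 = y_1 at *
  rcases Q_0 with ⟨rfl, rfl⟩ | ⟨rfl, rfl⟩ | ⟨rfl, rfl⟩ | ⟨rfl, rfl⟩ | ⟨rfl, rfl⟩ | ⟨rfl, rfl⟩ | ⟨rfl, rfl⟩ | ⟨rfl, rfl⟩ | ⟨rfl, rfl⟩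
  · exact absurd rfl hne
  · -- (0,2) = (1,1)
    rcases Q_1 with ⟨rfl, rfl⟩ | ⟨rfl, rfl⟩ | ⟨rfl, rfl⟩ | ⟨rfl, rfl⟩ | ⟨rfl, rfl⟩ | ⟨rfl, rfl⟩ | ⟨rfl, rfl⟩ | ⟨rfl, rfl⟩ | ⟨rfl, rfl⟩
    · -- (1,2) = (0,0)
      exact nd_7 T hG hmax e_0_1 e_0_2 e_1_0 e_1_2 e_2_0 e_2_1 cl
    · -- (1,2) = (1,1)
      exact nd_15 T hG hmax e_0_1 e_0_2 e_1_0 e_1_2 e_2_0 e_2_1 cl
    · -- (1,2) = (1,2)
      omega
    · -- (1,2) = (2,1)
      omega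
    · -- (1,2) = (1,3)
      omega
    · -- (1,2) = (3,1)
      omega
    · -- (1,2) = (1,4)
      omega
    · -- (1,2) = (4,1)
      omega
    · -- (1,2) = (2,2)
      omega
  · -- (0,2) = (1,2)
    rcases Q_1 with ⟨rfl, rfl⟩ | ⟨rfl, rfl⟩ | ⟨rfl, rfl⟩ | ⟨rfl, rfl⟩ | ⟨rfl, rfl⟩ | ⟨rfl, rfl⟩ | ⟨rfl, rfl⟩ | ⟨rfl, rfl⟩ | ⟨rfl, rfl⟩
    · -- (1,2) = (0,0)
      exact nd_22 T hG hmax e_0_1 e_0_2 e_1_0 e_1_2 e_2_0 e_2_1 cl
    · -- (1,2) = (1,1)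
      omega
    · -- (1,2) = (1,2)
      omega
    · -- (1,2) = (2,1)
      omega
    · -- (1,2) = (1,3)
      omega
    · -- (1,2) = (3,1)
      omega
    · -- (1,2) = (1,4)
      omega
    · -- (1,2) = (4,1)
      omega
    · -- (1,2) = (2,2)
      omega
  · -- (0,2) = (2,1)
    rcases Q_1 with ⟨rfl, rfl⟩ | ⟨rfl, rfl⟩ | ⟨rfl, rfl⟩ | ⟨rfl, rfl⟩ | ⟨rfl, rfl⟩ | ⟨rfl, rfl⟩ | ⟨rfl, rfl⟩ | ⟨rfl, rfl⟩ | ⟨rfl, rfl⟩
    · -- (1,2) = (0,0)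
      exact nd_30 T hG hmax e_0_1 e_0_2 e_1_0 e_1_2 e_2_0 e_2_1 cl
    · -- (1,2) = (1,1)
      omega
    · -- (1,2) = (1,2)
      omega
    · -- (1,2) = (2,1)
      omega
    · -- (1,2) = (1,3)
      omega
    · -- (1,2) = (3,1)
      omega
    · -- (1,2) = (1,4)
      omega
    · -- (1,2) = (4,1)
      omega
    · -- (1,2) = (2,2)
      omega
  · omega
  · -- (0,2) = (3,1)
    rcases Q_1 with ⟨rfl, rfl⟩ | ⟨rfl, rfl⟩ | ⟨rfl, rfl⟩ | ⟨rfl, rfl⟩ | ⟨rfl, rfl⟩ | ⟨rfl, rfl⟩ | ⟨rfl, rfl⟩ | ⟨rfl, rfl⟩ | ⟨rfl, rfl⟩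
    · -- (1,2) = (0,0)
      exact nd_40 T hG hmax e_0_1 e_0_2 e_1_0 e_1_2 e_2_0 e_2_1 cl
    · -- (1,2) = (1,1)
      omega
    · -- (1,2) = (1,2)
      omega
    · -- (1,2) = (2,1)
      omega
    · -- (1,2) = (1,3)
      omega
    · -- (1,2) = (3,1)
      omega
    · -- (1,2) = (1,4)
      omega
    · -- (1,2) = (4,1)
      omega
    · -- (1,2) = (2,2)
      omega
  · omega
  · omega
  · omega

theorem nd_4 (T : Models.NumericalType 4)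
    (hG : NTGood T)
    (hmax : ∀ j, T.m j ≤ T.m 0)
    (e_0_1 : T.picMatrix 0 1 = 1)
    (e_1_0 : T.picMatrix 1 0 = 1)
    (cl : ∀ a b : Fin 4, a.val < 0 → 2 ≤ b.val → T.picMatrix a b = 0) :
    Goal T := by
  by_cases hc : ∀ b : Fin 4, 2 ≤ b.val → T.picMatrix 0 b = 0
  · exact nd_5 T hG hmax e_0_1 e_1_0 (nt_cl_succ T 2 0 0 rfl cl hc)
  · obtain ⟨τ, hfix, cl', z, hne⟩ := nt_wlog_step T 2 (by norm_num) 0 (by norm_num) 0 (by decide) cl hc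
    apply goal_relabel T τ
    refine ex_6 (ntRelabel T τ) (hG.relabel τ) ?_ ?_ ?_ cl' z hne
    · intro j
      show T.m (τ j) ≤ T.m (τ 0)
      rw [hfix 0 (by decide)]
      exact hmax _
    · show T.picMatrix (τ 0) (τ 1) = 1
      rw [hfix 0 (by decide), hfix 1 (by decide)]
      exact e_0_1
    · show T.picMatrix (τ 1) (τ 0) = 1
      rw [hfix 1 (by decide), hfix 0 (by decide)]
      exact e_1_0

theorem nd_48 (T : Models.NumericalType 4)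
    (hG : NTGood T)
    (hmax : ∀ j, T.m j ≤ T.m 0)
    (e_0_1 : T.picMatrix 0 1 = 1)
    (e_1_0 : T.picMatrix 1 0 = 2)
    (cl : ∀ a b : Fin 4, a.val < 1 → 2 ≤ b.val → T.picMatrix a b = 0) :
    Goal T := by
  obtain ⟨hg0, hdA, hdP, hnn, hrow, hsym, hpair⟩ := ntgood_data T (by norm_num) hG
  have hm_0 := T.m_pos 0
  have hw_0 := T.w_pos 0
  have hm_1 := T.m_pos 1
  have hw_1 := T.w_pos 1
  have hx_1 := hmax 1
  have Z_0_2 := cl 0 2 (by decide) (by decide)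
  have Z_0_3 := cl 0 3 (by decide) (by decide)
  have N_1_2 := mul_nonneg (hnn 1 2 (by decide)) (T.m_pos 2).le
  have N_1_3 := mul_nonneg (hnn 1 3 (by decide)) (T.m_pos 3).le
  have R_0 := hrow 0
  rw [Fin.sum_univ_four, hdP 0, e_0_1, Z_0_2, Z_0_3] at R_0
  have R_1 := hrow 1
  rw [Fin.sum_univ_four, hdP 1, e_1_0] at R_1
  have S_0_1 := hsym 0 1
  rw [e_0_1, e_1_0] at S_0_1
  exfalso
  omega

theorem nd_53 (T : Models.NumericalType 4)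
    (hG : NTGood T)
    (hmax : ∀ j, T.m j ≤ T.m 0)
    (e_0_1 : T.picMatrix 0 1 = 1)
    (e_0_2 : T.picMatrix 0 2 = 1)
    (e_1_0 : T.picMatrix 1 0 = 2)
    (e_1_2 : T.picMatrix 1 2 = 0)
    (e_2_0 : T.picMatrix 2 0 = 1)
    (e_2_1 : T.picMatrix 2 1 = 0)
    (cl : ∀ a b : Fin 4, a.val < 3 → 3 ≤ b.val → T.picMatrix a b = 0) :
    Goal T := by
  obtain ⟨hg0, hdA, hdP, hnn, hrow, hsym, hpair⟩ := ntgood_data T (by norm_num) hG
  have hm_0 := T.m_pos 0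
  have hw_0 := T.w_pos 0
  have hm_1 := T.m_pos 1
  have hw_1 := T.w_pos 1
  have hm_2 := T.m_pos 2
  have hw_2 := T.w_pos 2
  have hx_1 := hmax 1
  have hx_2 := hmax 2
  have Z_0_3 := cl 0 3 (by decide) (by decide)
  have Z_1_3 := cl 1 3 (by decide) (by decide)
  have Z_2_3 := cl 2 3 (by decide) (by decide)
  have R_0 := hrow 0
  rw [Fin.sum_univ_four, hdP 0, e_0_1, e_0_2, Z_0_3] at R_0
  have R_1 := hrow 1
  rw [Fin.sum_univ_four, hdP 1, e_1_0, e_1_2, Z_1_3] at R_1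
  have R_2 := hrow 2
  rw [Fin.sum_univ_four, hdP 2, e_2_0, e_2_1, Z_2_3] at R_2
  have S_0_1 := hsym 0 1
  rw [e_0_1, e_1_0] at S_0_1
  have S_0_2 := hsym 0 2
  rw [e_0_2, e_2_0] at S_0_2
  have S_1_2 := hsym 1 2
  rw [e_1_2, e_2_1] at S_1_2
  exfalso
  omega

theorem nd_55 (T : Models.NumericalType 4)
    (hG : NTGood T)
    (hmax : ∀ j, T.m j ≤ T.m 0)
    (e_0_1 : T.picMatrix 0 1 = 1)
    (e_0_2 : T.picMatrix 0 2 = 1)
    (e_0_3 : T.picMatrix 0 3 = 0)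
    (e_1_0 : T.picMatrix 1 0 = 2)
    (e_1_2 : T.picMatrix 1 2 = 0)
    (e_1_3 : T.picMatrix 1 3 = 0)
    (e_2_0 : T.picMatrix 2 0 = 1)
    (e_2_1 : T.picMatrix 2 1 = 0)
    (e_2_3 : T.picMatrix 2 3 = 1)
    (e_3_0 : T.picMatrix 3 0 = 0)
    (e_3_1 : T.picMatrix 3 1 = 0)
    (e_3_2 : T.picMatrix 3 2 = 2)
    (cl : ∀ a b : Fin 4, a.val < 2 → 4 ≤ b.val → T.picMatrix a b = 0) :
    Goal T := by
  obtain ⟨hg0, hdA, hdP, hnn, hrow, hsym, hpair⟩ := ntgood_data T (by norm_num) hG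
  have hm_0 := T.m_pos 0
  have hw_0 := T.w_pos 0
  have hm_1 := T.m_pos 1
  have hw_1 := T.w_pos 1
  have hm_2 := T.m_pos 2
  have hw_2 := T.w_pos 2
  have hm_3 := T.m_pos 3
  have hw_3 := T.w_pos 3
  have hx_1 := hmax 1
  have hx_2 := hmax 2
  have hx_3 := hmax 3
  have R_0 := hrow 0
  rw [Fin.sum_univ_four, hdP 0, e_0_1, e_0_2, e_0_3] at R_0
  have R_1 := hrow 1
  rw [Fin.sum_univ_four, hdP 1, e_1_0, e_1_2, e_1_3] at R_1
  have R_2 := hrow 2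
  rw [Fin.sum_univ_four, hdP 2, e_2_0, e_2_1, e_2_3] at R_2
  have R_3 := hrow 3
  rw [Fin.sum_univ_four, hdP 3, e_3_0, e_3_1, e_3_2] at R_3
  have S_0_1 := hsym 0 1
  rw [e_0_1, e_1_0] at S_0_1
  have S_0_2 := hsym 0 2
  rw [e_0_2, e_2_0] at S_0_2
  have S_0_3 := hsym 0 3
  rw [e_0_3, e_3_0] at S_0_3
  have S_1_2 := hsym 1 2
  rw [e_1_2, e_2_1] at S_1_2
  have S_1_3 := hsym 1 3
  rw [e_1_3, e_3_1] at S_1_3
  have S_2_3 := hsym 2 3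
  rw [e_2_3, e_3_2] at S_2_3
  have D_0 := hdA 0
  have A_0_1 := nt_a_eq T 0 1
  rw [e_0_1] at A_0_1
  have A_0_2 := nt_a_eq T 0 2
  rw [e_0_2] at A_0_2
  have A_0_3 := nt_a_eq T 0 3
  rw [e_0_3] at A_0_3
  have D_1 := hdA 1
  have A_1_0 := nt_a_eq T 1 0
  rw [e_1_0] at A_1_0
  have A_1_2 := nt_a_eq T 1 2
  rw [e_1_2] at A_1_2
  have A_1_3 := nt_a_eq T 1 3
  rw [e_1_3] at A_1_3
  have D_2 := hdA 2
  have A_2_0 := nt_a_eq T 2 0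
  rw [e_2_0] at A_2_0
  have A_2_1 := nt_a_eq T 2 1
  rw [e_2_1] at A_2_1
  have A_2_3 := nt_a_eq T 2 3
  rw [e_2_3] at A_2_3
  have D_3 := hdA 3
  have A_3_0 := nt_a_eq T 3 0
  rw [e_3_0] at A_3_0
  have A_3_1 := nt_a_eq T 3 1
  rw [e_3_1] at A_3_1
  have A_3_2 := nt_a_eq T 3 2
  rw [e_3_2] at A_3_2
  refine goal_of_indices T hg0 1 0 2 3 (by decide) (T.m 1) (T.w 1) ?_
  unfold Goali
  exact Or.inr (Or.inr (Or.inl ⟨by omega, by omega, by omega, by omega, by omega, by omega, by omega, by omega, by omega, by omega, by omega, by omega, by omega, by omega, by omega, by omega, by omega, by omega⟩))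

theorem nd_56 (T : Models.NumericalType 4)
    (hG : NTGood T)
    (hmax : ∀ j, T.m j ≤ T.m 0)
    (e_0_1 : T.picMatrix 0 1 = 1)
    (e_0_2 : T.picMatrix 0 2 = 1)
    (e_0_3 : T.picMatrix 0 3 = 0)
    (e_1_0 : T.picMatrix 1 0 = 2)
    (e_1_2 : T.picMatrix 1 2 = 0)
    (e_1_3 : T.picMatrix 1 3 = 0)
    (e_2_0 : T.picMatrix 2 0 = 1)
    (e_2_1 : T.picMatrix 2 1 = 0)
    (e_2_3 : T.picMatrix 2 3 = 2)
    (e_3_0 : T.picMatrix 3 0 = 0)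
    (e_3_1 : T.picMatrix 3 1 = 0)
    (e_3_2 : T.picMatrix 3 2 = 1)
    (cl : ∀ a b : Fin 4, a.val < 2 → 4 ≤ b.val → T.picMatrix a b = 0) :
    Goal T := by
  obtain ⟨hg0, hdA, hdP, hnn, hrow, hsym, hpair⟩ := ntgood_data T (by norm_num) hG
  have hm_0 := T.m_pos 0
  have hw_0 := T.w_pos 0
  have hm_1 := T.m_pos 1
  have hw_1 := T.w_pos 1
  have hm_2 := T.m_pos 2
  have hw_2 := T.w_pos 2
  have hm_3 := T.m_pos 3
  have hw_3 := T.w_pos 3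
  have hx_1 := hmax 1
  have hx_2 := hmax 2
  have hx_3 := hmax 3
  have R_0 := hrow 0
  rw [Fin.sum_univ_four, hdP 0, e_0_1, e_0_2, e_0_3] at R_0
  have R_1 := hrow 1
  rw [Fin.sum_univ_four, hdP 1, e_1_0, e_1_2, e_1_3] at R_1
  have R_2 := hrow 2
  rw [Fin.sum_univ_four, hdP 2, e_2_0, e_2_1, e_2_3] at R_2
  have R_3 := hrow 3
  rw [Fin.sum_univ_four, hdP 3, e_3_0, e_3_1, e_3_2] at R_3
  have S_0_1 := hsym 0 1
  rw [e_0_1, e_1_0] at S_0_1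
  have S_0_2 := hsym 0 2
  rw [e_0_2, e_2_0] at S_0_2
  have S_0_3 := hsym 0 3
  rw [e_0_3, e_3_0] at S_0_3
  have S_1_2 := hsym 1 2
  rw [e_1_2, e_2_1] at S_1_2
  have S_1_3 := hsym 1 3
  rw [e_1_3, e_3_1] at S_1_3
  have S_2_3 := hsym 2 3
  rw [e_2_3, e_3_2] at S_2_3
  have D_0 := hdA 0
  have A_0_1 := nt_a_eq T 0 1
  rw [e_0_1] at A_0_1
  have A_0_2 := nt_a_eq T 0 2
  rw [e_0_2] at A_0_2
  have A_0_3 := nt_a_eq T 0 3
  rw [e_0_3] at A_0_3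
  have D_1 := hdA 1
  have A_1_0 := nt_a_eq T 1 0
  rw [e_1_0] at A_1_0
  have A_1_2 := nt_a_eq T 1 2
  rw [e_1_2] at A_1_2
  have A_1_3 := nt_a_eq T 1 3
  rw [e_1_3] at A_1_3
  have D_2 := hdA 2
  have A_2_0 := nt_a_eq T 2 0
  rw [e_2_0] at A_2_0
  have A_2_1 := nt_a_eq T 2 1
  rw [e_2_1] at A_2_1
  have A_2_3 := nt_a_eq T 2 3
  rw [e_2_3] at A_2_3
  have D_3 := hdA 3
  have A_3_0 := nt_a_eq T 3 0
  rw [e_3_0] at A_3_0
  have A_3_1 := nt_a_eq T 3 1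
  rw [e_3_1] at A_3_1
  have A_3_2 := nt_a_eq T 3 2
  rw [e_3_2] at A_3_2
  refine goal_of_indices T hg0 1 0 2 3 (by decide) (T.m 3) (T.w 1) ?_
  unfold Goali
  exact Or.inr (Or.inl ⟨by omega, by omega, by omega, by omega, by omega, by omega, by omega, by omega, by omega, by omega, by omega, by omega, by omega, by omega, by omega, by omega, by omega, by omega⟩)

theorem ex_54 (T : Models.NumericalType 4)
    (hG : NTGood T)
    (hmax : ∀ j, T.m j ≤ T.m 0)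
    (e_0_1 : T.picMatrix 0 1 = 1)
    (e_0_2 : T.picMatrix 0 2 = 1)
    (e_1_0 : T.picMatrix 1 0 = 2)
    (e_1_2 : T.picMatrix 1 2 = 0)
    (e_2_0 : T.picMatrix 2 0 = 1)
    (e_2_1 : T.picMatrix 2 1 = 0)
    (cl : ∀ a b : Fin 4, a.val < 2 → 4 ≤ b.val → T.picMatrix a b = 0)
    (z : ∀ a : Fin 4, a.val < 2 → T.picMatrix a 3 = 0)
    (hne : T.picMatrix 2 3 ≠ 0) :
    Goal T := by
  have e_0_3 : T.picMatrix 0 3 = 0 := z 0 (by decide)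
  have e_3_0 : T.picMatrix 3 0 = 0 := nt_pic_zero_symm T 0 3 e_0_3
  have e_1_3 : T.picMatrix 1 3 = 0 := z 1 (by decide)
  have e_3_1 : T.picMatrix 3 1 = 0 := nt_pic_zero_symm T 1 3 e_1_3
  obtain ⟨hg0, hdA, hdP, hnn, hrow, hsym, hpair⟩ := ntgood_data T (by norm_num) hG
  have hm_0 := T.m_pos 0
  have hw_0 := T.w_pos 0
  have hm_1 := T.m_pos 1
  have hw_1 := T.w_pos 1
  have hm_2 := T.m_pos 2
  have hw_2 := T.w_pos 2
  have hm_3 := T.m_pos 3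
  have hw_3 := T.w_pos 3
  have hx_1 := hmax 1
  have hx_2 := hmax 2
  have hx_3 := hmax 3
  have N_2_3 := mul_nonneg (hnn 2 3 (by decide)) (T.m_pos 3).le
  have N_3_2 := mul_nonneg (hnn 3 2 (by decide)) (T.m_pos 2).le
  have R_0 := hrow 0
  rw [Fin.sum_univ_four, hdP 0, e_0_1, e_0_2, e_0_3] at R_0
  have R_1 := hrow 1
  rw [Fin.sum_univ_four, hdP 1, e_1_0, e_1_2, e_1_3] at R_1
  have R_2 := hrow 2
  rw [Fin.sum_univ_four, hdP 2, e_2_0, e_2_1] at R_2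
  have R_3 := hrow 3
  rw [Fin.sum_univ_four, hdP 3, e_3_0, e_3_1] at R_3
  have S_0_1 := hsym 0 1
  rw [e_0_1, e_1_0] at S_0_1
  have S_0_2 := hsym 0 2
  rw [e_0_2, e_2_0] at S_0_2
  have S_0_3 := hsym 0 3
  rw [e_0_3, e_3_0] at S_0_3
  have S_1_2 := hsym 1 2
  rw [e_1_2, e_2_1] at S_1_2
  have S_1_3 := hsym 1 3
  rw [e_1_3, e_3_1] at S_1_3
  have S_2_3 := hsym 2 3
  have Q_2 := hpair 2 3 (by decide)
  generalize e_2_3 : T.picMatrix 2 3 = x_2 at *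
  generalize e_3_2 : T.picMatrix 3 2 = y_2 at *
  rcases Q_2 with ⟨rfl, rfl⟩ | ⟨rfl, rfl⟩ | ⟨rfl, rfl⟩ | ⟨rfl, rfl⟩ | ⟨rfl, rfl⟩ | ⟨rfl, rfl⟩ | ⟨rfl, rfl⟩ | ⟨rfl, rfl⟩ | ⟨rfl, rfl⟩
  · exact absurd rfl hne
  · -- (2,3) = (1,1)
    omega
  · -- (2,3) = (1,2)
    exact nd_55 T hG hmax e_0_1 e_0_2 e_0_3 e_1_0 e_1_2 e_1_3 e_2_0 e_2_1 e_2_3 e_3_0 e_3_1 e_3_2 cl
  · -- (2,3) = (2,1)
    exact nd_56 T hG hmax e_0_1 e_0_2 e_0_3 e_1_0 e_1_2 e_1_3 e_2_0 e_2_1 e_2_3 e_3_0 e_3_1 e_3_2 cl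
  · -- (2,3) = (1,3)
    omega
  · -- (2,3) = (3,1)
    omega
  · -- (2,3) = (1,4)
    omega
  · -- (2,3) = (4,1)
    omega
  · -- (2,3) = (2,2)
    omega

theorem nd_52 (T : Models.NumericalType 4)
    (hG : NTGood T)
    (hmax : ∀ j, T.m j ≤ T.m 0)
    (e_0_1 : T.picMatrix 0 1 = 1)
    (e_0_2 : T.picMatrix 0 2 = 1)
    (e_1_0 : T.picMatrix 1 0 = 2)
    (e_1_2 : T.picMatrix 1 2 = 0)
    (e_2_0 : T.picMatrix 2 0 = 1)
    (e_2_1 : T.picMatrix 2 1 = 0)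
    (cl : ∀ a b : Fin 4, a.val < 2 → 3 ≤ b.val → T.picMatrix a b = 0) :
    Goal T := by
  by_cases hc : ∀ b : Fin 4, 3 ≤ b.val → T.picMatrix 2 b = 0
  · exact nd_53 T hG hmax e_0_1 e_0_2 e_1_0 e_1_2 e_2_0 e_2_1 (nt_cl_succ T 3 2 2 rfl cl hc)
  · obtain ⟨τ, hfix, cl', z, hne⟩ := nt_wlog_step T 3 (by norm_num) 2 (by norm_num) 2 (by decide) cl hc
    apply goal_relabel T τ
    refine ex_54 (ntRelabel T τ) (hG.relabel τ) ?_ ?_ ?_ ?_ ?_ ?_ ?_ cl' z hne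
    · intro j
      show T.m (τ j) ≤ T.m (τ 0)
      rw [hfix 0 (by decide)]
      exact hmax _
    · show T.picMatrix (τ 0) (τ 1) = 1
      rw [hfix 0 (by decide), hfix 1 (by decide)]
      exact e_0_1
    · show T.picMatrix (τ 0) (τ 2) = 1
      rw [hfix 0 (by decide), hfix 2 (by decide)]
      exact e_0_2
    · show T.picMatrix (τ 1) (τ 0) = 2
      rw [hfix 1 (by decide), hfix 0 (by decide)]
      exact e_1_0
    · show T.picMatrix (τ 1) (τ 2) = 0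
      rw [hfix 1 (by decide), hfix 2 (by decide)]
      exact e_1_2
    · show T.picMatrix (τ 2) (τ 0) = 1
      rw [hfix 2 (by decide), hfix 0 (by decide)]
      exact e_2_0
    · show T.picMatrix (τ 2) (τ 1) = 0
      rw [hfix 2 (by decide), hfix 1 (by decide)]
      exact e_2_1

theorem ex_57 (T : Models.NumericalType 4)
    (hG : NTGood T)
    (hmax : ∀ j, T.m j ≤ T.m 0)
    (e_0_1 : T.picMatrix 0 1 = 1)
    (e_0_2 : T.picMatrix 0 2 = 1)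
    (e_1_0 : T.picMatrix 1 0 = 2)
    (e_1_2 : T.picMatrix 1 2 = 0)
    (e_2_0 : T.picMatrix 2 0 = 1)
    (e_2_1 : T.picMatrix 2 1 = 0)
    (cl : ∀ a b : Fin 4, a.val < 1 → 4 ≤ b.val → T.picMatrix a b = 0)
    (z : ∀ a : Fin 4, a.val < 1 → T.picMatrix a 3 = 0)
    (hne : T.picMatrix 1 3 ≠ 0) :
    Goal T := by
  have e_0_3 : T.picMatrix 0 3 = 0 := z 0 (by decide)
  have e_3_0 : T.picMatrix 3 0 = 0 := nt_pic_zero_symm T 0 3 e_0_3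
  obtain ⟨hg0, hdA, hdP, hnn, hrow, hsym, hpair⟩ := ntgood_data T (by norm_num) hG
  have hm_0 := T.m_pos 0
  have hw_0 := T.w_pos 0
  have hm_1 := T.m_pos 1
  have hw_1 := T.w_pos 1
  have hm_2 := T.m_pos 2
  have hw_2 := T.w_pos 2
  have hm_3 := T.m_pos 3
  have hw_3 := T.w_pos 3
  have hx_1 := hmax 1
  have hx_2 := hmax 2
  have hx_3 := hmax 3
  have N_1_3 := mul_nonneg (hnn 1 3 (by decide)) (T.m_pos 3).le
  have N_3_1 := mul_nonneg (hnn 3 1 (by decide)) (T.m_pos 1).le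
  have N_2_3 := mul_nonneg (hnn 2 3 (by decide)) (T.m_pos 3).le
  have N_3_2 := mul_nonneg (hnn 3 2 (by decide)) (T.m_pos 2).le
  have R_0 := hrow 0
  rw [Fin.sum_univ_four, hdP 0, e_0_1, e_0_2, e_0_3] at R_0
  have R_1 := hrow 1
  rw [Fin.sum_univ_four, hdP 1, e_1_0, e_1_2] at R_1
  have R_2 := hrow 2
  rw [Fin.sum_univ_four, hdP 2, e_2_0, e_2_1] at R_2
  have R_3 := hrow 3
  rw [Fin.sum_univ_four, hdP 3, e_3_0] at R_3
  have S_0_1 := hsym 0 1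
  rw [e_0_1, e_1_0] at S_0_1
  have S_0_2 := hsym 0 2
  rw [e_0_2, e_2_0] at S_0_2
  have S_0_3 := hsym 0 3
  rw [e_0_3, e_3_0] at S_0_3
  have S_1_2 := hsym 1 2
  rw [e_1_2, e_2_1] at S_1_2
  have S_1_3 := hsym 1 3
  have S_2_3 := hsym 2 3
  have Q_1 := hpair 1 3 (by decide)
  have Q_2 := hpair 2 3 (by decide)
  generalize e_1_3 : T.picMatrix 1 3 = x_1 at *
  generalize e_3_1 : T.picMatrix 3 1 = y_1 at *
  generalize e_2_3 : T.picMatrix 2 3 = x_2 at *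
  generalize e_3_2 : T.picMatrix 3 2 = y_2 at *
  rcases Q_1 with ⟨rfl, rfl⟩ | ⟨rfl, rfl⟩ | ⟨rfl, rfl⟩ | ⟨rfl, rfl⟩ | ⟨rfl, rfl⟩ | ⟨rfl, rfl⟩ | ⟨rfl, rfl⟩ | ⟨rfl, rfl⟩ | ⟨rfl, rfl⟩
  · exact absurd rfl hne
  · omega
  · omega
  · omega
  · omega
  · omega
  · omega
  · omega
  · omega

theorem nd_51 (T : Models.NumericalType 4)
    (hG : NTGood T)
    (hmax : ∀ j, T.m j ≤ T.m 0)
    (e_0_1 : T.picMatrix 0 1 = 1)
    (e_0_2 : T.picMatrix 0 2 = 1)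
    (e_1_0 : T.picMatrix 1 0 = 2)
    (e_1_2 : T.picMatrix 1 2 = 0)
    (e_2_0 : T.picMatrix 2 0 = 1)
    (e_2_1 : T.picMatrix 2 1 = 0)
    (cl : ∀ a b : Fin 4, a.val < 1 → 3 ≤ b.val → T.picMatrix a b = 0) :
    Goal T := by
  by_cases hc : ∀ b : Fin 4, 3 ≤ b.val → T.picMatrix 1 b = 0
  · exact nd_52 T hG hmax e_0_1 e_0_2 e_1_0 e_1_2 e_2_0 e_2_1 (nt_cl_succ T 3 1 1 rfl cl hc)
  · obtain ⟨τ, hfix, cl', z, hne⟩ := nt_wlog_step T 3 (by norm_num) 1 (by norm_num) 1 (by decide) cl hc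
    apply goal_relabel T τ
    refine ex_57 (ntRelabel T τ) (hG.relabel τ) ?_ ?_ ?_ ?_ ?_ ?_ ?_ cl' z hne
    · intro j
      show T.m (τ j) ≤ T.m (τ 0)
      rw [hfix 0 (by decide)]
      exact hmax _
    · show T.picMatrix (τ 0) (τ 1) = 1
      rw [hfix 0 (by decide), hfix 1 (by decide)]
      exact e_0_1
    · show T.picMatrix (τ 0) (τ 2) = 1
      rw [hfix 0 (by decide), hfix 2 (by decide)]
      exact e_0_2
    · show T.picMatrix (τ 1) (τ 0) = 2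
      rw [hfix 1 (by decide), hfix 0 (by decide)]
      exact e_1_0
    · show T.picMatrix (τ 1) (τ 2) = 0
      rw [hfix 1 (by decide), hfix 2 (by decide)]
      exact e_1_2
    · show T.picMatrix (τ 2) (τ 0) = 1
      rw [hfix 2 (by decide), hfix 0 (by decide)]
      exact e_2_0
    · show T.picMatrix (τ 2) (τ 1) = 0
      rw [hfix 2 (by decide), hfix 1 (by decide)]
      exact e_2_1

theorem nd_59 (T : Models.NumericalType 4)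
    (hG : NTGood T)
    (hmax : ∀ j, T.m j ≤ T.m 0)
    (e_0_1 : T.picMatrix 0 1 = 1)
    (e_0_2 : T.picMatrix 0 2 = 1)
    (e_0_3 : T.picMatrix 0 3 = 1)
    (e_1_0 : T.picMatrix 1 0 = 2)
    (e_1_2 : T.picMatrix 1 2 = 0)
    (e_1_3 : T.picMatrix 1 3 = 0)
    (e_2_0 : T.picMatrix 2 0 = 1)
    (e_2_1 : T.picMatrix 2 1 = 0)
    (e_2_3 : T.picMatrix 2 3 = 0)
    (e_3_0 : T.picMatrix 3 0 = 1)
    (e_3_1 : T.picMatrix 3 1 = 0)
    (e_3_2 : T.picMatrix 3 2 = 0)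
    (cl : ∀ a b : Fin 4, a.val < 0 → 4 ≤ b.val → T.picMatrix a b = 0) :
    Goal T := by
  obtain ⟨hg0, hdA, hdP, hnn, hrow, hsym, hpair⟩ := ntgood_data T (by norm_num) hG
  have hm_0 := T.m_pos 0
  have hw_0 := T.w_pos 0
  have hm_1 := T.m_pos 1
  have hw_1 := T.w_pos 1
  have hm_2 := T.m_pos 2
  have hw_2 := T.w_pos 2
  have hm_3 := T.m_pos 3
  have hw_3 := T.w_pos 3
  have hx_1 := hmax 1
  have hx_2 := hmax 2
  have hx_3 := hmax 3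
  have R_0 := hrow 0
  rw [Fin.sum_univ_four, hdP 0, e_0_1, e_0_2, e_0_3] at R_0
  have R_1 := hrow 1
  rw [Fin.sum_univ_four, hdP 1, e_1_0, e_1_2, e_1_3] at R_1
  have R_2 := hrow 2
  rw [Fin.sum_univ_four, hdP 2, e_2_0, e_2_1, e_2_3] at R_2
  have R_3 := hrow 3
  rw [Fin.sum_univ_four, hdP 3, e_3_0, e_3_1, e_3_2] at R_3
  have S_0_1 := hsym 0 1
  rw [e_0_1, e_1_0] at S_0_1
  have S_0_2 := hsym 0 2
  rw [e_0_2, e_2_0] at S_0_2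
  have S_0_3 := hsym 0 3
  rw [e_0_3, e_3_0] at S_0_3
  have S_1_2 := hsym 1 2
  rw [e_1_2, e_2_1] at S_1_2
  have S_1_3 := hsym 1 3
  rw [e_1_3, e_3_1] at S_1_3
  have S_2_3 := hsym 2 3
  rw [e_2_3, e_3_2] at S_2_3
  have D_0 := hdA 0
  have A_0_1 := nt_a_eq T 0 1
  rw [e_0_1] at A_0_1
  have A_0_2 := nt_a_eq T 0 2
  rw [e_0_2] at A_0_2
  have A_0_3 := nt_a_eq T 0 3
  rw [e_0_3] at A_0_3
  have D_1 := hdA 1
  have A_1_0 := nt_a_eq T 1 0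
  rw [e_1_0] at A_1_0
  have A_1_2 := nt_a_eq T 1 2
  rw [e_1_2] at A_1_2
  have A_1_3 := nt_a_eq T 1 3
  rw [e_1_3] at A_1_3
  have D_2 := hdA 2
  have A_2_0 := nt_a_eq T 2 0
  rw [e_2_0] at A_2_0
  have A_2_1 := nt_a_eq T 2 1
  rw [e_2_1] at A_2_1
  have A_2_3 := nt_a_eq T 2 3
  rw [e_2_3] at A_2_3
  have D_3 := hdA 3
  have A_3_0 := nt_a_eq T 3 0
  rw [e_3_0] at A_3_0
  have A_3_1 := nt_a_eq T 3 1
  rw [e_3_1] at A_3_1
  have A_3_2 := nt_a_eq T 3 2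
  rw [e_3_2] at A_3_2
  refine goal_of_indices T hg0 0 2 3 1 (by decide) (T.m 2) (T.w 1) ?_
  unfold Goali
  exact Or.inr (Or.inr (Or.inr (Or.inr (Or.inr (⟨by omega, by omega, by omega, by omega, by omega, by omega, by omega, by omega, by omega, by omega, by omega, by omega, by omega, by omega, by omega, by omega, by omega, by omega⟩)))))

theorem ex_58 (T : Models.NumericalType 4)
    (hG : NTGood T)
    (hmax : ∀ j, T.m j ≤ T.m 0)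
    (e_0_1 : T.picMatrix 0 1 = 1)
    (e_0_2 : T.picMatrix 0 2 = 1)
    (e_1_0 : T.picMatrix 1 0 = 2)
    (e_1_2 : T.picMatrix 1 2 = 0)
    (e_2_0 : T.picMatrix 2 0 = 1)
    (e_2_1 : T.picMatrix 2 1 = 0)
    (cl : ∀ a b : Fin 4, a.val < 0 → 4 ≤ b.val → T.picMatrix a b = 0)
    (z : ∀ a : Fin 4, a.val < 0 → T.picMatrix a 3 = 0)
    (hne : T.picMatrix 0 3 ≠ 0) :
    Goal T := by
  obtain ⟨hg0, hdA, hdP, hnn, hrow, hsym, hpair⟩ := ntgood_data T (by norm_num) hG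
  have hm_0 := T.m_pos 0
  have hw_0 := T.w_pos 0
  have hm_1 := T.m_pos 1
  have hw_1 := T.w_pos 1
  have hm_2 := T.m_pos 2
  have hw_2 := T.w_pos 2
  have hm_3 := T.m_pos 3
  have hw_3 := T.w_pos 3
  have hx_1 := hmax 1
  have hx_2 := hmax 2
  have hx_3 := hmax 3
  have N_0_3 := mul_nonneg (hnn 0 3 (by decide)) (T.m_pos 3).le
  have N_3_0 := mul_nonneg (hnn 3 0 (by decide)) (T.m_pos 0).le
  have N_1_3 := mul_nonneg (hnn 1 3 (by decide)) (T.m_pos 3).le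
  have N_3_1 := mul_nonneg (hnn 3 1 (by decide)) (T.m_pos 1).le
  have N_2_3 := mul_nonneg (hnn 2 3 (by decide)) (T.m_pos 3).le
  have N_3_2 := mul_nonneg (hnn 3 2 (by decide)) (T.m_pos 2).le
  have R_0 := hrow 0
  rw [Fin.sum_univ_four, hdP 0, e_0_1, e_0_2] at R_0
  have R_1 := hrow 1
  rw [Fin.sum_univ_four, hdP 1, e_1_0, e_1_2] at R_1
  have R_2 := hrow 2
  rw [Fin.sum_univ_four, hdP 2, e_2_0, e_2_1] at R_2
  have R_3 := hrow 3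
  rw [Fin.sum_univ_four, hdP 3] at R_3
  have S_0_1 := hsym 0 1
  rw [e_0_1, e_1_0] at S_0_1
  have S_0_2 := hsym 0 2
  rw [e_0_2, e_2_0] at S_0_2
  have S_0_3 := hsym 0 3
  have S_1_2 := hsym 1 2
  rw [e_1_2, e_2_1] at S_1_2
  have S_1_3 := hsym 1 3
  have S_2_3 := hsym 2 3
  have Q_0 := hpair 0 3 (by decide)
  have Q_1 := hpair 1 3 (by decide)
  have Q_2 := hpair 2 3 (by decide)
  generalize e_0_3 : T.picMatrix 0 3 = x_0 at *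
  generalize e_3_0 : T.picMatrix 3 0 = y_0 at *
  generalize e_1_3 : T.picMatrix 1 3 = x_1 at *
  generalize e_3_1 : T.picMatrix 3 1 = y_1 at *
  generalize e_2_3 : T.picMatrix 2 3 = x_2 at *
  generalize e_3_2 : T.picMatrix 3 2 = y_2 at *
  rcases Q_0 with ⟨rfl, rfl⟩ | ⟨rfl, rfl⟩ | ⟨rfl, rfl⟩ | ⟨rfl, rfl⟩ | ⟨rfl, rfl⟩ | ⟨rfl, rfl⟩ | ⟨rfl, rfl⟩ | ⟨rfl, rfl⟩ | ⟨rfl, rfl⟩
  · exact absurd rfl hne
  · -- (0,3) = (1,1)
    rcases Q_1 with ⟨rfl, rfl⟩ | ⟨rfl, rfl⟩ | ⟨rfl, rfl⟩ | ⟨rfl, rfl⟩ | ⟨rfl, rfl⟩ | ⟨rfl, rfl⟩ | ⟨rfl, rfl⟩ | ⟨rfl, rfl⟩ | ⟨rfl, rfl⟩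
    · -- (1,3) = (0,0)
      rcases Q_2 with ⟨rfl, rfl⟩ | ⟨rfl, rfl⟩ | ⟨rfl, rfl⟩ | ⟨rfl, rfl⟩ | ⟨rfl, rfl⟩ | ⟨rfl, rfl⟩ | ⟨rfl, rfl⟩ | ⟨rfl, rfl⟩ | ⟨rfl, rfl⟩
      · -- (2,3) = (0,0)
        exact nd_59 T hG hmax e_0_1 e_0_2 e_0_3 e_1_0 e_1_2 e_1_3 e_2_0 e_2_1 e_2_3 e_3_0 e_3_1 e_3_2 cl
      · -- (2,3) = (1,1)
        omega
      · -- (2,3) = (1,2)
        omega
      · -- (2,3) = (2,1)
        omega
      · -- (2,3) = (1,3)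
        omega
      · -- (2,3) = (3,1)
        omega
      · -- (2,3) = (1,4)
        omega
      · -- (2,3) = (4,1)
        omega
      · -- (2,3) = (2,2)
        omega
    · omega
    · omega
    · omega
    · omega
    · omega
    · omega
    · omega
    · omega
  · omega
  · omega
  · omega
  · omega
  · omega
  · omega
  · omega

theorem nd_50 (T : Models.NumericalType 4)
    (hG : NTGood T)
    (hmax : ∀ j, T.m j ≤ T.m 0)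
    (e_0_1 : T.picMatrix 0 1 = 1)
    (e_0_2 : T.picMatrix 0 2 = 1)
    (e_1_0 : T.picMatrix 1 0 = 2)
    (e_1_2 : T.picMatrix 1 2 = 0)
    (e_2_0 : T.picMatrix 2 0 = 1)
    (e_2_1 : T.picMatrix 2 1 = 0)
    (cl : ∀ a b : Fin 4, a.val < 0 → 3 ≤ b.val → T.picMatrix a b = 0) :
    Goal T := by
  by_cases hc : ∀ b : Fin 4, 3 ≤ b.val → T.picMatrix 0 b = 0
  · exact nd_51 T hG hmax e_0_1 e_0_2 e_1_0 e_1_2 e_2_0 e_2_1 (nt_cl_succ T 3 0 0 rfl cl hc)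
  · obtain ⟨τ, hfix, cl', z, hne⟩ := nt_wlog_step T 3 (by norm_num) 0 (by norm_num) 0 (by decide) cl hc
    apply goal_relabel T τ
    refine ex_58 (ntRelabel T τ) (hG.relabel τ) ?_ ?_ ?_ ?_ ?_ ?_ ?_ cl' z hne
    · intro j
      show T.m (τ j) ≤ T.m (τ 0)
      rw [hfix 0 (by decide)]
      exact hmax _
    · show T.picMatrix (τ 0) (τ 1) = 1
      rw [hfix 0 (by decide), hfix 1 (by decide)]
      exact e_0_1
    · show T.picMatrix (τ 0) (τ 2) = 1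
      rw [hfix 0 (by decide), hfix 2 (by decide)]
      exact e_0_2
    · show T.picMatrix (τ 1) (τ 0) = 2
      rw [hfix 1 (by decide), hfix 0 (by decide)]
      exact e_1_0
    · show T.picMatrix (τ 1) (τ 2) = 0
      rw [hfix 1 (by decide), hfix 2 (by decide)]
      exact e_1_2
    · show T.picMatrix (τ 2) (τ 0) = 1
      rw [hfix 2 (by decide), hfix 0 (by decide)]
      exact e_2_0
    · show T.picMatrix (τ 2) (τ 1) = 0
      rw [hfix 2 (by decide), hfix 1 (by decide)]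
      exact e_2_1

theorem nd_63 (T : Models.NumericalType 4)
    (hG : NTGood T)
    (hmax : ∀ j, T.m j ≤ T.m 0)
    (e_0_1 : T.picMatrix 0 1 = 1)
    (e_0_2 : T.picMatrix 0 2 = 1)
    (e_1_0 : T.picMatrix 1 0 = 2)
    (e_1_2 : T.picMatrix 1 2 = 0)
    (e_2_0 : T.picMatrix 2 0 = 2)
    (e_2_1 : T.picMatrix 2 1 = 0)
    (cl : ∀ a b : Fin 4, a.val < 3 → 3 ≤ b.val → T.picMatrix a b = 0) :
    Goal T := by
  exact (nt_closed_false T 3 (by norm_num) (by norm_num) cl).elim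

theorem ex_64 (T : Models.NumericalType 4)
    (hG : NTGood T)
    (hmax : ∀ j, T.m j ≤ T.m 0)
    (e_0_1 : T.picMatrix 0 1 = 1)
    (e_0_2 : T.picMatrix 0 2 = 1)
    (e_1_0 : T.picMatrix 1 0 = 2)
    (e_1_2 : T.picMatrix 1 2 = 0)
    (e_2_0 : T.picMatrix 2 0 = 2)
    (e_2_1 : T.picMatrix 2 1 = 0)
    (cl : ∀ a b : Fin 4, a.val < 2 → 4 ≤ b.val → T.picMatrix a b = 0)
    (z : ∀ a : Fin 4, a.val < 2 → T.picMatrix a 3 = 0)
    (hne : T.picMatrix 2 3 ≠ 0) :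
    Goal T := by
  have e_0_3 : T.picMatrix 0 3 = 0 := z 0 (by decide)
  have e_3_0 : T.picMatrix 3 0 = 0 := nt_pic_zero_symm T 0 3 e_0_3
  have e_1_3 : T.picMatrix 1 3 = 0 := z 1 (by decide)
  have e_3_1 : T.picMatrix 3 1 = 0 := nt_pic_zero_symm T 1 3 e_1_3
  obtain ⟨hg0, hdA, hdP, hnn, hrow, hsym, hpair⟩ := ntgood_data T (by norm_num) hG
  have hm_0 := T.m_pos 0
  have hw_0 := T.w_pos 0
  have hm_1 := T.m_pos 1
  have hw_1 := T.w_pos 1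
  have hm_2 := T.m_pos 2
  have hw_2 := T.w_pos 2
  have hm_3 := T.m_pos 3
  have hw_3 := T.w_pos 3
  have hx_1 := hmax 1
  have hx_2 := hmax 2
  have hx_3 := hmax 3
  have N_2_3 := mul_nonneg (hnn 2 3 (by decide)) (T.m_pos 3).le
  have N_3_2 := mul_nonneg (hnn 3 2 (by decide)) (T.m_pos 2).le
  have R_0 := hrow 0
  rw [Fin.sum_univ_four, hdP 0, e_0_1, e_0_2, e_0_3] at R_0
  have R_1 := hrow 1
  rw [Fin.sum_univ_four, hdP 1, e_1_0, e_1_2, e_1_3] at R_1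
  have R_2 := hrow 2
  rw [Fin.sum_univ_four, hdP 2, e_2_0, e_2_1] at R_2
  have R_3 := hrow 3
  rw [Fin.sum_univ_four, hdP 3, e_3_0, e_3_1] at R_3
  have S_0_1 := hsym 0 1
  rw [e_0_1, e_1_0] at S_0_1
  have S_0_2 := hsym 0 2
  rw [e_0_2, e_2_0] at S_0_2
  have S_0_3 := hsym 0 3
  rw [e_0_3, e_3_0] at S_0_3
  have S_1_2 := hsym 1 2
  rw [e_1_2, e_2_1] at S_1_2
  have S_1_3 := hsym 1 3
  rw [e_1_3, e_3_1] at S_1_3
  have S_2_3 := hsym 2 3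
  have Q_2 := hpair 2 3 (by decide)
  generalize e_2_3 : T.picMatrix 2 3 = x_2 at *
  generalize e_3_2 : T.picMatrix 3 2 = y_2 at *
  rcases Q_2 with ⟨rfl, rfl⟩ | ⟨rfl, rfl⟩ | ⟨rfl, rfl⟩ | ⟨rfl, rfl⟩ | ⟨rfl, rfl⟩ | ⟨rfl, rfl⟩ | ⟨rfl, rfl⟩ | ⟨rfl, rfl⟩ | ⟨rfl, rfl⟩
  · exact absurd rfl hne
  · -- (2,3) = (1,1)
    omega
  · -- (2,3) = (1,2)
    omega
  · -- (2,3) = (2,1)
    omega
  · -- (2,3) = (1,3)
    omega
  · -- (2,3) = (3,1)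
    omega
  · -- (2,3) = (1,4)
    omega
  · -- (2,3) = (4,1)
    omega
  · -- (2,3) = (2,2)
    omega

theorem nd_62 (T : Models.NumericalType 4)
    (hG : NTGood T)
    (hmax : ∀ j, T.m j ≤ T.m 0)
    (e_0_1 : T.picMatrix 0 1 = 1)
    (e_0_2 : T.picMatrix 0 2 = 1)
    (e_1_0 : T.picMatrix 1 0 = 2)
    (e_1_2 : T.picMatrix 1 2 = 0)
    (e_2_0 : T.picMatrix 2 0 = 2)
    (e_2_1 : T.picMatrix 2 1 = 0)
    (cl : ∀ a b : Fin 4, a.val < 2 → 3 ≤ b.val → T.picMatrix a b = 0) :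
    Goal T := by
  by_cases hc : ∀ b : Fin 4, 3 ≤ b.val → T.picMatrix 2 b = 0
  · exact nd_63 T hG hmax e_0_1 e_0_2 e_1_0 e_1_2 e_2_0 e_2_1 (nt_cl_succ T 3 2 2 rfl cl hc)
  · obtain ⟨τ, hfix, cl', z, hne⟩ := nt_wlog_step T 3 (by norm_num) 2 (by norm_num) 2 (by decide) cl hc
    apply goal_relabel T τ
    refine ex_64 (ntRelabel T τ) (hG.relabel τ) ?_ ?_ ?_ ?_ ?_ ?_ ?_ cl' z hne
    · intro j
      show T.m (τ j) ≤ T.m (τ 0)
      rw [hfix 0 (by decide)]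
      exact hmax _
    · show T.picMatrix (τ 0) (τ 1) = 1
      rw [hfix 0 (by decide), hfix 1 (by decide)]
      exact e_0_1
    · show T.picMatrix (τ 0) (τ 2) = 1
      rw [hfix 0 (by decide), hfix 2 (by decide)]
      exact e_0_2
    · show T.picMatrix (τ 1) (τ 0) = 2
      rw [hfix 1 (by decide), hfix 0 (by decide)]
      exact e_1_0
    · show T.picMatrix (τ 1) (τ 2) = 0
      rw [hfix 1 (by decide), hfix 2 (by decide)]
      exact e_1_2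
    · show T.picMatrix (τ 2) (τ 0) = 2
      rw [hfix 2 (by decide), hfix 0 (by decide)]
      exact e_2_0
    · show T.picMatrix (τ 2) (τ 1) = 0
      rw [hfix 2 (by decide), hfix 1 (by decide)]
      exact e_2_1

theorem ex_65 (T : Models.NumericalType 4)
    (hG : NTGood T)
    (hmax : ∀ j, T.m j ≤ T.m 0)
    (e_0_1 : T.picMatrix 0 1 = 1)
    (e_0_2 : T.picMatrix 0 2 = 1)
    (e_1_0 : T.picMatrix 1 0 = 2)
    (e_1_2 : T.picMatrix 1 2 = 0)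
    (e_2_0 : T.picMatrix 2 0 = 2)
    (e_2_1 : T.picMatrix 2 1 = 0)
    (cl : ∀ a b : Fin 4, a.val < 1 → 4 ≤ b.val → T.picMatrix a b = 0)
    (z : ∀ a : Fin 4, a.val < 1 → T.picMatrix a 3 = 0)
    (hne : T.picMatrix 1 3 ≠ 0) :
    Goal T := by
  have e_0_3 : T.picMatrix 0 3 = 0 := z 0 (by decide)
  have e_3_0 : T.picMatrix 3 0 = 0 := nt_pic_zero_symm T 0 3 e_0_3
  obtain ⟨hg0, hdA, hdP, hnn, hrow, hsym, hpair⟩ := ntgood_data T (by norm_num) hG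
  have hm_0 := T.m_pos 0
  have hw_0 := T.w_pos 0
  have hm_1 := T.m_pos 1
  have hw_1 := T.w_pos 1
  have hm_2 := T.m_pos 2
  have hw_2 := T.w_pos 2
  have hm_3 := T.m_pos 3
  have hw_3 := T.w_pos 3
  have hx_1 := hmax 1
  have hx_2 := hmax 2
  have hx_3 := hmax 3
  have N_1_3 := mul_nonneg (hnn 1 3 (by decide)) (T.m_pos 3).le
  have N_3_1 := mul_nonneg (hnn 3 1 (by decide)) (T.m_pos 1).le
  have N_2_3 := mul_nonneg (hnn 2 3 (by decide)) (T.m_pos 3).le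
  have N_3_2 := mul_nonneg (hnn 3 2 (by decide)) (T.m_pos 2).le
  have R_0 := hrow 0
  rw [Fin.sum_univ_four, hdP 0, e_0_1, e_0_2, e_0_3] at R_0
  have R_1 := hrow 1
  rw [Fin.sum_univ_four, hdP 1, e_1_0, e_1_2] at R_1
  have R_2 := hrow 2
  rw [Fin.sum_univ_four, hdP 2, e_2_0, e_2_1] at R_2
  have R_3 := hrow 3
  rw [Fin.sum_univ_four, hdP 3, e_3_0] at R_3
  have S_0_1 := hsym 0 1
  rw [e_0_1, e_1_0] at S_0_1
  have S_0_2 := hsym 0 2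
  rw [e_0_2, e_2_0] at S_0_2
  have S_0_3 := hsym 0 3
  rw [e_0_3, e_3_0] at S_0_3
  have S_1_2 := hsym 1 2
  rw [e_1_2, e_2_1] at S_1_2
  have S_1_3 := hsym 1 3
  have S_2_3 := hsym 2 3
  have Q_1 := hpair 1 3 (by decide)
  have Q_2 := hpair 2 3 (by decide)
  generalize e_1_3 : T.picMatrix 1 3 = x_1 at *
  generalize e_3_1 : T.picMatrix 3 1 = y_1 at *
  generalize e_2_3 : T.picMatrix 2 3 = x_2 at *
  generalize e_3_2 : T.picMatrix 3 2 = y_2 at *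
  rcases Q_1 with ⟨rfl, rfl⟩ | ⟨rfl, rfl⟩ | ⟨rfl, rfl⟩ | ⟨rfl, rfl⟩ | ⟨rfl, rfl⟩ | ⟨rfl, rfl⟩ | ⟨rfl, rfl⟩ | ⟨rfl, rfl⟩ | ⟨rfl, rfl⟩
  · exact absurd rfl hne
  · omega
  · omega
  · omega
  · omega
  · omega
  · omega
  · omega
  · omega

theorem nd_61 (T : Models.NumericalType 4)
    (hG : NTGood T)
    (hmax : ∀ j, T.m j ≤ T.m 0)
    (e_0_1 : T.picMatrix 0 1 = 1)
    (e_0_2 : T.picMatrix 0 2 = 1)
    (e_1_0 : T.picMatrix 1 0 = 2)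
    (e_1_2 : T.picMatrix 1 2 = 0)
    (e_2_0 : T.picMatrix 2 0 = 2)
    (e_2_1 : T.picMatrix 2 1 = 0)
    (cl : ∀ a b : Fin 4, a.val < 1 → 3 ≤ b.val → T.picMatrix a b = 0) :
    Goal T := by
  by_cases hc : ∀ b : Fin 4, 3 ≤ b.val → T.picMatrix 1 b = 0
  · exact nd_62 T hG hmax e_0_1 e_0_2 e_1_0 e_1_2 e_2_0 e_2_1 (nt_cl_succ T 3 1 1 rfl cl hc)
  · obtain ⟨τ, hfix, cl', z, hne⟩ := nt_wlog_step T 3 (by norm_num) 1 (by norm_num) 1 (by decide) cl hc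
    apply goal_relabel T τ
    refine ex_65 (ntRelabel T τ) (hG.relabel τ) ?_ ?_ ?_ ?_ ?_ ?_ ?_ cl' z hne
    · intro j
      show T.m (τ j) ≤ T.m (τ 0)
      rw [hfix 0 (by decide)]
      exact hmax _
    · show T.picMatrix (τ 0) (τ 1) = 1
      rw [hfix 0 (by decide), hfix 1 (by decide)]
      exact e_0_1
    · show T.picMatrix (τ 0) (τ 2) = 1
      rw [hfix 0 (by decide), hfix 2 (by decide)]
      exact e_0_2
    · show T.picMatrix (τ 1) (τ 0) = 2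
      rw [hfix 1 (by decide), hfix 0 (by decide)]
      exact e_1_0
    · show T.picMatrix (τ 1) (τ 2) = 0
      rw [hfix 1 (by decide), hfix 2 (by decide)]
      exact e_1_2
    · show T.picMatrix (τ 2) (τ 0) = 2
      rw [hfix 2 (by decide), hfix 0 (by decide)]
      exact e_2_0
    · show T.picMatrix (τ 2) (τ 1) = 0
      rw [hfix 2 (by decide), hfix 1 (by decide)]
      exact e_2_1

theorem ex_66 (T : Models.NumericalType 4)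
    (hG : NTGood T)
    (hmax : ∀ j, T.m j ≤ T.m 0)
    (e_0_1 : T.picMatrix 0 1 = 1)
    (e_0_2 : T.picMatrix 0 2 = 1)
    (e_1_0 : T.picMatrix 1 0 = 2)
    (e_1_2 : T.picMatrix 1 2 = 0)
    (e_2_0 : T.picMatrix 2 0 = 2)
    (e_2_1 : T.picMatrix 2 1 = 0)
    (cl : ∀ a b : Fin 4, a.val < 0 → 4 ≤ b.val → T.picMatrix a b = 0)
    (z : ∀ a : Fin 4, a.val < 0 → T.picMatrix a 3 = 0)
    (hne : T.picMatrix 0 3 ≠ 0) :
    Goal T := by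
  obtain ⟨hg0, hdA, hdP, hnn, hrow, hsym, hpair⟩ := ntgood_data T (by norm_num) hG
  have hm_0 := T.m_pos 0
  have hw_0 := T.w_pos 0
  have hm_1 := T.m_pos 1
  have hw_1 := T.w_pos 1
  have hm_2 := T.m_pos 2
  have hw_2 := T.w_pos 2
  have hm_3 := T.m_pos 3
  have hw_3 := T.w_pos 3
  have hx_1 := hmax 1
  have hx_2 := hmax 2
  have hx_3 := hmax 3
  have N_0_3 := mul_nonneg (hnn 0 3 (by decide)) (T.m_pos 3).le
  have N_3_0 := mul_nonneg (hnn 3 0 (by decide)) (T.m_pos 0).le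
  have N_1_3 := mul_nonneg (hnn 1 3 (by decide)) (T.m_pos 3).le
  have N_3_1 := mul_nonneg (hnn 3 1 (by decide)) (T.m_pos 1).le
  have N_2_3 := mul_nonneg (hnn 2 3 (by decide)) (T.m_pos 3).le
  have N_3_2 := mul_nonneg (hnn 3 2 (by decide)) (T.m_pos 2).le
  have R_0 := hrow 0
  rw [Fin.sum_univ_four, hdP 0, e_0_1, e_0_2] at R_0
  have R_1 := hrow 1
  rw [Fin.sum_univ_four, hdP 1, e_1_0, e_1_2] at R_1
  have R_2 := hrow 2
  rw [Fin.sum_univ_four, hdP 2, e_2_0, e_2_1] at R_2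
  have R_3 := hrow 3
  rw [Fin.sum_univ_four, hdP 3] at R_3
  have S_0_1 := hsym 0 1
  rw [e_0_1, e_1_0] at S_0_1
  have S_0_2 := hsym 0 2
  rw [e_0_2, e_2_0] at S_0_2
  have S_0_3 := hsym 0 3
  have S_1_2 := hsym 1 2
  rw [e_1_2, e_2_1] at S_1_2
  have S_1_3 := hsym 1 3
  have S_2_3 := hsym 2 3
  have Q_0 := hpair 0 3 (by decide)
  have Q_1 := hpair 1 3 (by decide)
  have Q_2 := hpair 2 3 (by decide)
  generalize e_0_3 : T.picMatrix 0 3 = x_0 at *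
  generalize e_3_0 : T.picMatrix 3 0 = y_0 at *
  generalize e_1_3 : T.picMatrix 1 3 = x_1 at *
  generalize e_3_1 : T.picMatrix 3 1 = y_1 at *
  generalize e_2_3 : T.picMatrix 2 3 = x_2 at *
  generalize e_3_2 : T.picMatrix 3 2 = y_2 at *
  rcases Q_0 with ⟨rfl, rfl⟩ | ⟨rfl, rfl⟩ | ⟨rfl, rfl⟩ | ⟨rfl, rfl⟩ | ⟨rfl, rfl⟩ | ⟨rfl, rfl⟩ | ⟨rfl, rfl⟩ | ⟨rfl, rfl⟩ | ⟨rfl, rfl⟩
  · exact absurd rfl hne
  · omega
  · omega
  · omega
  · omega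
  · omega
  · omega
  · omega
  · omega

theorem nd_60 (T : Models.NumericalType 4)
    (hG : NTGood T)
    (hmax : ∀ j, T.m j ≤ T.m 0)
    (e_0_1 : T.picMatrix 0 1 = 1)
    (e_0_2 : T.picMatrix 0 2 = 1)
    (e_1_0 : T.picMatrix 1 0 = 2)
    (e_1_2 : T.picMatrix 1 2 = 0)
    (e_2_0 : T.picMatrix 2 0 = 2)
    (e_2_1 : T.picMatrix 2 1 = 0)
    (cl : ∀ a b : Fin 4, a.val < 0 → 3 ≤ b.val → T.picMatrix a b = 0) :
    Goal T := by
  by_cases hc : ∀ b : Fin 4, 3 ≤ b.val → T.picMatrix 0 b = 0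
  · exact nd_61 T hG hmax e_0_1 e_0_2 e_1_0 e_1_2 e_2_0 e_2_1 (nt_cl_succ T 3 0 0 rfl cl hc)
  · obtain ⟨τ, hfix, cl', z, hne⟩ := nt_wlog_step T 3 (by norm_num) 0 (by norm_num) 0 (by decide) cl hc
    apply goal_relabel T τ
    refine ex_66 (ntRelabel T τ) (hG.relabel τ) ?_ ?_ ?_ ?_ ?_ ?_ ?_ cl' z hne
    · intro j
      show T.m (τ j) ≤ T.m (τ 0)
      rw [hfix 0 (by decide)]
      exact hmax _
    · show T.picMatrix (τ 0) (τ 1) = 1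
      rw [hfix 0 (by decide), hfix 1 (by decide)]
      exact e_0_1
    · show T.picMatrix (τ 0) (τ 2) = 1
      rw [hfix 0 (by decide), hfix 2 (by decide)]
      exact e_0_2
    · show T.picMatrix (τ 1) (τ 0) = 2
      rw [hfix 1 (by decide), hfix 0 (by decide)]
      exact e_1_0
    · show T.picMatrix (τ 1) (τ 2) = 0
      rw [hfix 1 (by decide), hfix 2 (by decide)]
      exact e_1_2
    · show T.picMatrix (τ 2) (τ 0) = 2
      rw [hfix 2 (by decide), hfix 0 (by decide)]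
      exact e_2_0
    · show T.picMatrix (τ 2) (τ 1) = 0
      rw [hfix 2 (by decide), hfix 1 (by decide)]
      exact e_2_1

theorem nd_70 (T : Models.NumericalType 4)
    (hG : NTGood T)
    (hmax : ∀ j, T.m j ≤ T.m 0)
    (e_0_1 : T.picMatrix 0 1 = 1)
    (e_0_2 : T.picMatrix 0 2 = 2)
    (e_1_0 : T.picMatrix 1 0 = 2)
    (e_1_2 : T.picMatrix 1 2 = 0)
    (e_2_0 : T.picMatrix 2 0 = 1)
    (e_2_1 : T.picMatrix 2 1 = 0)
    (cl : ∀ a b : Fin 4, a.val < 3 → 3 ≤ b.val → T.picMatrix a b = 0) :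
    Goal T := by
  exact (nt_closed_false T 3 (by norm_num) (by norm_num) cl).elim

theorem ex_71 (T : Models.NumericalType 4)
    (hG : NTGood T)
    (hmax : ∀ j, T.m j ≤ T.m 0)
    (e_0_1 : T.picMatrix 0 1 = 1)
    (e_0_2 : T.picMatrix 0 2 = 2)
    (e_1_0 : T.picMatrix 1 0 = 2)
    (e_1_2 : T.picMatrix 1 2 = 0)
    (e_2_0 : T.picMatrix 2 0 = 1)
    (e_2_1 : T.picMatrix 2 1 = 0)
    (cl : ∀ a b : Fin 4, a.val < 2 → 4 ≤ b.val → T.picMatrix a b = 0)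
    (z : ∀ a : Fin 4, a.val < 2 → T.picMatrix a 3 = 0)
    (hne : T.picMatrix 2 3 ≠ 0) :
    Goal T := by
  have e_0_3 : T.picMatrix 0 3 = 0 := z 0 (by decide)
  have e_3_0 : T.picMatrix 3 0 = 0 := nt_pic_zero_symm T 0 3 e_0_3
  have e_1_3 : T.picMatrix 1 3 = 0 := z 1 (by decide)
  have e_3_1 : T.picMatrix 3 1 = 0 := nt_pic_zero_symm T 1 3 e_1_3
  obtain ⟨hg0, hdA, hdP, hnn, hrow, hsym, hpair⟩ := ntgood_data T (by norm_num) hG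
  have hm_0 := T.m_pos 0
  have hw_0 := T.w_pos 0
  have hm_1 := T.m_pos 1
  have hw_1 := T.w_pos 1
  have hm_2 := T.m_pos 2
  have hw_2 := T.w_pos 2
  have hm_3 := T.m_pos 3
  have hw_3 := T.w_pos 3
  have hx_1 := hmax 1
  have hx_2 := hmax 2
  have hx_3 := hmax 3
  have N_2_3 := mul_nonneg (hnn 2 3 (by decide)) (T.m_pos 3).le
  have N_3_2 := mul_nonneg (hnn 3 2 (by decide)) (T.m_pos 2).le
  have R_0 := hrow 0
  rw [Fin.sum_univ_four, hdP 0, e_0_1, e_0_2, e_0_3] at R_0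
  have R_1 := hrow 1
  rw [Fin.sum_univ_four, hdP 1, e_1_0, e_1_2, e_1_3] at R_1
  have R_2 := hrow 2
  rw [Fin.sum_univ_four, hdP 2, e_2_0, e_2_1] at R_2
  have R_3 := hrow 3
  rw [Fin.sum_univ_four, hdP 3, e_3_0, e_3_1] at R_3
  have S_0_1 := hsym 0 1
  rw [e_0_1, e_1_0] at S_0_1
  have S_0_2 := hsym 0 2
  rw [e_0_2, e_2_0] at S_0_2
  have S_0_3 := hsym 0 3
  rw [e_0_3, e_3_0] at S_0_3
  have S_1_2 := hsym 1 2
  rw [e_1_2, e_2_1] at S_1_2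
  have S_1_3 := hsym 1 3
  rw [e_1_3, e_3_1] at S_1_3
  have S_2_3 := hsym 2 3
  have Q_2 := hpair 2 3 (by decide)
  generalize e_2_3 : T.picMatrix 2 3 = x_2 at *
  generalize e_3_2 : T.picMatrix 3 2 = y_2 at *
  rcases Q_2 with ⟨rfl, rfl⟩ | ⟨rfl, rfl⟩ | ⟨rfl, rfl⟩ | ⟨rfl, rfl⟩ | ⟨rfl, rfl⟩ | ⟨rfl, rfl⟩ | ⟨rfl, rfl⟩ | ⟨rfl, rfl⟩ | ⟨rfl, rfl⟩
  · exact absurd rfl hne
  · -- (2,3) = (1,1)
    omega
  · -- (2,3) = (1,2)
    omega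
  · -- (2,3) = (2,1)
    omega
  · -- (2,3) = (1,3)
    omega
  · -- (2,3) = (3,1)
    omega
  · -- (2,3) = (1,4)
    omega
  · -- (2,3) = (4,1)
    omega
  · -- (2,3) = (2,2)
    omega

theorem nd_69 (T : Models.NumericalType 4)
    (hG : NTGood T)
    (hmax : ∀ j, T.m j ≤ T.m 0)
    (e_0_1 : T.picMatrix 0 1 = 1)
    (e_0_2 : T.picMatrix 0 2 = 2)
    (e_1_0 : T.picMatrix 1 0 = 2)
    (e_1_2 : T.picMatrix 1 2 = 0)
    (e_2_0 : T.picMatrix 2 0 = 1)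
    (e_2_1 : T.picMatrix 2 1 = 0)
    (cl : ∀ a b : Fin 4, a.val < 2 → 3 ≤ b.val → T.picMatrix a b = 0) :
    Goal T := by
  by_cases hc : ∀ b : Fin 4, 3 ≤ b.val → T.picMatrix 2 b = 0
  · exact nd_70 T hG hmax e_0_1 e_0_2 e_1_0 e_1_2 e_2_0 e_2_1 (nt_cl_succ T 3 2 2 rfl cl hc)
  · obtain ⟨τ, hfix, cl', z, hne⟩ := nt_wlog_step T 3 (by norm_num) 2 (by norm_num) 2 (by decide) cl hc
    apply goal_relabel T τ
    refine ex_71 (ntRelabel T τ) (hG.relabel τ) ?_ ?_ ?_ ?_ ?_ ?_ ?_ cl' z hne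
    · intro j
      show T.m (τ j) ≤ T.m (τ 0)
      rw [hfix 0 (by decide)]
      exact hmax _
    · show T.picMatrix (τ 0) (τ 1) = 1
      rw [hfix 0 (by decide), hfix 1 (by decide)]
      exact e_0_1
    · show T.picMatrix (τ 0) (τ 2) = 2
      rw [hfix 0 (by decide), hfix 2 (by decide)]
      exact e_0_2
    · show T.picMatrix (τ 1) (τ 0) = 2
      rw [hfix 1 (by decide), hfix 0 (by decide)]
      exact e_1_0
    · show T.picMatrix (τ 1) (τ 2) = 0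
      rw [hfix 1 (by decide), hfix 2 (by decide)]
      exact e_1_2
    · show T.picMatrix (τ 2) (τ 0) = 1
      rw [hfix 2 (by decide), hfix 0 (by decide)]
      exact e_2_0
    · show T.picMatrix (τ 2) (τ 1) = 0
      rw [hfix 2 (by decide), hfix 1 (by decide)]
      exact e_2_1

theorem ex_72 (T : Models.NumericalType 4)
    (hG : NTGood T)
    (hmax : ∀ j, T.m j ≤ T.m 0)
    (e_0_1 : T.picMatrix 0 1 = 1)
    (e_0_2 : T.picMatrix 0 2 = 2)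
    (e_1_0 : T.picMatrix 1 0 = 2)
    (e_1_2 : T.picMatrix 1 2 = 0)
    (e_2_0 : T.picMatrix 2 0 = 1)
    (e_2_1 : T.picMatrix 2 1 = 0)
    (cl : ∀ a b : Fin 4, a.val < 1 → 4 ≤ b.val → T.picMatrix a b = 0)
    (z : ∀ a : Fin 4, a.val < 1 → T.picMatrix a 3 = 0)
    (hne : T.picMatrix 1 3 ≠ 0) :
    Goal T := by
  have e_0_3 : T.picMatrix 0 3 = 0 := z 0 (by decide)
  have e_3_0 : T.picMatrix 3 0 = 0 := nt_pic_zero_symm T 0 3 e_0_3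
  obtain ⟨hg0, hdA, hdP, hnn, hrow, hsym, hpair⟩ := ntgood_data T (by norm_num) hG
  have hm_0 := T.m_pos 0
  have hw_0 := T.w_pos 0
  have hm_1 := T.m_pos 1
  have hw_1 := T.w_pos 1
  have hm_2 := T.m_pos 2
  have hw_2 := T.w_pos 2
  have hm_3 := T.m_pos 3
  have hw_3 := T.w_pos 3
  have hx_1 := hmax 1
  have hx_2 := hmax 2
  have hx_3 := hmax 3
  have N_1_3 := mul_nonneg (hnn 1 3 (by decide)) (T.m_pos 3).le
  have N_3_1 := mul_nonneg (hnn 3 1 (by decide)) (T.m_pos 1).le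
  have N_2_3 := mul_nonneg (hnn 2 3 (by decide)) (T.m_pos 3).le
  have N_3_2 := mul_nonneg (hnn 3 2 (by decide)) (T.m_pos 2).le
  have R_0 := hrow 0
  rw [Fin.sum_univ_four, hdP 0, e_0_1, e_0_2, e_0_3] at R_0
  have R_1 := hrow 1
  rw [Fin.sum_univ_four, hdP 1, e_1_0, e_1_2] at R_1
  have R_2 := hrow 2
  rw [Fin.sum_univ_four, hdP 2, e_2_0, e_2_1] at R_2
  have R_3 := hrow 3
  rw [Fin.sum_univ_four, hdP 3, e_3_0] at R_3
  have S_0_1 := hsym 0 1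
  rw [e_0_1, e_1_0] at S_0_1
  have S_0_2 := hsym 0 2
  rw [e_0_2, e_2_0] at S_0_2
  have S_0_3 := hsym 0 3
  rw [e_0_3, e_3_0] at S_0_3
  have S_1_2 := hsym 1 2
  rw [e_1_2, e_2_1] at S_1_2
  have S_1_3 := hsym 1 3
  have S_2_3 := hsym 2 3
  have Q_1 := hpair 1 3 (by decide)
  have Q_2 := hpair 2 3 (by decide)
  generalize e_1_3 : T.picMatrix 1 3 = x_1 at *
  generalize e_3_1 : T.picMatrix 3 1 = y_1 at *
  generalize e_2_3 : T.picMatrix 2 3 = x_2 at *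
  generalize e_3_2 : T.picMatrix 3 2 = y_2 at *
  rcases Q_1 with ⟨rfl, rfl⟩ | ⟨rfl, rfl⟩ | ⟨rfl, rfl⟩ | ⟨rfl, rfl⟩ | ⟨rfl, rfl⟩ | ⟨rfl, rfl⟩ | ⟨rfl, rfl⟩ | ⟨rfl, rfl⟩ | ⟨rfl, rfl⟩
  · exact absurd rfl hne
  · omega
  · omega
  · omega
  · omega
  · omega
  · omega
  · omega
  · omega

theorem nd_68 (T : Models.NumericalType 4)
    (hG : NTGood T)
    (hmax : ∀ j, T.m j ≤ T.m 0)
    (e_0_1 : T.picMatrix 0 1 = 1)
    (e_0_2 : T.picMatrix 0 2 = 2)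
    (e_1_0 : T.picMatrix 1 0 = 2)
    (e_1_2 : T.picMatrix 1 2 = 0)
    (e_2_0 : T.picMatrix 2 0 = 1)
    (e_2_1 : T.picMatrix 2 1 = 0)
    (cl : ∀ a b : Fin 4, a.val < 1 → 3 ≤ b.val → T.picMatrix a b = 0) :
    Goal T := by
  by_cases hc : ∀ b : Fin 4, 3 ≤ b.val → T.picMatrix 1 b = 0
  · exact nd_69 T hG hmax e_0_1 e_0_2 e_1_0 e_1_2 e_2_0 e_2_1 (nt_cl_succ T 3 1 1 rfl cl hc)
  · obtain ⟨τ, hfix, cl', z, hne⟩ := nt_wlog_step T 3 (by norm_num) 1 (by norm_num) 1 (by decide) cl hc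
    apply goal_relabel T τ
    refine ex_72 (ntRelabel T τ) (hG.relabel τ) ?_ ?_ ?_ ?_ ?_ ?_ ?_ cl' z hne
    · intro j
      show T.m (τ j) ≤ T.m (τ 0)
      rw [hfix 0 (by decide)]
      exact hmax _
    · show T.picMatrix (τ 0) (τ 1) = 1
      rw [hfix 0 (by decide), hfix 1 (by decide)]
      exact e_0_1
    · show T.picMatrix (τ 0) (τ 2) = 2
      rw [hfix 0 (by decide), hfix 2 (by decide)]
      exact e_0_2
    · show T.picMatrix (τ 1) (τ 0) = 2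
      rw [hfix 1 (by decide), hfix 0 (by decide)]
      exact e_1_0
    · show T.picMatrix (τ 1) (τ 2) = 0
      rw [hfix 1 (by decide), hfix 2 (by decide)]
      exact e_1_2
    · show T.picMatrix (τ 2) (τ 0) = 1
      rw [hfix 2 (by decide), hfix 0 (by decide)]
      exact e_2_0
    · show T.picMatrix (τ 2) (τ 1) = 0
      rw [hfix 2 (by decide), hfix 1 (by decide)]
      exact e_2_1

theorem ex_73 (T : Models.NumericalType 4)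
    (hG : NTGood T)
    (hmax : ∀ j, T.m j ≤ T.m 0)
    (e_0_1 : T.picMatrix 0 1 = 1)
    (e_0_2 : T.picMatrix 0 2 = 2)
    (e_1_0 : T.picMatrix 1 0 = 2)
    (e_1_2 : T.picMatrix 1 2 = 0)
    (e_2_0 : T.picMatrix 2 0 = 1)
    (e_2_1 : T.picMatrix 2 1 = 0)
    (cl : ∀ a b : Fin 4, a.val < 0 → 4 ≤ b.val → T.picMatrix a b = 0)
    (z : ∀ a : Fin 4, a.val < 0 → T.picMatrix a 3 = 0)
    (hne : T.picMatrix 0 3 ≠ 0) :
    Goal T := by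
  obtain ⟨hg0, hdA, hdP, hnn, hrow, hsym, hpair⟩ := ntgood_data T (by norm_num) hG
  have hm_0 := T.m_pos 0
  have hw_0 := T.w_pos 0
  have hm_1 := T.m_pos 1
  have hw_1 := T.w_pos 1
  have hm_2 := T.m_pos 2
  have hw_2 := T.w_pos 2
  have hm_3 := T.m_pos 3
  have hw_3 := T.w_pos 3
  have hx_1 := hmax 1
  have hx_2 := hmax 2
  have hx_3 := hmax 3
  have N_0_3 := mul_nonneg (hnn 0 3 (by decide)) (T.m_pos 3).le
  have N_3_0 := mul_nonneg (hnn 3 0 (by decide)) (T.m_pos 0).le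
  have N_1_3 := mul_nonneg (hnn 1 3 (by decide)) (T.m_pos 3).le
  have N_3_1 := mul_nonneg (hnn 3 1 (by decide)) (T.m_pos 1).le
  have N_2_3 := mul_nonneg (hnn 2 3 (by decide)) (T.m_pos 3).le
  have N_3_2 := mul_nonneg (hnn 3 2 (by decide)) (T.m_pos 2).le
  have R_0 := hrow 0
  rw [Fin.sum_univ_four, hdP 0, e_0_1, e_0_2] at R_0
  have R_1 := hrow 1
  rw [Fin.sum_univ_four, hdP 1, e_1_0, e_1_2] at R_1
  have R_2 := hrow 2
  rw [Fin.sum_univ_four, hdP 2, e_2_0, e_2_1] at R_2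
  have R_3 := hrow 3
  rw [Fin.sum_univ_four, hdP 3] at R_3
  have S_0_1 := hsym 0 1
  rw [e_0_1, e_1_0] at S_0_1
  have S_0_2 := hsym 0 2
  rw [e_0_2, e_2_0] at S_0_2
  have S_0_3 := hsym 0 3
  have S_1_2 := hsym 1 2
  rw [e_1_2, e_2_1] at S_1_2
  have S_1_3 := hsym 1 3
  have S_2_3 := hsym 2 3
  have Q_0 := hpair 0 3 (by decide)
  have Q_1 := hpair 1 3 (by decide)
  have Q_2 := hpair 2 3 (by decide)
  generalize e_0_3 : T.picMatrix 0 3 = x_0 at *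
  generalize e_3_0 : T.picMatrix 3 0 = y_0 at *
  generalize e_1_3 : T.picMatrix 1 3 = x_1 at *
  generalize e_3_1 : T.picMatrix 3 1 = y_1 at *
  generalize e_2_3 : T.picMatrix 2 3 = x_2 at *
  generalize e_3_2 : T.picMatrix 3 2 = y_2 at *
  rcases Q_0 with ⟨rfl, rfl⟩ | ⟨rfl, rfl⟩ | ⟨rfl, rfl⟩ | ⟨rfl, rfl⟩ | ⟨rfl, rfl⟩ | ⟨rfl, rfl⟩ | ⟨rfl, rfl⟩ | ⟨rfl, rfl⟩ | ⟨rfl, rfl⟩
  · exact absurd rfl hne
  · omega
  · omega
  · omega
  · omega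
  · omega
  · omega
  · omega
  · omega

end Groth.Agent.Lib.helper4.G4
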