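import Groth.Agent.Lib.helper4.G4.N0

/-!
# Genus one classification on 4 indices: generated case analysis, part 1 (helper4)
-/

set_option autoImplicit false
set_option maxHeartbeats 1000000
set_option linter.unusedVariables false

namespace Groth.Agent.Lib.helper4.G4

open Groth.Agent.Lib.helper4

theorem nd_67 (T : Models.NumericalType 4)
    (hG : NTGood T)
    (hmax : ∀ j, T.m j ≤ T.m 0)
    (e_0_1 : T.picMatrix 0 1 = 1)
    (e_0_2 : T.picMatrix 0 2 = 2)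
    (e_1_0 : T.picMatrix 1 0 = 2)
    (e_1_2 : T.picMatrix 1 2 = 0)
    (e_2_0 : T.picMatrix 2 0 = 1)
    (e_2_1 : T.picMatrix 2 1 = 0)
    (cl : ∀ a b : Fin 4, a.val < 0 → 3 ≤ b.val → T.picMatrix a b = 0) :
    Goal T := by
  by_cases hc : ∀ b : Fin 4, 3 ≤ b.val → T.picMatrix 0 b = 0
  · exact nd_68 T hG hmax e_0_1 e_0_2 e_1_0 e_1_2 e_2_0 e_2_1 (nt_cl_succ T 3 0 0 rfl cl hc)
  · obtain ⟨τ, hfix, cl', z, hne⟩ := nt_wlog_step T 3 (by norm_num) 0 (by norm_num) 0 (by decide) cl hc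
    apply goal_relabel T τ
    refine ex_73 (ntRelabel T τ) (hG.relabel τ) ?_ ?_ ?_ ?_ ?_ ?_ ?_ cl' z hne
    · intro j
      show T.m (τ j) ≤ T.m (τ 0)
      rw [hfix 0 (by decide)]
      exact hmax _
    · show T.picMatrix (τ 0) (τ 1) = 1
      rw [hfix 0 (by decide), hfix 1 (by decide)]
      exact e_0_1
    · show T.picMatrix (τ 0) (τ 2) = 2
      rw [hfix 0 (by decide), hfix 2 (by decide)]
      exact e_0_2
    · show T.picMatrix (τ 1) (τ 0) = 2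
      rw [hfix 1 (by decide), hfix 0 (by decide)]
      exact e_1_0
    · show T.picMatrix (τ 1) (τ 2) = 0
      rw [hfix 1 (by decide), hfix 2 (by decide)]
      exact e_1_2
    · show T.picMatrix (τ 2) (τ 0) = 1
      rw [hfix 2 (by decide), hfix 0 (by decide)]
      exact e_2_0
    · show T.picMatrix (τ 2) (τ 1) = 0
      rw [hfix 2 (by decide), hfix 1 (by decide)]
      exact e_2_1

theorem ex_49 (T : Models.NumericalType 4)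
    (hG : NTGood T)
    (hmax : ∀ j, T.m j ≤ T.m 0)
    (e_0_1 : T.picMatrix 0 1 = 1)
    (e_1_0 : T.picMatrix 1 0 = 2)
    (cl : ∀ a b : Fin 4, a.val < 0 → 3 ≤ b.val → T.picMatrix a b = 0)
    (z : ∀ a : Fin 4, a.val < 0 → T.picMatrix a 2 = 0)
    (hne : T.picMatrix 0 2 ≠ 0) :
    Goal T := by
  obtain ⟨hg0, hdA, hdP, hnn, hrow, hsym, hpair⟩ := ntgood_data T (by norm_num) hG
  have hm_0 := T.m_pos 0
  have hw_0 := T.w_pos 0
  have hm_1 := T.m_pos 1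
  have hw_1 := T.w_pos 1
  have hm_2 := T.m_pos 2
  have hw_2 := T.w_pos 2
  have hx_1 := hmax 1
  have hx_2 := hmax 2
  have N_0_3 := mul_nonneg (hnn 0 3 (by decide)) (T.m_pos 3).le
  have N_1_3 := mul_nonneg (hnn 1 3 (by decide)) (T.m_pos 3).le
  have N_2_3 := mul_nonneg (hnn 2 3 (by decide)) (T.m_pos 3).le
  have N_0_2 := mul_nonneg (hnn 0 2 (by decide)) (T.m_pos 2).le
  have N_2_0 := mul_nonneg (hnn 2 0 (by decide)) (T.m_pos 0).le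
  have N_1_2 := mul_nonneg (hnn 1 2 (by decide)) (T.m_pos 2).le
  have N_2_1 := mul_nonneg (hnn 2 1 (by decide)) (T.m_pos 1).le
  have R_0 := hrow 0
  rw [Fin.sum_univ_four, hdP 0, e_0_1] at R_0
  have R_1 := hrow 1
  rw [Fin.sum_univ_four, hdP 1, e_1_0] at R_1
  have R_2 := hrow 2
  rw [Fin.sum_univ_four, hdP 2] at R_2
  have S_0_1 := hsym 0 1
  rw [e_0_1, e_1_0] at S_0_1
  have S_0_2 := hsym 0 2
  have S_1_2 := hsym 1 2
  have Q_0 := hpair 0 2 (by decide)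
  have Q_1 := hpair 1 2 (by decide)
  generalize e_0_2 : T.picMatrix 0 2 = x_0 at *
  generalize e_2_0 : T.picMatrix 2 0 = y_0 at *
  generalize e_1_2 : T.picMatrix 1 2 = x_1 at *
  generalize e_2_1 : T.picMatrix 2 1 = y_1 at *
  rcases Q_0 with ⟨rfl, rfl⟩ | ⟨rfl, rfl⟩ | ⟨rfl, rfl⟩ | ⟨rfl, rfl⟩ | ⟨rfl, rfl⟩ | ⟨rfl, rfl⟩ | ⟨rfl, rfl⟩ | ⟨rfl, rfl⟩ | ⟨rfl, rfl⟩
  · exact absurd rfl hne
  · -- (0,2) = (1,1)
    rcases Q_1 with ⟨rfl, rfl⟩ | ⟨rfl, rfl⟩ | ⟨rfl, rfl⟩ | ⟨rfl, rfl⟩ | ⟨rfl, rfl⟩ | ⟨rfl, rfl⟩ | ⟨rfl, rfl⟩ | ⟨rfl, rfl⟩ | ⟨rfl, rfl⟩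
    · -- (1,2) = (0,0)
      exact nd_50 T hG hmax e_0_1 e_0_2 e_1_0 e_1_2 e_2_0 e_2_1 cl
    · -- (1,2) = (1,1)
      omega
    · -- (1,2) = (1,2)
      omega
    · -- (1,2) = (2,1)
      omega
    · -- (1,2) = (1,3)
      omega
    · -- (1,2) = (3,1)
      omega
    · -- (1,2) = (1,4)
      omega
    · -- (1,2) = (4,1)
      omega
    · -- (1,2) = (2,2)
      omega
  · -- (0,2) = (1,2)
    rcases Q_1 with ⟨rfl, rfl⟩ | ⟨rfl, rfl⟩ | ⟨rfl, rfl⟩ | ⟨rfl, rfl⟩ | ⟨rfl, rfl⟩ | ⟨rfl, rfl⟩ | ⟨rfl, rfl⟩ | ⟨rfl, rfl⟩ | ⟨rfl, rfl⟩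
    · -- (1,2) = (0,0)
      exact nd_60 T hG hmax e_0_1 e_0_2 e_1_0 e_1_2 e_2_0 e_2_1 cl
    · -- (1,2) = (1,1)
      omega
    · -- (1,2) = (1,2)
      omega
    · -- (1,2) = (2,1)
      omega
    · -- (1,2) = (1,3)
      omega
    · -- (1,2) = (3,1)
      omega
    · -- (1,2) = (1,4)
      omega
    · -- (1,2) = (4,1)
      omega
    · -- (1,2) = (2,2)
      omega
  · -- (0,2) = (2,1)
    rcases Q_1 with ⟨rfl, rfl⟩ | ⟨rfl, rfl⟩ | ⟨rfl, rfl⟩ | ⟨rfl, rfl⟩ | ⟨rfl, rfl⟩ | ⟨rfl, rfl⟩ | ⟨rfl, rfl⟩ | ⟨rfl, rfl⟩ | ⟨rfl, rfl⟩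
    · -- (1,2) = (0,0)
      exact nd_67 T hG hmax e_0_1 e_0_2 e_1_0 e_1_2 e_2_0 e_2_1 cl
    · -- (1,2) = (1,1)
      omega
    · -- (1,2) = (1,2)
      omega
    · -- (1,2) = (2,1)
      omega
    · -- (1,2) = (1,3)
      omega
    · -- (1,2) = (3,1)
      omega
    · -- (1,2) = (1,4)
      omega
    · -- (1,2) = (4,1)
      omega
    · -- (1,2) = (2,2)
      omega
  · omega
  · omega
  · omega
  · omega
  · omega

theorem nd_47 (T : Models.NumericalType 4)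
    (hG : NTGood T)
    (hmax : ∀ j, T.m j ≤ T.m 0)
    (e_0_1 : T.picMatrix 0 1 = 1)
    (e_1_0 : T.picMatrix 1 0 = 2)
    (cl : ∀ a b : Fin 4, a.val < 0 → 2 ≤ b.val → T.picMatrix a b = 0) :
    Goal T := by
  by_cases hc : ∀ b : Fin 4, 2 ≤ b.val → T.picMatrix 0 b = 0
  · exact nd_48 T hG hmax e_0_1 e_1_0 (nt_cl_succ T 2 0 0 rfl cl hc)
  · obtain ⟨τ, hfix, cl', z, hne⟩ := nt_wlog_step T 2 (by norm_num) 0 (by norm_num) 0 (by decide) cl hc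
    apply goal_relabel T τ
    refine ex_49 (ntRelabel T τ) (hG.relabel τ) ?_ ?_ ?_ cl' z hne
    · intro j
      show T.m (τ j) ≤ T.m (τ 0)
      rw [hfix 0 (by decide)]
      exact hmax _
    · show T.picMatrix (τ 0) (τ 1) = 1
      rw [hfix 0 (by decide), hfix 1 (by decide)]
      exact e_0_1
    · show T.picMatrix (τ 1) (τ 0) = 2
      rw [hfix 1 (by decide), hfix 0 (by decide)]
      exact e_1_0

theorem nd_76 (T : Models.NumericalType 4)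
    (hG : NTGood T)
    (hmax : ∀ j, T.m j ≤ T.m 0)
    (e_0_1 : T.picMatrix 0 1 = 2)
    (e_1_0 : T.picMatrix 1 0 = 1)
    (cl : ∀ a b : Fin 4, a.val < 2 → 2 ≤ b.val → T.picMatrix a b = 0) :
    Goal T := by
  obtain ⟨hg0, hdA, hdP, hnn, hrow, hsym, hpair⟩ := ntgood_data T (by norm_num) hG
  have hm_0 := T.m_pos 0
  have hw_0 := T.w_pos 0
  have hm_1 := T.m_pos 1
  have hw_1 := T.w_pos 1
  have hx_1 := hmax 1
  have Z_0_2 := cl 0 2 (by decide) (by decide)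
  have Z_0_3 := cl 0 3 (by decide) (by decide)
  have Z_1_2 := cl 1 2 (by decide) (by decide)
  have Z_1_3 := cl 1 3 (by decide) (by decide)
  have R_0 := hrow 0
  rw [Fin.sum_univ_four, hdP 0, e_0_1, Z_0_2, Z_0_3] at R_0
  have R_1 := hrow 1
  rw [Fin.sum_univ_four, hdP 1, e_1_0, Z_1_2, Z_1_3] at R_1
  have S_0_1 := hsym 0 1
  rw [e_0_1, e_1_0] at S_0_1
  exfalso
  omega

theorem nd_80 (T : Models.NumericalType 4)
    (hG : NTGood T)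
    (hmax : ∀ j, T.m j ≤ T.m 0)
    (e_0_1 : T.picMatrix 0 1 = 2)
    (e_0_2 : T.picMatrix 0 2 = 0)
    (e_1_0 : T.picMatrix 1 0 = 1)
    (e_1_2 : T.picMatrix 1 2 = 1)
    (e_2_0 : T.picMatrix 2 0 = 0)
    (e_2_1 : T.picMatrix 2 1 = 1)
    (cl : ∀ a b : Fin 4, a.val < 3 → 3 ≤ b.val → T.picMatrix a b = 0) :
    Goal T := by
  obtain ⟨hg0, hdA, hdP, hnn, hrow, hsym, hpair⟩ := ntgood_data T (by norm_num) hG
  have hm_0 := T.m_pos 0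
  have hw_0 := T.w_pos 0
  have hm_1 := T.m_pos 1
  have hw_1 := T.w_pos 1
  have hm_2 := T.m_pos 2
  have hw_2 := T.w_pos 2
  have hx_1 := hmax 1
  have hx_2 := hmax 2
  have Z_0_3 := cl 0 3 (by decide) (by decide)
  have Z_1_3 := cl 1 3 (by decide) (by decide)
  have Z_2_3 := cl 2 3 (by decide) (by decide)
  have R_0 := hrow 0
  rw [Fin.sum_univ_four, hdP 0, e_0_1, e_0_2, Z_0_3] at R_0
  have R_1 := hrow 1
  rw [Fin.sum_univ_four, hdP 1, e_1_0, e_1_2, Z_1_3] at R_1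
  have R_2 := hrow 2
  rw [Fin.sum_univ_four, hdP 2, e_2_0, e_2_1, Z_2_3] at R_2
  have S_0_1 := hsym 0 1
  rw [e_0_1, e_1_0] at S_0_1
  have S_0_2 := hsym 0 2
  rw [e_0_2, e_2_0] at S_0_2
  have S_1_2 := hsym 1 2
  rw [e_1_2, e_2_1] at S_1_2
  exfalso
  omega

theorem nd_82 (T : Models.NumericalType 4)
    (hG : NTGood T)
    (hmax : ∀ j, T.m j ≤ T.m 0)
    (e_0_1 : T.picMatrix 0 1 = 2)
    (e_0_2 : T.picMatrix 0 2 = 0)
    (e_0_3 : T.picMatrix 0 3 = 0)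
    (e_1_0 : T.picMatrix 1 0 = 1)
    (e_1_2 : T.picMatrix 1 2 = 1)
    (e_1_3 : T.picMatrix 1 3 = 0)
    (e_2_0 : T.picMatrix 2 0 = 0)
    (e_2_1 : T.picMatrix 2 1 = 1)
    (e_2_3 : T.picMatrix 2 3 = 1)
    (e_3_0 : T.picMatrix 3 0 = 0)
    (e_3_1 : T.picMatrix 3 1 = 0)
    (e_3_2 : T.picMatrix 3 2 = 2)
    (cl : ∀ a b : Fin 4, a.val < 2 → 4 ≤ b.val → T.picMatrix a b = 0) :
    Goal T := by
  obtain ⟨hg0, hdA, hdP, hnn, hrow, hsym, hpair⟩ := ntgood_data T (by norm_num) hG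
  have hm_0 := T.m_pos 0
  have hw_0 := T.w_pos 0
  have hm_1 := T.m_pos 1
  have hw_1 := T.w_pos 1
  have hm_2 := T.m_pos 2
  have hw_2 := T.w_pos 2
  have hm_3 := T.m_pos 3
  have hw_3 := T.w_pos 3
  have hx_1 := hmax 1
  have hx_2 := hmax 2
  have hx_3 := hmax 3
  have R_0 := hrow 0
  rw [Fin.sum_univ_four, hdP 0, e_0_1, e_0_2, e_0_3] at R_0
  have R_1 := hrow 1
  rw [Fin.sum_univ_four, hdP 1, e_1_0, e_1_2, e_1_3] at R_1
  have R_2 := hrow 2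
  rw [Fin.sum_univ_four, hdP 2, e_2_0, e_2_1, e_2_3] at R_2
  have R_3 := hrow 3
  rw [Fin.sum_univ_four, hdP 3, e_3_0, e_3_1, e_3_2] at R_3
  have S_0_1 := hsym 0 1
  rw [e_0_1, e_1_0] at S_0_1
  have S_0_2 := hsym 0 2
  rw [e_0_2, e_2_0] at S_0_2
  have S_0_3 := hsym 0 3
  rw [e_0_3, e_3_0] at S_0_3
  have S_1_2 := hsym 1 2
  rw [e_1_2, e_2_1] at S_1_2
  have S_1_3 := hsym 1 3
  rw [e_1_3, e_3_1] at S_1_3
  have S_2_3 := hsym 2 3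
  rw [e_2_3, e_3_2] at S_2_3
  have D_0 := hdA 0
  have A_0_1 := nt_a_eq T 0 1
  rw [e_0_1] at A_0_1
  have A_0_2 := nt_a_eq T 0 2
  rw [e_0_2] at A_0_2
  have A_0_3 := nt_a_eq T 0 3
  rw [e_0_3] at A_0_3
  have D_1 := hdA 1
  have A_1_0 := nt_a_eq T 1 0
  rw [e_1_0] at A_1_0
  have A_1_2 := nt_a_eq T 1 2
  rw [e_1_2] at A_1_2
  have A_1_3 := nt_a_eq T 1 3
  rw [e_1_3] at A_1_3
  have D_2 := hdA 2
  have A_2_0 := nt_a_eq T 2 0
  rw [e_2_0] at A_2_0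
  have A_2_1 := nt_a_eq T 2 1
  rw [e_2_1] at A_2_1
  have A_2_3 := nt_a_eq T 2 3
  rw [e_2_3] at A_2_3
  have D_3 := hdA 3
  have A_3_0 := nt_a_eq T 3 0
  rw [e_3_0] at A_3_0
  have A_3_1 := nt_a_eq T 3 1
  rw [e_3_1] at A_3_1
  have A_3_2 := nt_a_eq T 3 2
  rw [e_3_2] at A_3_2
  refine goal_of_indices T hg0 0 1 2 3 (by decide) (T.m 0) (T.w 0) ?_
  unfold Goali
  exact Or.inr (Or.inr (Or.inl ⟨by omega, by omega, by omega, by omega, by omega, by omega, by omega, by omega, by omega, by omega, by omega, by omega, by omega, by omega, by omega, by omega, by omega, by omega⟩))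

theorem nd_83 (T : Models.NumericalType 4)
    (hG : NTGood T)
    (hmax : ∀ j, T.m j ≤ T.m 0)
    (e_0_1 : T.picMatrix 0 1 = 2)
    (e_0_2 : T.picMatrix 0 2 = 0)
    (e_0_3 : T.picMatrix 0 3 = 0)
    (e_1_0 : T.picMatrix 1 0 = 1)
    (e_1_2 : T.picMatrix 1 2 = 1)
    (e_1_3 : T.picMatrix 1 3 = 0)
    (e_2_0 : T.picMatrix 2 0 = 0)
    (e_2_1 : T.picMatrix 2 1 = 1)
    (e_2_3 : T.picMatrix 2 3 = 2)
    (e_3_0 : T.picMatrix 3 0 = 0)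
    (e_3_1 : T.picMatrix 3 1 = 0)
    (e_3_2 : T.picMatrix 3 2 = 1)
    (cl : ∀ a b : Fin 4, a.val < 2 → 4 ≤ b.val → T.picMatrix a b = 0) :
    Goal T := by
  obtain ⟨hg0, hdA, hdP, hnn, hrow, hsym, hpair⟩ := ntgood_data T (by norm_num) hG
  have hm_0 := T.m_pos 0
  have hw_0 := T.w_pos 0
  have hm_1 := T.m_pos 1
  have hw_1 := T.w_pos 1
  have hm_2 := T.m_pos 2
  have hw_2 := T.w_pos 2
  have hm_3 := T.m_pos 3
  have hw_3 := T.w_pos 3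
  have hx_1 := hmax 1
  have hx_2 := hmax 2
  have hx_3 := hmax 3
  have R_0 := hrow 0
  rw [Fin.sum_univ_four, hdP 0, e_0_1, e_0_2, e_0_3] at R_0
  have R_1 := hrow 1
  rw [Fin.sum_univ_four, hdP 1, e_1_0, e_1_2, e_1_3] at R_1
  have R_2 := hrow 2
  rw [Fin.sum_univ_four, hdP 2, e_2_0, e_2_1, e_2_3] at R_2
  have R_3 := hrow 3
  rw [Fin.sum_univ_four, hdP 3, e_3_0, e_3_1, e_3_2] at R_3
  have S_0_1 := hsym 0 1
  rw [e_0_1, e_1_0] at S_0_1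
  have S_0_2 := hsym 0 2
  rw [e_0_2, e_2_0] at S_0_2
  have S_0_3 := hsym 0 3
  rw [e_0_3, e_3_0] at S_0_3
  have S_1_2 := hsym 1 2
  rw [e_1_2, e_2_1] at S_1_2
  have S_1_3 := hsym 1 3
  rw [e_1_3, e_3_1] at S_1_3
  have S_2_3 := hsym 2 3
  rw [e_2_3, e_3_2] at S_2_3
  have D_0 := hdA 0
  have A_0_1 := nt_a_eq T 0 1
  rw [e_0_1] at A_0_1
  have A_0_2 := nt_a_eq T 0 2
  rw [e_0_2] at A_0_2
  have A_0_3 := nt_a_eq T 0 3
  rw [e_0_3] at A_0_3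
  have D_1 := hdA 1
  have A_1_0 := nt_a_eq T 1 0
  rw [e_1_0] at A_1_0
  have A_1_2 := nt_a_eq T 1 2
  rw [e_1_2] at A_1_2
  have A_1_3 := nt_a_eq T 1 3
  rw [e_1_3] at A_1_3
  have D_2 := hdA 2
  have A_2_0 := nt_a_eq T 2 0
  rw [e_2_0] at A_2_0
  have A_2_1 := nt_a_eq T 2 1
  rw [e_2_1] at A_2_1
  have A_2_3 := nt_a_eq T 2 3
  rw [e_2_3] at A_2_3
  have D_3 := hdA 3
  have A_3_0 := nt_a_eq T 3 0
  rw [e_3_0] at A_3_0
  have A_3_1 := nt_a_eq T 3 1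
  rw [e_3_1] at A_3_1
  have A_3_2 := nt_a_eq T 3 2
  rw [e_3_2] at A_3_2
  refine goal_of_indices T hg0 0 1 2 3 (by decide) (T.m 3) (T.w 0) ?_
  unfold Goali
  exact Or.inr (Or.inl ⟨by omega, by omega, by omega, by omega, by omega, by omega, by omega, by omega, by omega, by omega, by omega, by omega, by omega, by omega, by omega, by omega, by omega, by omega⟩)

theorem ex_81 (T : Models.NumericalType 4)
    (hG : NTGood T)
    (hmax : ∀ j, T.m j ≤ T.m 0)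
    (e_0_1 : T.picMatrix 0 1 = 2)
    (e_0_2 : T.picMatrix 0 2 = 0)
    (e_1_0 : T.picMatrix 1 0 = 1)
    (e_1_2 : T.picMatrix 1 2 = 1)
    (e_2_0 : T.picMatrix 2 0 = 0)
    (e_2_1 : T.picMatrix 2 1 = 1)
    (cl : ∀ a b : Fin 4, a.val < 2 → 4 ≤ b.val → T.picMatrix a b = 0)
    (z : ∀ a : Fin 4, a.val < 2 → T.picMatrix a 3 = 0)
    (hne : T.picMatrix 2 3 ≠ 0) :
    Goal T := by
  have e_0_3 : T.picMatrix 0 3 = 0 := z 0 (by decide)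
  have e_3_0 : T.picMatrix 3 0 = 0 := nt_pic_zero_symm T 0 3 e_0_3
  have e_1_3 : T.picMatrix 1 3 = 0 := z 1 (by decide)
  have e_3_1 : T.picMatrix 3 1 = 0 := nt_pic_zero_symm T 1 3 e_1_3
  obtain ⟨hg0, hdA, hdP, hnn, hrow, hsym, hpair⟩ := ntgood_data T (by norm_num) hG
  have hm_0 := T.m_pos 0
  have hw_0 := T.w_pos 0
  have hm_1 := T.m_pos 1
  have hw_1 := T.w_pos 1
  have hm_2 := T.m_pos 2
  have hw_2 := T.w_pos 2
  have hm_3 := T.m_pos 3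
  have hw_3 := T.w_pos 3
  have hx_1 := hmax 1
  have hx_2 := hmax 2
  have hx_3 := hmax 3
  have N_2_3 := mul_nonneg (hnn 2 3 (by decide)) (T.m_pos 3).le
  have N_3_2 := mul_nonneg (hnn 3 2 (by decide)) (T.m_pos 2).le
  have R_0 := hrow 0
  rw [Fin.sum_univ_four, hdP 0, e_0_1, e_0_2, e_0_3] at R_0
  have R_1 := hrow 1
  rw [Fin.sum_univ_four, hdP 1, e_1_0, e_1_2, e_1_3] at R_1
  have R_2 := hrow 2
  rw [Fin.sum_univ_four, hdP 2, e_2_0, e_2_1] at R_2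
  have R_3 := hrow 3
  rw [Fin.sum_univ_four, hdP 3, e_3_0, e_3_1] at R_3
  have S_0_1 := hsym 0 1
  rw [e_0_1, e_1_0] at S_0_1
  have S_0_2 := hsym 0 2
  rw [e_0_2, e_2_0] at S_0_2
  have S_0_3 := hsym 0 3
  rw [e_0_3, e_3_0] at S_0_3
  have S_1_2 := hsym 1 2
  rw [e_1_2, e_2_1] at S_1_2
  have S_1_3 := hsym 1 3
  rw [e_1_3, e_3_1] at S_1_3
  have S_2_3 := hsym 2 3
  have Q_2 := hpair 2 3 (by decide)
  generalize e_2_3 : T.picMatrix 2 3 = x_2 at *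
  generalize e_3_2 : T.picMatrix 3 2 = y_2 at *
  rcases Q_2 with ⟨rfl, rfl⟩ | ⟨rfl, rfl⟩ | ⟨rfl, rfl⟩ | ⟨rfl, rfl⟩ | ⟨rfl, rfl⟩ | ⟨rfl, rfl⟩ | ⟨rfl, rfl⟩ | ⟨rfl, rfl⟩ | ⟨rfl, rfl⟩
  · exact absurd rfl hne
  · -- (2,3) = (1,1)
    omega
  · -- (2,3) = (1,2)
    exact nd_82 T hG hmax e_0_1 e_0_2 e_0_3 e_1_0 e_1_2 e_1_3 e_2_0 e_2_1 e_2_3 e_3_0 e_3_1 e_3_2 cl
  · -- (2,3) = (2,1)
    exact nd_83 T hG hmax e_0_1 e_0_2 e_0_3 e_1_0 e_1_2 e_1_3 e_2_0 e_2_1 e_2_3 e_3_0 e_3_1 e_3_2 cl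
  · -- (2,3) = (1,3)
    omega
  · -- (2,3) = (3,1)
    omega
  · -- (2,3) = (1,4)
    omega
  · -- (2,3) = (4,1)
    omega
  · -- (2,3) = (2,2)
    omega

theorem nd_79 (T : Models.NumericalType 4)
    (hG : NTGood T)
    (hmax : ∀ j, T.m j ≤ T.m 0)
    (e_0_1 : T.picMatrix 0 1 = 2)
    (e_0_2 : T.picMatrix 0 2 = 0)
    (e_1_0 : T.picMatrix 1 0 = 1)
    (e_1_2 : T.picMatrix 1 2 = 1)
    (e_2_0 : T.picMatrix 2 0 = 0)
    (e_2_1 : T.picMatrix 2 1 = 1)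
    (cl : ∀ a b : Fin 4, a.val < 2 → 3 ≤ b.val → T.picMatrix a b = 0) :
    Goal T := by
  by_cases hc : ∀ b : Fin 4, 3 ≤ b.val → T.picMatrix 2 b = 0
  · exact nd_80 T hG hmax e_0_1 e_0_2 e_1_0 e_1_2 e_2_0 e_2_1 (nt_cl_succ T 3 2 2 rfl cl hc)
  · obtain ⟨τ, hfix, cl', z, hne⟩ := nt_wlog_step T 3 (by norm_num) 2 (by norm_num) 2 (by decide) cl hc
    apply goal_relabel T τ
    refine ex_81 (ntRelabel T τ) (hG.relabel τ) ?_ ?_ ?_ ?_ ?_ ?_ ?_ cl' z hne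
    · intro j
      show T.m (τ j) ≤ T.m (τ 0)
      rw [hfix 0 (by decide)]
      exact hmax _
    · show T.picMatrix (τ 0) (τ 1) = 2
      rw [hfix 0 (by decide), hfix 1 (by decide)]
      exact e_0_1
    · show T.picMatrix (τ 0) (τ 2) = 0
      rw [hfix 0 (by decide), hfix 2 (by decide)]
      exact e_0_2
    · show T.picMatrix (τ 1) (τ 0) = 1
      rw [hfix 1 (by decide), hfix 0 (by decide)]
      exact e_1_0
    · show T.picMatrix (τ 1) (τ 2) = 1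
      rw [hfix 1 (by decide), hfix 2 (by decide)]
      exact e_1_2
    · show T.picMatrix (τ 2) (τ 0) = 0
      rw [hfix 2 (by decide), hfix 0 (by decide)]
      exact e_2_0
    · show T.picMatrix (τ 2) (τ 1) = 1
      rw [hfix 2 (by decide), hfix 1 (by decide)]
      exact e_2_1

theorem nd_85 (T : Models.NumericalType 4)
    (hG : NTGood T)
    (hmax : ∀ j, T.m j ≤ T.m 0)
    (e_0_1 : T.picMatrix 0 1 = 2)
    (e_0_2 : T.picMatrix 0 2 = 0)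
    (e_0_3 : T.picMatrix 0 3 = 0)
    (e_1_0 : T.picMatrix 1 0 = 1)
    (e_1_2 : T.picMatrix 1 2 = 1)
    (e_1_3 : T.picMatrix 1 3 = 1)
    (e_2_0 : T.picMatrix 2 0 = 0)
    (e_2_1 : T.picMatrix 2 1 = 1)
    (e_2_3 : T.picMatrix 2 3 = 0)
    (e_3_0 : T.picMatrix 3 0 = 0)
    (e_3_1 : T.picMatrix 3 1 = 1)
    (e_3_2 : T.picMatrix 3 2 = 0)
    (cl : ∀ a b : Fin 4, a.val < 1 → 4 ≤ b.val → T.picMatrix a b = 0) :
    Goal T := by
  obtain ⟨hg0, hdA, hdP, hnn, hrow, hsym, hpair⟩ := ntgood_data T (by norm_num) hG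
  have hm_0 := T.m_pos 0
  have hw_0 := T.w_pos 0
  have hm_1 := T.m_pos 1
  have hw_1 := T.w_pos 1
  have hm_2 := T.m_pos 2
  have hw_2 := T.w_pos 2
  have hm_3 := T.m_pos 3
  have hw_3 := T.w_pos 3
  have hx_1 := hmax 1
  have hx_2 := hmax 2
  have hx_3 := hmax 3
  have R_0 := hrow 0
  rw [Fin.sum_univ_four, hdP 0, e_0_1, e_0_2, e_0_3] at R_0
  have R_1 := hrow 1
  rw [Fin.sum_univ_four, hdP 1, e_1_0, e_1_2, e_1_3] at R_1
  have R_2 := hrow 2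
  rw [Fin.sum_univ_four, hdP 2, e_2_0, e_2_1, e_2_3] at R_2
  have R_3 := hrow 3
  rw [Fin.sum_univ_four, hdP 3, e_3_0, e_3_1, e_3_2] at R_3
  have S_0_1 := hsym 0 1
  rw [e_0_1, e_1_0] at S_0_1
  have S_0_2 := hsym 0 2
  rw [e_0_2, e_2_0] at S_0_2
  have S_0_3 := hsym 0 3
  rw [e_0_3, e_3_0] at S_0_3
  have S_1_2 := hsym 1 2
  rw [e_1_2, e_2_1] at S_1_2
  have S_1_3 := hsym 1 3
  rw [e_1_3, e_3_1] at S_1_3
  have S_2_3 := hsym 2 3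
  rw [e_2_3, e_3_2] at S_2_3
  have D_0 := hdA 0
  have A_0_1 := nt_a_eq T 0 1
  rw [e_0_1] at A_0_1
  have A_0_2 := nt_a_eq T 0 2
  rw [e_0_2] at A_0_2
  have A_0_3 := nt_a_eq T 0 3
  rw [e_0_3] at A_0_3
  have D_1 := hdA 1
  have A_1_0 := nt_a_eq T 1 0
  rw [e_1_0] at A_1_0
  have A_1_2 := nt_a_eq T 1 2
  rw [e_1_2] at A_1_2
  have A_1_3 := nt_a_eq T 1 3
  rw [e_1_3] at A_1_3
  have D_2 := hdA 2
  have A_2_0 := nt_a_eq T 2 0
  rw [e_2_0] at A_2_0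
  have A_2_1 := nt_a_eq T 2 1
  rw [e_2_1] at A_2_1
  have A_2_3 := nt_a_eq T 2 3
  rw [e_2_3] at A_2_3
  have D_3 := hdA 3
  have A_3_0 := nt_a_eq T 3 0
  rw [e_3_0] at A_3_0
  have A_3_1 := nt_a_eq T 3 1
  rw [e_3_1] at A_3_1
  have A_3_2 := nt_a_eq T 3 2
  rw [e_3_2] at A_3_2
  refine goal_of_indices T hg0 1 2 3 0 (by decide) (T.m 2) (T.w 0) ?_
  unfold Goali
  exact Or.inr (Or.inr (Or.inr (Or.inr (Or.inr (⟨by omega, by omega, by omega, by omega, by omega, by omega, by omega, by omega, by omega, by omega, by omega, by omega, by omega, by omega, by omega, by omega, by omega, by omega⟩)))))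

theorem ex_84 (T : Models.NumericalType 4)
    (hG : NTGood T)
    (hmax : ∀ j, T.m j ≤ T.m 0)
    (e_0_1 : T.picMatrix 0 1 = 2)
    (e_0_2 : T.picMatrix 0 2 = 0)
    (e_1_0 : T.picMatrix 1 0 = 1)
    (e_1_2 : T.picMatrix 1 2 = 1)
    (e_2_0 : T.picMatrix 2 0 = 0)
    (e_2_1 : T.picMatrix 2 1 = 1)
    (cl : ∀ a b : Fin 4, a.val < 1 → 4 ≤ b.val → T.picMatrix a b = 0)
    (z : ∀ a : Fin 4, a.val < 1 → T.picMatrix a 3 = 0)
    (hne : T.picMatrix 1 3 ≠ 0) :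
    Goal T := by
  have e_0_3 : T.picMatrix 0 3 = 0 := z 0 (by decide)
  have e_3_0 : T.picMatrix 3 0 = 0 := nt_pic_zero_symm T 0 3 e_0_3
  obtain ⟨hg0, hdA, hdP, hnn, hrow, hsym, hpair⟩ := ntgood_data T (by norm_num) hG
  have hm_0 := T.m_pos 0
  have hw_0 := T.w_pos 0
  have hm_1 := T.m_pos 1
  have hw_1 := T.w_pos 1
  have hm_2 := T.m_pos 2
  have hw_2 := T.w_pos 2
  have hm_3 := T.m_pos 3
  have hw_3 := T.w_pos 3
  have hx_1 := hmax 1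
  have hx_2 := hmax 2
  have hx_3 := hmax 3
  have N_1_3 := mul_nonneg (hnn 1 3 (by decide)) (T.m_pos 3).le
  have N_3_1 := mul_nonneg (hnn 3 1 (by decide)) (T.m_pos 1).le
  have N_2_3 := mul_nonneg (hnn 2 3 (by decide)) (T.m_pos 3).le
  have N_3_2 := mul_nonneg (hnn 3 2 (by decide)) (T.m_pos 2).le
  have R_0 := hrow 0
  rw [Fin.sum_univ_four, hdP 0, e_0_1, e_0_2, e_0_3] at R_0
  have R_1 := hrow 1
  rw [Fin.sum_univ_four, hdP 1, e_1_0, e_1_2] at R_1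
  have R_2 := hrow 2
  rw [Fin.sum_univ_four, hdP 2, e_2_0, e_2_1] at R_2
  have R_3 := hrow 3
  rw [Fin.sum_univ_four, hdP 3, e_3_0] at R_3
  have S_0_1 := hsym 0 1
  rw [e_0_1, e_1_0] at S_0_1
  have S_0_2 := hsym 0 2
  rw [e_0_2, e_2_0] at S_0_2
  have S_0_3 := hsym 0 3
  rw [e_0_3, e_3_0] at S_0_3
  have S_1_2 := hsym 1 2
  rw [e_1_2, e_2_1] at S_1_2
  have S_1_3 := hsym 1 3
  have S_2_3 := hsym 2 3
  have Q_1 := hpair 1 3 (by decide)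
  have Q_2 := hpair 2 3 (by decide)
  generalize e_1_3 : T.picMatrix 1 3 = x_1 at *
  generalize e_3_1 : T.picMatrix 3 1 = y_1 at *
  generalize e_2_3 : T.picMatrix 2 3 = x_2 at *
  generalize e_3_2 : T.picMatrix 3 2 = y_2 at *
  rcases Q_1 with ⟨rfl, rfl⟩ | ⟨rfl, rfl⟩ | ⟨rfl, rfl⟩ | ⟨rfl, rfl⟩ | ⟨rfl, rfl⟩ | ⟨rfl, rfl⟩ | ⟨rfl, rfl⟩ | ⟨rfl, rfl⟩ | ⟨rfl, rfl⟩
  · exact absurd rfl hne
  · -- (1,3) = (1,1)
    rcases Q_2 with ⟨rfl, rfl⟩ | ⟨rfl, rfl⟩ | ⟨rfl, rfl⟩ | ⟨rfl, rfl⟩ | ⟨rfl, rfl⟩ | ⟨rfl, rfl⟩ | ⟨rfl, rfl⟩ | ⟨rfl, rfl⟩ | ⟨rfl, rfl⟩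
    · -- (2,3) = (0,0)
      exact nd_85 T hG hmax e_0_1 e_0_2 e_0_3 e_1_0 e_1_2 e_1_3 e_2_0 e_2_1 e_2_3 e_3_0 e_3_1 e_3_2 cl
    · -- (2,3) = (1,1)
      omega
    · -- (2,3) = (1,2)
      omega
    · -- (2,3) = (2,1)
      omega
    · -- (2,3) = (1,3)
      omega
    · -- (2,3) = (3,1)
      omega
    · -- (2,3) = (1,4)
      omega
    · -- (2,3) = (4,1)
      omega
    · -- (2,3) = (2,2)
      omega
  · omega
  · omega
  · omega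
  · omega
  · omega
  · omega
  · omega

theorem nd_78 (T : Models.NumericalType 4)
    (hG : NTGood T)
    (hmax : ∀ j, T.m j ≤ T.m 0)
    (e_0_1 : T.picMatrix 0 1 = 2)
    (e_0_2 : T.picMatrix 0 2 = 0)
    (e_1_0 : T.picMatrix 1 0 = 1)
    (e_1_2 : T.picMatrix 1 2 = 1)
    (e_2_0 : T.picMatrix 2 0 = 0)
    (e_2_1 : T.picMatrix 2 1 = 1)
    (cl : ∀ a b : Fin 4, a.val < 1 → 3 ≤ b.val → T.picMatrix a b = 0) :
    Goal T := by
  by_cases hc : ∀ b : Fin 4, 3 ≤ b.val → T.picMatrix 1 b = 0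
  · exact nd_79 T hG hmax e_0_1 e_0_2 e_1_0 e_1_2 e_2_0 e_2_1 (nt_cl_succ T 3 1 1 rfl cl hc)
  · obtain ⟨τ, hfix, cl', z, hne⟩ := nt_wlog_step T 3 (by norm_num) 1 (by norm_num) 1 (by decide) cl hc
    apply goal_relabel T τ
    refine ex_84 (ntRelabel T τ) (hG.relabel τ) ?_ ?_ ?_ ?_ ?_ ?_ ?_ cl' z hne
    · intro j
      show T.m (τ j) ≤ T.m (τ 0)
      rw [hfix 0 (by decide)]
      exact hmax _
    · show T.picMatrix (τ 0) (τ 1) = 2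
      rw [hfix 0 (by decide), hfix 1 (by decide)]
      exact e_0_1
    · show T.picMatrix (τ 0) (τ 2) = 0
      rw [hfix 0 (by decide), hfix 2 (by decide)]
      exact e_0_2
    · show T.picMatrix (τ 1) (τ 0) = 1
      rw [hfix 1 (by decide), hfix 0 (by decide)]
      exact e_1_0
    · show T.picMatrix (τ 1) (τ 2) = 1
      rw [hfix 1 (by decide), hfix 2 (by decide)]
      exact e_1_2
    · show T.picMatrix (τ 2) (τ 0) = 0
      rw [hfix 2 (by decide), hfix 0 (by decide)]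
      exact e_2_0
    · show T.picMatrix (τ 2) (τ 1) = 1
      rw [hfix 2 (by decide), hfix 1 (by decide)]
      exact e_2_1

theorem nd_88 (T : Models.NumericalType 4)
    (hG : NTGood T)
    (hmax : ∀ j, T.m j ≤ T.m 0)
    (e_0_1 : T.picMatrix 0 1 = 2)
    (e_0_2 : T.picMatrix 0 2 = 0)
    (e_1_0 : T.picMatrix 1 0 = 1)
    (e_1_2 : T.picMatrix 1 2 = 1)
    (e_2_0 : T.picMatrix 2 0 = 0)
    (e_2_1 : T.picMatrix 2 1 = 2)
    (cl : ∀ a b : Fin 4, a.val < 3 → 3 ≤ b.val → T.picMatrix a b = 0) :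
    Goal T := by
  exact (nt_closed_false T 3 (by norm_num) (by norm_num) cl).elim

theorem ex_89 (T : Models.NumericalType 4)
    (hG : NTGood T)
    (hmax : ∀ j, T.m j ≤ T.m 0)
    (e_0_1 : T.picMatrix 0 1 = 2)
    (e_0_2 : T.picMatrix 0 2 = 0)
    (e_1_0 : T.picMatrix 1 0 = 1)
    (e_1_2 : T.picMatrix 1 2 = 1)
    (e_2_0 : T.picMatrix 2 0 = 0)
    (e_2_1 : T.picMatrix 2 1 = 2)
    (cl : ∀ a b : Fin 4, a.val < 2 → 4 ≤ b.val → T.picMatrix a b = 0)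
    (z : ∀ a : Fin 4, a.val < 2 → T.picMatrix a 3 = 0)
    (hne : T.picMatrix 2 3 ≠ 0) :
    Goal T := by
  have e_0_3 : T.picMatrix 0 3 = 0 := z 0 (by decide)
  have e_3_0 : T.picMatrix 3 0 = 0 := nt_pic_zero_symm T 0 3 e_0_3
  have e_1_3 : T.picMatrix 1 3 = 0 := z 1 (by decide)
  have e_3_1 : T.picMatrix 3 1 = 0 := nt_pic_zero_symm T 1 3 e_1_3
  obtain ⟨hg0, hdA, hdP, hnn, hrow, hsym, hpair⟩ := ntgood_data T (by norm_num) hG
  have hm_0 := T.m_pos 0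
  have hw_0 := T.w_pos 0
  have hm_1 := T.m_pos 1
  have hw_1 := T.w_pos 1
  have hm_2 := T.m_pos 2
  have hw_2 := T.w_pos 2
  have hm_3 := T.m_pos 3
  have hw_3 := T.w_pos 3
  have hx_1 := hmax 1
  have hx_2 := hmax 2
  have hx_3 := hmax 3
  have N_2_3 := mul_nonneg (hnn 2 3 (by decide)) (T.m_pos 3).le
  have N_3_2 := mul_nonneg (hnn 3 2 (by decide)) (T.m_pos 2).le
  have R_0 := hrow 0
  rw [Fin.sum_univ_four, hdP 0, e_0_1, e_0_2, e_0_3] at R_0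
  have R_1 := hrow 1
  rw [Fin.sum_univ_four, hdP 1, e_1_0, e_1_2, e_1_3] at R_1
  have R_2 := hrow 2
  rw [Fin.sum_univ_four, hdP 2, e_2_0, e_2_1] at R_2
  have R_3 := hrow 3
  rw [Fin.sum_univ_four, hdP 3, e_3_0, e_3_1] at R_3
  have S_0_1 := hsym 0 1
  rw [e_0_1, e_1_0] at S_0_1
  have S_0_2 := hsym 0 2
  rw [e_0_2, e_2_0] at S_0_2
  have S_0_3 := hsym 0 3
  rw [e_0_3, e_3_0] at S_0_3
  have S_1_2 := hsym 1 2
  rw [e_1_2, e_2_1] at S_1_2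
  have S_1_3 := hsym 1 3
  rw [e_1_3, e_3_1] at S_1_3
  have S_2_3 := hsym 2 3
  have Q_2 := hpair 2 3 (by decide)
  generalize e_2_3 : T.picMatrix 2 3 = x_2 at *
  generalize e_3_2 : T.picMatrix 3 2 = y_2 at *
  rcases Q_2 with ⟨rfl, rfl⟩ | ⟨rfl, rfl⟩ | ⟨rfl, rfl⟩ | ⟨rfl, rfl⟩ | ⟨rfl, rfl⟩ | ⟨rfl, rfl⟩ | ⟨rfl, rfl⟩ | ⟨rfl, rfl⟩ | ⟨rfl, rfl⟩
  · exact absurd rfl hne
  · -- (2,3) = (1,1)
    omega
  · -- (2,3) = (1,2)
    omega
  · -- (2,3) = (2,1)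
    omega
  · -- (2,3) = (1,3)
    omega
  · -- (2,3) = (3,1)
    omega
  · -- (2,3) = (1,4)
    omega
  · -- (2,3) = (4,1)
    omega
  · -- (2,3) = (2,2)
    omega

theorem nd_87 (T : Models.NumericalType 4)
    (hG : NTGood T)
    (hmax : ∀ j, T.m j ≤ T.m 0)
    (e_0_1 : T.picMatrix 0 1 = 2)
    (e_0_2 : T.picMatrix 0 2 = 0)
    (e_1_0 : T.picMatrix 1 0 = 1)
    (e_1_2 : T.picMatrix 1 2 = 1)
    (e_2_0 : T.picMatrix 2 0 = 0)
    (e_2_1 : T.picMatrix 2 1 = 2)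
    (cl : ∀ a b : Fin 4, a.val < 2 → 3 ≤ b.val → T.picMatrix a b = 0) :
    Goal T := by
  by_cases hc : ∀ b : Fin 4, 3 ≤ b.val → T.picMatrix 2 b = 0
  · exact nd_88 T hG hmax e_0_1 e_0_2 e_1_0 e_1_2 e_2_0 e_2_1 (nt_cl_succ T 3 2 2 rfl cl hc)
  · obtain ⟨τ, hfix, cl', z, hne⟩ := nt_wlog_step T 3 (by norm_num) 2 (by norm_num) 2 (by decide) cl hc
    apply goal_relabel T τ
    refine ex_89 (ntRelabel T τ) (hG.relabel τ) ?_ ?_ ?_ ?_ ?_ ?_ ?_ cl' z hne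
    · intro j
      show T.m (τ j) ≤ T.m (τ 0)
      rw [hfix 0 (by decide)]
      exact hmax _
    · show T.picMatrix (τ 0) (τ 1) = 2
      rw [hfix 0 (by decide), hfix 1 (by decide)]
      exact e_0_1
    · show T.picMatrix (τ 0) (τ 2) = 0
      rw [hfix 0 (by decide), hfix 2 (by decide)]
      exact e_0_2
    · show T.picMatrix (τ 1) (τ 0) = 1
      rw [hfix 1 (by decide), hfix 0 (by decide)]
      exact e_1_0
    · show T.picMatrix (τ 1) (τ 2) = 1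
      rw [hfix 1 (by decide), hfix 2 (by decide)]
      exact e_1_2
    · show T.picMatrix (τ 2) (τ 0) = 0
      rw [hfix 2 (by decide), hfix 0 (by decide)]
      exact e_2_0
    · show T.picMatrix (τ 2) (τ 1) = 2
      rw [hfix 2 (by decide), hfix 1 (by decide)]
      exact e_2_1

theorem ex_90 (T : Models.NumericalType 4)
    (hG : NTGood T)
    (hmax : ∀ j, T.m j ≤ T.m 0)
    (e_0_1 : T.picMatrix 0 1 = 2)
    (e_0_2 : T.picMatrix 0 2 = 0)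
    (e_1_0 : T.picMatrix 1 0 = 1)
    (e_1_2 : T.picMatrix 1 2 = 1)
    (e_2_0 : T.picMatrix 2 0 = 0)
    (e_2_1 : T.picMatrix 2 1 = 2)
    (cl : ∀ a b : Fin 4, a.val < 1 → 4 ≤ b.val → T.picMatrix a b = 0)
    (z : ∀ a : Fin 4, a.val < 1 → T.picMatrix a 3 = 0)
    (hne : T.picMatrix 1 3 ≠ 0) :
    Goal T := by
  have e_0_3 : T.picMatrix 0 3 = 0 := z 0 (by decide)
  have e_3_0 : T.picMatrix 3 0 = 0 := nt_pic_zero_symm T 0 3 e_0_3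
  obtain ⟨hg0, hdA, hdP, hnn, hrow, hsym, hpair⟩ := ntgood_data T (by norm_num) hG
  have hm_0 := T.m_pos 0
  have hw_0 := T.w_pos 0
  have hm_1 := T.m_pos 1
  have hw_1 := T.w_pos 1
  have hm_2 := T.m_pos 2
  have hw_2 := T.w_pos 2
  have hm_3 := T.m_pos 3
  have hw_3 := T.w_pos 3
  have hx_1 := hmax 1
  have hx_2 := hmax 2
  have hx_3 := hmax 3
  have N_1_3 := mul_nonneg (hnn 1 3 (by decide)) (T.m_pos 3).le
  have N_3_1 := mul_nonneg (hnn 3 1 (by decide)) (T.m_pos 1).le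
  have N_2_3 := mul_nonneg (hnn 2 3 (by decide)) (T.m_pos 3).le
  have N_3_2 := mul_nonneg (hnn 3 2 (by decide)) (T.m_pos 2).le
  have R_0 := hrow 0
  rw [Fin.sum_univ_four, hdP 0, e_0_1, e_0_2, e_0_3] at R_0
  have R_1 := hrow 1
  rw [Fin.sum_univ_four, hdP 1, e_1_0, e_1_2] at R_1
  have R_2 := hrow 2
  rw [Fin.sum_univ_four, hdP 2, e_2_0, e_2_1] at R_2
  have R_3 := hrow 3
  rw [Fin.sum_univ_four, hdP 3, e_3_0] at R_3
  have S_0_1 := hsym 0 1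
  rw [e_0_1, e_1_0] at S_0_1
  have S_0_2 := hsym 0 2
  rw [e_0_2, e_2_0] at S_0_2
  have S_0_3 := hsym 0 3
  rw [e_0_3, e_3_0] at S_0_3
  have S_1_2 := hsym 1 2
  rw [e_1_2, e_2_1] at S_1_2
  have S_1_3 := hsym 1 3
  have S_2_3 := hsym 2 3
  have Q_1 := hpair 1 3 (by decide)
  have Q_2 := hpair 2 3 (by decide)
  generalize e_1_3 : T.picMatrix 1 3 = x_1 at *
  generalize e_3_1 : T.picMatrix 3 1 = y_1 at *
  generalize e_2_3 : T.picMatrix 2 3 = x_2 at *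
  generalize e_3_2 : T.picMatrix 3 2 = y_2 at *
  rcases Q_1 with ⟨rfl, rfl⟩ | ⟨rfl, rfl⟩ | ⟨rfl, rfl⟩ | ⟨rfl, rfl⟩ | ⟨rfl, rfl⟩ | ⟨rfl, rfl⟩ | ⟨rfl, rfl⟩ | ⟨rfl, rfl⟩ | ⟨rfl, rfl⟩
  · exact absurd rfl hne
  · omega
  · omega
  · omega
  · omega
  · omega
  · omega
  · omega
  · omega

theorem nd_86 (T : Models.NumericalType 4)
    (hG : NTGood T)
    (hmax : ∀ j, T.m j ≤ T.m 0)
    (e_0_1 : T.picMatrix 0 1 = 2)
    (e_0_2 : T.picMatrix 0 2 = 0)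
    (e_1_0 : T.picMatrix 1 0 = 1)
    (e_1_2 : T.picMatrix 1 2 = 1)
    (e_2_0 : T.picMatrix 2 0 = 0)
    (e_2_1 : T.picMatrix 2 1 = 2)
    (cl : ∀ a b : Fin 4, a.val < 1 → 3 ≤ b.val → T.picMatrix a b = 0) :
    Goal T := by
  by_cases hc : ∀ b : Fin 4, 3 ≤ b.val → T.picMatrix 1 b = 0
  · exact nd_87 T hG hmax e_0_1 e_0_2 e_1_0 e_1_2 e_2_0 e_2_1 (nt_cl_succ T 3 1 1 rfl cl hc)
  · obtain ⟨τ, hfix, cl', z, hne⟩ := nt_wlog_step T 3 (by norm_num) 1 (by norm_num) 1 (by decide) cl hc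
    apply goal_relabel T τ
    refine ex_90 (ntRelabel T τ) (hG.relabel τ) ?_ ?_ ?_ ?_ ?_ ?_ ?_ cl' z hne
    · intro j
      show T.m (τ j) ≤ T.m (τ 0)
      rw [hfix 0 (by decide)]
      exact hmax _
    · show T.picMatrix (τ 0) (τ 1) = 2
      rw [hfix 0 (by decide), hfix 1 (by decide)]
      exact e_0_1
    · show T.picMatrix (τ 0) (τ 2) = 0
      rw [hfix 0 (by decide), hfix 2 (by decide)]
      exact e_0_2
    · show T.picMatrix (τ 1) (τ 0) = 1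
      rw [hfix 1 (by decide), hfix 0 (by decide)]
      exact e_1_0
    · show T.picMatrix (τ 1) (τ 2) = 1
      rw [hfix 1 (by decide), hfix 2 (by decide)]
      exact e_1_2
    · show T.picMatrix (τ 2) (τ 0) = 0
      rw [hfix 2 (by decide), hfix 0 (by decide)]
      exact e_2_0
    · show T.picMatrix (τ 2) (τ 1) = 2
      rw [hfix 2 (by decide), hfix 1 (by decide)]
      exact e_2_1

theorem nd_93 (T : Models.NumericalType 4)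
    (hG : NTGood T)
    (hmax : ∀ j, T.m j ≤ T.m 0)
    (e_0_1 : T.picMatrix 0 1 = 2)
    (e_0_2 : T.picMatrix 0 2 = 0)
    (e_1_0 : T.picMatrix 1 0 = 1)
    (e_1_2 : T.picMatrix 1 2 = 2)
    (e_2_0 : T.picMatrix 2 0 = 0)
    (e_2_1 : T.picMatrix 2 1 = 1)
    (cl : ∀ a b : Fin 4, a.val < 3 → 3 ≤ b.val → T.picMatrix a b = 0) :
    Goal T := by
  exact (nt_closed_false T 3 (by norm_num) (by norm_num) cl).elim

theorem ex_94 (T : Models.NumericalType 4)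
    (hG : NTGood T)
    (hmax : ∀ j, T.m j ≤ T.m 0)
    (e_0_1 : T.picMatrix 0 1 = 2)
    (e_0_2 : T.picMatrix 0 2 = 0)
    (e_1_0 : T.picMatrix 1 0 = 1)
    (e_1_2 : T.picMatrix 1 2 = 2)
    (e_2_0 : T.picMatrix 2 0 = 0)
    (e_2_1 : T.picMatrix 2 1 = 1)
    (cl : ∀ a b : Fin 4, a.val < 2 → 4 ≤ b.val → T.picMatrix a b = 0)
    (z : ∀ a : Fin 4, a.val < 2 → T.picMatrix a 3 = 0)
    (hne : T.picMatrix 2 3 ≠ 0) :
    Goal T := by
  have e_0_3 : T.picMatrix 0 3 = 0 := z 0 (by decide)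
  have e_3_0 : T.picMatrix 3 0 = 0 := nt_pic_zero_symm T 0 3 e_0_3
  have e_1_3 : T.picMatrix 1 3 = 0 := z 1 (by decide)
  have e_3_1 : T.picMatrix 3 1 = 0 := nt_pic_zero_symm T 1 3 e_1_3
  obtain ⟨hg0, hdA, hdP, hnn, hrow, hsym, hpair⟩ := ntgood_data T (by norm_num) hG
  have hm_0 := T.m_pos 0
  have hw_0 := T.w_pos 0
  have hm_1 := T.m_pos 1
  have hw_1 := T.w_pos 1
  have hm_2 := T.m_pos 2
  have hw_2 := T.w_pos 2
  have hm_3 := T.m_pos 3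
  have hw_3 := T.w_pos 3
  have hx_1 := hmax 1
  have hx_2 := hmax 2
  have hx_3 := hmax 3
  have N_2_3 := mul_nonneg (hnn 2 3 (by decide)) (T.m_pos 3).le
  have N_3_2 := mul_nonneg (hnn 3 2 (by decide)) (T.m_pos 2).le
  have R_0 := hrow 0
  rw [Fin.sum_univ_four, hdP 0, e_0_1, e_0_2, e_0_3] at R_0
  have R_1 := hrow 1
  rw [Fin.sum_univ_four, hdP 1, e_1_0, e_1_2, e_1_3] at R_1
  have R_2 := hrow 2
  rw [Fin.sum_univ_four, hdP 2, e_2_0, e_2_1] at R_2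
  have R_3 := hrow 3
  rw [Fin.sum_univ_four, hdP 3, e_3_0, e_3_1] at R_3
  have S_0_1 := hsym 0 1
  rw [e_0_1, e_1_0] at S_0_1
  have S_0_2 := hsym 0 2
  rw [e_0_2, e_2_0] at S_0_2
  have S_0_3 := hsym 0 3
  rw [e_0_3, e_3_0] at S_0_3
  have S_1_2 := hsym 1 2
  rw [e_1_2, e_2_1] at S_1_2
  have S_1_3 := hsym 1 3
  rw [e_1_3, e_3_1] at S_1_3
  have S_2_3 := hsym 2 3
  have Q_2 := hpair 2 3 (by decide)
  generalize e_2_3 : T.picMatrix 2 3 = x_2 at *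
  generalize e_3_2 : T.picMatrix 3 2 = y_2 at *
  rcases Q_2 with ⟨rfl, rfl⟩ | ⟨rfl, rfl⟩ | ⟨rfl, rfl⟩ | ⟨rfl, rfl⟩ | ⟨rfl, rfl⟩ | ⟨rfl, rfl⟩ | ⟨rfl, rfl⟩ | ⟨rfl, rfl⟩ | ⟨rfl, rfl⟩
  · exact absurd rfl hne
  · -- (2,3) = (1,1)
    omega
  · -- (2,3) = (1,2)
    omega
  · -- (2,3) = (2,1)
    omega
  · -- (2,3) = (1,3)
    omega
  · -- (2,3) = (3,1)
    omega
  · -- (2,3) = (1,4)
    omega
  · -- (2,3) = (4,1)
    omega
  · -- (2,3) = (2,2)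
    omega

theorem nd_92 (T : Models.NumericalType 4)
    (hG : NTGood T)
    (hmax : ∀ j, T.m j ≤ T.m 0)
    (e_0_1 : T.picMatrix 0 1 = 2)
    (e_0_2 : T.picMatrix 0 2 = 0)
    (e_1_0 : T.picMatrix 1 0 = 1)
    (e_1_2 : T.picMatrix 1 2 = 2)
    (e_2_0 : T.picMatrix 2 0 = 0)
    (e_2_1 : T.picMatrix 2 1 = 1)
    (cl : ∀ a b : Fin 4, a.val < 2 → 3 ≤ b.val → T.picMatrix a b = 0) :
    Goal T := by
  by_cases hc : ∀ b : Fin 4, 3 ≤ b.val → T.picMatrix 2 b = 0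
  · exact nd_93 T hG hmax e_0_1 e_0_2 e_1_0 e_1_2 e_2_0 e_2_1 (nt_cl_succ T 3 2 2 rfl cl hc)
  · obtain ⟨τ, hfix, cl', z, hne⟩ := nt_wlog_step T 3 (by norm_num) 2 (by norm_num) 2 (by decide) cl hc
    apply goal_relabel T τ
    refine ex_94 (ntRelabel T τ) (hG.relabel τ) ?_ ?_ ?_ ?_ ?_ ?_ ?_ cl' z hne
    · intro j
      show T.m (τ j) ≤ T.m (τ 0)
      rw [hfix 0 (by decide)]
      exact hmax _
    · show T.picMatrix (τ 0) (τ 1) = 2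
      rw [hfix 0 (by decide), hfix 1 (by decide)]
      exact e_0_1
    · show T.picMatrix (τ 0) (τ 2) = 0
      rw [hfix 0 (by decide), hfix 2 (by decide)]
      exact e_0_2
    · show T.picMatrix (τ 1) (τ 0) = 1
      rw [hfix 1 (by decide), hfix 0 (by decide)]
      exact e_1_0
    · show T.picMatrix (τ 1) (τ 2) = 2
      rw [hfix 1 (by decide), hfix 2 (by decide)]
      exact e_1_2
    · show T.picMatrix (τ 2) (τ 0) = 0
      rw [hfix 2 (by decide), hfix 0 (by decide)]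
      exact e_2_0
    · show T.picMatrix (τ 2) (τ 1) = 1
      rw [hfix 2 (by decide), hfix 1 (by decide)]
      exact e_2_1

theorem ex_95 (T : Models.NumericalType 4)
    (hG : NTGood T)
    (hmax : ∀ j, T.m j ≤ T.m 0)
    (e_0_1 : T.picMatrix 0 1 = 2)
    (e_0_2 : T.picMatrix 0 2 = 0)
    (e_1_0 : T.picMatrix 1 0 = 1)
    (e_1_2 : T.picMatrix 1 2 = 2)
    (e_2_0 : T.picMatrix 2 0 = 0)
    (e_2_1 : T.picMatrix 2 1 = 1)
    (cl : ∀ a b : Fin 4, a.val < 1 → 4 ≤ b.val → T.picMatrix a b = 0)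
    (z : ∀ a : Fin 4, a.val < 1 → T.picMatrix a 3 = 0)
    (hne : T.picMatrix 1 3 ≠ 0) :
    Goal T := by
  have e_0_3 : T.picMatrix 0 3 = 0 := z 0 (by decide)
  have e_3_0 : T.picMatrix 3 0 = 0 := nt_pic_zero_symm T 0 3 e_0_3
  obtain ⟨hg0, hdA, hdP, hnn, hrow, hsym, hpair⟩ := ntgood_data T (by norm_num) hG
  have hm_0 := T.m_pos 0
  have hw_0 := T.w_pos 0
  have hm_1 := T.m_pos 1
  have hw_1 := T.w_pos 1
  have hm_2 := T.m_pos 2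
  have hw_2 := T.w_pos 2
  have hm_3 := T.m_pos 3
  have hw_3 := T.w_pos 3
  have hx_1 := hmax 1
  have hx_2 := hmax 2
  have hx_3 := hmax 3
  have N_1_3 := mul_nonneg (hnn 1 3 (by decide)) (T.m_pos 3).le
  have N_3_1 := mul_nonneg (hnn 3 1 (by decide)) (T.m_pos 1).le
  have N_2_3 := mul_nonneg (hnn 2 3 (by decide)) (T.m_pos 3).le
  have N_3_2 := mul_nonneg (hnn 3 2 (by decide)) (T.m_pos 2).le
  have R_0 := hrow 0
  rw [Fin.sum_univ_four, hdP 0, e_0_1, e_0_2, e_0_3] at R_0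
  have R_1 := hrow 1
  rw [Fin.sum_univ_four, hdP 1, e_1_0, e_1_2] at R_1
  have R_2 := hrow 2
  rw [Fin.sum_univ_four, hdP 2, e_2_0, e_2_1] at R_2
  have R_3 := hrow 3
  rw [Fin.sum_univ_four, hdP 3, e_3_0] at R_3
  have S_0_1 := hsym 0 1
  rw [e_0_1, e_1_0] at S_0_1
  have S_0_2 := hsym 0 2
  rw [e_0_2, e_2_0] at S_0_2
  have S_0_3 := hsym 0 3
  rw [e_0_3, e_3_0] at S_0_3
  have S_1_2 := hsym 1 2
  rw [e_1_2, e_2_1] at S_1_2
  have S_1_3 := hsym 1 3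
  have S_2_3 := hsym 2 3
  have Q_1 := hpair 1 3 (by decide)
  have Q_2 := hpair 2 3 (by decide)
  generalize e_1_3 : T.picMatrix 1 3 = x_1 at *
  generalize e_3_1 : T.picMatrix 3 1 = y_1 at *
  generalize e_2_3 : T.picMatrix 2 3 = x_2 at *
  generalize e_3_2 : T.picMatrix 3 2 = y_2 at *
  rcases Q_1 with ⟨rfl, rfl⟩ | ⟨rfl, rfl⟩ | ⟨rfl, rfl⟩ | ⟨rfl, rfl⟩ | ⟨rfl, rfl⟩ | ⟨rfl, rfl⟩ | ⟨rfl, rfl⟩ | ⟨rfl, rfl⟩ | ⟨rfl, rfl⟩
  · exact absurd rfl hne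
  · omega
  · omega
  · omega
  · omega
  · omega
  · omega
  · omega
  · omega

theorem nd_91 (T : Models.NumericalType 4)
    (hG : NTGood T)
    (hmax : ∀ j, T.m j ≤ T.m 0)
    (e_0_1 : T.picMatrix 0 1 = 2)
    (e_0_2 : T.picMatrix 0 2 = 0)
    (e_1_0 : T.picMatrix 1 0 = 1)
    (e_1_2 : T.picMatrix 1 2 = 2)
    (e_2_0 : T.picMatrix 2 0 = 0)
    (e_2_1 : T.picMatrix 2 1 = 1)
    (cl : ∀ a b : Fin 4, a.val < 1 → 3 ≤ b.val → T.picMatrix a b = 0) :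
    Goal T := by
  by_cases hc : ∀ b : Fin 4, 3 ≤ b.val → T.picMatrix 1 b = 0
  · exact nd_92 T hG hmax e_0_1 e_0_2 e_1_0 e_1_2 e_2_0 e_2_1 (nt_cl_succ T 3 1 1 rfl cl hc)
  · obtain ⟨τ, hfix, cl', z, hne⟩ := nt_wlog_step T 3 (by norm_num) 1 (by norm_num) 1 (by decide) cl hc
    apply goal_relabel T τ
    refine ex_95 (ntRelabel T τ) (hG.relabel τ) ?_ ?_ ?_ ?_ ?_ ?_ ?_ cl' z hne
    · intro j
      show T.m (τ j) ≤ T.m (τ 0)
      rw [hfix 0 (by decide)]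
      exact hmax _
    · show T.picMatrix (τ 0) (τ 1) = 2
      rw [hfix 0 (by decide), hfix 1 (by decide)]
      exact e_0_1
    · show T.picMatrix (τ 0) (τ 2) = 0
      rw [hfix 0 (by decide), hfix 2 (by decide)]
      exact e_0_2
    · show T.picMatrix (τ 1) (τ 0) = 1
      rw [hfix 1 (by decide), hfix 0 (by decide)]
      exact e_1_0
    · show T.picMatrix (τ 1) (τ 2) = 2
      rw [hfix 1 (by decide), hfix 2 (by decide)]
      exact e_1_2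
    · show T.picMatrix (τ 2) (τ 0) = 0
      rw [hfix 2 (by decide), hfix 0 (by decide)]
      exact e_2_0
    · show T.picMatrix (τ 2) (τ 1) = 1
      rw [hfix 2 (by decide), hfix 1 (by decide)]
      exact e_2_1

theorem ex_77 (T : Models.NumericalType 4)
    (hG : NTGood T)
    (hmax : ∀ j, T.m j ≤ T.m 0)
    (e_0_1 : T.picMatrix 0 1 = 2)
    (e_1_0 : T.picMatrix 1 0 = 1)
    (cl : ∀ a b : Fin 4, a.val < 1 → 3 ≤ b.val → T.picMatrix a b = 0)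
    (z : ∀ a : Fin 4, a.val < 1 → T.picMatrix a 2 = 0)
    (hne : T.picMatrix 1 2 ≠ 0) :
    Goal T := by
  have e_0_2 : T.picMatrix 0 2 = 0 := z 0 (by decide)
  have e_2_0 : T.picMatrix 2 0 = 0 := nt_pic_zero_symm T 0 2 e_0_2
  obtain ⟨hg0, hdA, hdP, hnn, hrow, hsym, hpair⟩ := ntgood_data T (by norm_num) hG
  have hm_0 := T.m_pos 0
  have hw_0 := T.w_pos 0
  have hm_1 := T.m_pos 1
  have hw_1 := T.w_pos 1
  have hm_2 := T.m_pos 2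
  have hw_2 := T.w_pos 2
  have hx_1 := hmax 1
  have hx_2 := hmax 2
  have Z_0_3 := cl 0 3 (by decide) (by decide)
  have N_1_3 := mul_nonneg (hnn 1 3 (by decide)) (T.m_pos 3).le
  have N_2_3 := mul_nonneg (hnn 2 3 (by decide)) (T.m_pos 3).le
  have N_1_2 := mul_nonneg (hnn 1 2 (by decide)) (T.m_pos 2).le
  have N_2_1 := mul_nonneg (hnn 2 1 (by decide)) (T.m_pos 1).le
  have R_0 := hrow 0
  rw [Fin.sum_univ_four, hdP 0, e_0_1, e_0_2, Z_0_3] at R_0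
  have R_1 := hrow 1
  rw [Fin.sum_univ_four, hdP 1, e_1_0] at R_1
  have R_2 := hrow 2
  rw [Fin.sum_univ_four, hdP 2, e_2_0] at R_2
  have S_0_1 := hsym 0 1
  rw [e_0_1, e_1_0] at S_0_1
  have S_0_2 := hsym 0 2
  rw [e_0_2, e_2_0] at S_0_2
  have S_1_2 := hsym 1 2
  have Q_1 := hpair 1 2 (by decide)
  generalize e_1_2 : T.picMatrix 1 2 = x_1 at *
  generalize e_2_1 : T.picMatrix 2 1 = y_1 at *
  rcases Q_1 with ⟨rfl, rfl⟩ | ⟨rfl, rfl⟩ | ⟨rfl, rfl⟩ | ⟨rfl, rfl⟩ | ⟨rfl, rfl⟩ | ⟨rfl, rfl⟩ | ⟨rfl, rfl⟩ | ⟨rfl, rfl⟩ | ⟨rfl, rfl⟩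
  · exact absurd rfl hne
  · -- (1,2) = (1,1)
    exact nd_78 T hG hmax e_0_1 e_0_2 e_1_0 e_1_2 e_2_0 e_2_1 cl
  · -- (1,2) = (1,2)
    exact nd_86 T hG hmax e_0_1 e_0_2 e_1_0 e_1_2 e_2_0 e_2_1 cl
  · -- (1,2) = (2,1)
    exact nd_91 T hG hmax e_0_1 e_0_2 e_1_0 e_1_2 e_2_0 e_2_1 cl
  · -- (1,2) = (1,3)
    omega
  · -- (1,2) = (3,1)
    omega
  · -- (1,2) = (1,4)
    omega
  · -- (1,2) = (4,1)
    omega
  · -- (1,2) = (2,2)
    omega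

theorem nd_75 (T : Models.NumericalType 4)
    (hG : NTGood T)
    (hmax : ∀ j, T.m j ≤ T.m 0)
    (e_0_1 : T.picMatrix 0 1 = 2)
    (e_1_0 : T.picMatrix 1 0 = 1)
    (cl : ∀ a b : Fin 4, a.val < 1 → 2 ≤ b.val → T.picMatrix a b = 0) :
    Goal T := by
  by_cases hc : ∀ b : Fin 4, 2 ≤ b.val → T.picMatrix 1 b = 0
  · exact nd_76 T hG hmax e_0_1 e_1_0 (nt_cl_succ T 2 1 1 rfl cl hc)
  · obtain ⟨τ, hfix, cl', z, hne⟩ := nt_wlog_step T 2 (by norm_num) 1 (by norm_num) 1 (by decide) cl hc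
    apply goal_relabel T τ
    refine ex_77 (ntRelabel T τ) (hG.relabel τ) ?_ ?_ ?_ cl' z hne
    · intro j
      show T.m (τ j) ≤ T.m (τ 0)
      rw [hfix 0 (by decide)]
      exact hmax _
    · show T.picMatrix (τ 0) (τ 1) = 2
      rw [hfix 0 (by decide), hfix 1 (by decide)]
      exact e_0_1
    · show T.picMatrix (τ 1) (τ 0) = 1
      rw [hfix 1 (by decide), hfix 0 (by decide)]
      exact e_1_0

theorem nd_100 (T : Models.NumericalType 4)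
    (hG : NTGood T)
    (hmax : ∀ j, T.m j ≤ T.m 0)
    (e_0_1 : T.picMatrix 0 1 = 2)
    (e_0_2 : T.picMatrix 0 2 = 1)
    (e_1_0 : T.picMatrix 1 0 = 1)
    (e_1_2 : T.picMatrix 1 2 = 0)
    (e_2_0 : T.picMatrix 2 0 = 1)
    (e_2_1 : T.picMatrix 2 1 = 0)
    (cl : ∀ a b : Fin 4, a.val < 3 → 3 ≤ b.val → T.picMatrix a b = 0) :
    Goal T := by
  obtain ⟨hg0, hdA, hdP, hnn, hrow, hsym, hpair⟩ := ntgood_data T (by norm_num) hG
  have hm_0 := T.m_pos 0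
  have hw_0 := T.w_pos 0
  have hm_1 := T.m_pos 1
  have hw_1 := T.w_pos 1
  have hm_2 := T.m_pos 2
  have hw_2 := T.w_pos 2
  have hx_1 := hmax 1
  have hx_2 := hmax 2
  have Z_0_3 := cl 0 3 (by decide) (by decide)
  have Z_1_3 := cl 1 3 (by decide) (by decide)
  have Z_2_3 := cl 2 3 (by decide) (by decide)
  have R_0 := hrow 0
  rw [Fin.sum_univ_four, hdP 0, e_0_1, e_0_2, Z_0_3] at R_0
  have R_1 := hrow 1
  rw [Fin.sum_univ_four, hdP 1, e_1_0, e_1_2, Z_1_3] at R_1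
  have R_2 := hrow 2
  rw [Fin.sum_univ_four, hdP 2, e_2_0, e_2_1, Z_2_3] at R_2
  have S_0_1 := hsym 0 1
  rw [e_0_1, e_1_0] at S_0_1
  have S_0_2 := hsym 0 2
  rw [e_0_2, e_2_0] at S_0_2
  have S_1_2 := hsym 1 2
  rw [e_1_2, e_2_1] at S_1_2
  exfalso
  omega

theorem nd_102 (T : Models.NumericalType 4)
    (hG : NTGood T)
    (hmax : ∀ j, T.m j ≤ T.m 0)
    (e_0_1 : T.picMatrix 0 1 = 2)
    (e_0_2 : T.picMatrix 0 2 = 1)
    (e_0_3 : T.picMatrix 0 3 = 0)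
    (e_1_0 : T.picMatrix 1 0 = 1)
    (e_1_2 : T.picMatrix 1 2 = 0)
    (e_1_3 : T.picMatrix 1 3 = 0)
    (e_2_0 : T.picMatrix 2 0 = 1)
    (e_2_1 : T.picMatrix 2 1 = 0)
    (e_2_3 : T.picMatrix 2 3 = 1)
    (e_3_0 : T.picMatrix 3 0 = 0)
    (e_3_1 : T.picMatrix 3 1 = 0)
    (e_3_2 : T.picMatrix 3 2 = 2)
    (cl : ∀ a b : Fin 4, a.val < 2 → 4 ≤ b.val → T.picMatrix a b = 0) :
    Goal T := by
  obtain ⟨hg0, hdA, hdP, hnn, hrow, hsym, hpair⟩ := ntgood_data T (by norm_num) hG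
  have hm_0 := T.m_pos 0
  have hw_0 := T.w_pos 0
  have hm_1 := T.m_pos 1
  have hw_1 := T.w_pos 1
  have hm_2 := T.m_pos 2
  have hw_2 := T.w_pos 2
  have hm_3 := T.m_pos 3
  have hw_3 := T.w_pos 3
  have hx_1 := hmax 1
  have hx_2 := hmax 2
  have hx_3 := hmax 3
  have R_0 := hrow 0
  rw [Fin.sum_univ_four, hdP 0, e_0_1, e_0_2, e_0_3] at R_0
  have R_1 := hrow 1
  rw [Fin.sum_univ_four, hdP 1, e_1_0, e_1_2, e_1_3] at R_1
  have R_2 := hrow 2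
  rw [Fin.sum_univ_four, hdP 2, e_2_0, e_2_1, e_2_3] at R_2
  have R_3 := hrow 3
  rw [Fin.sum_univ_four, hdP 3, e_3_0, e_3_1, e_3_2] at R_3
  have S_0_1 := hsym 0 1
  rw [e_0_1, e_1_0] at S_0_1
  have S_0_2 := hsym 0 2
  rw [e_0_2, e_2_0] at S_0_2
  have S_0_3 := hsym 0 3
  rw [e_0_3, e_3_0] at S_0_3
  have S_1_2 := hsym 1 2
  rw [e_1_2, e_2_1] at S_1_2
  have S_1_3 := hsym 1 3
  rw [e_1_3, e_3_1] at S_1_3
  have S_2_3 := hsym 2 3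
  rw [e_2_3, e_3_2] at S_2_3
  have D_0 := hdA 0
  have A_0_1 := nt_a_eq T 0 1
  rw [e_0_1] at A_0_1
  have A_0_2 := nt_a_eq T 0 2
  rw [e_0_2] at A_0_2
  have A_0_3 := nt_a_eq T 0 3
  rw [e_0_3] at A_0_3
  have D_1 := hdA 1
  have A_1_0 := nt_a_eq T 1 0
  rw [e_1_0] at A_1_0
  have A_1_2 := nt_a_eq T 1 2
  rw [e_1_2] at A_1_2
  have A_1_3 := nt_a_eq T 1 3
  rw [e_1_3] at A_1_3
  have D_2 := hdA 2
  have A_2_0 := nt_a_eq T 2 0
  rw [e_2_0] at A_2_0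
  have A_2_1 := nt_a_eq T 2 1
  rw [e_2_1] at A_2_1
  have A_2_3 := nt_a_eq T 2 3
  rw [e_2_3] at A_2_3
  have D_3 := hdA 3
  have A_3_0 := nt_a_eq T 3 0
  rw [e_3_0] at A_3_0
  have A_3_1 := nt_a_eq T 3 1
  rw [e_3_1] at A_3_1
  have A_3_2 := nt_a_eq T 3 2
  rw [e_3_2] at A_3_2
  refine goal_of_indices T hg0 3 2 0 1 (by decide) (T.m 1) (T.w 3) ?_
  unfold Goali
  exact Or.inr (Or.inl ⟨by omega, by omega, by omega, by omega, by omega, by omega, by omega, by omega, by omega, by omega, by omega, by omega, by omega, by omega, by omega, by omega, by omega, by omega⟩)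

theorem nd_103 (T : Models.NumericalType 4)
    (hG : NTGood T)
    (hmax : ∀ j, T.m j ≤ T.m 0)
    (e_0_1 : T.picMatrix 0 1 = 2)
    (e_0_2 : T.picMatrix 0 2 = 1)
    (e_0_3 : T.picMatrix 0 3 = 0)
    (e_1_0 : T.picMatrix 1 0 = 1)
    (e_1_2 : T.picMatrix 1 2 = 0)
    (e_1_3 : T.picMatrix 1 3 = 0)
    (e_2_0 : T.picMatrix 2 0 = 1)
    (e_2_1 : T.picMatrix 2 1 = 0)
    (e_2_3 : T.picMatrix 2 3 = 2)
    (e_3_0 : T.picMatrix 3 0 = 0)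
    (e_3_1 : T.picMatrix 3 1 = 0)
    (e_3_2 : T.picMatrix 3 2 = 1)
    (cl : ∀ a b : Fin 4, a.val < 2 → 4 ≤ b.val → T.picMatrix a b = 0) :
    Goal T := by
  obtain ⟨hg0, hdA, hdP, hnn, hrow, hsym, hpair⟩ := ntgood_data T (by norm_num) hG
  have hm_0 := T.m_pos 0
  have hw_0 := T.w_pos 0
  have hm_1 := T.m_pos 1
  have hw_1 := T.w_pos 1
  have hm_2 := T.m_pos 2
  have hw_2 := T.w_pos 2
  have hm_3 := T.m_pos 3
  have hw_3 := T.w_pos 3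
  have hx_1 := hmax 1
  have hx_2 := hmax 2
  have hx_3 := hmax 3
  have R_0 := hrow 0
  rw [Fin.sum_univ_four, hdP 0, e_0_1, e_0_2, e_0_3] at R_0
  have R_1 := hrow 1
  rw [Fin.sum_univ_four, hdP 1, e_1_0, e_1_2, e_1_3] at R_1
  have R_2 := hrow 2
  rw [Fin.sum_univ_four, hdP 2, e_2_0, e_2_1, e_2_3] at R_2
  have R_3 := hrow 3
  rw [Fin.sum_univ_four, hdP 3, e_3_0, e_3_1, e_3_2] at R_3
  have S_0_1 := hsym 0 1
  rw [e_0_1, e_1_0] at S_0_1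
  have S_0_2 := hsym 0 2
  rw [e_0_2, e_2_0] at S_0_2
  have S_0_3 := hsym 0 3
  rw [e_0_3, e_3_0] at S_0_3
  have S_1_2 := hsym 1 2
  rw [e_1_2, e_2_1] at S_1_2
  have S_1_3 := hsym 1 3
  rw [e_1_3, e_3_1] at S_1_3
  have S_2_3 := hsym 2 3
  rw [e_2_3, e_3_2] at S_2_3
  have D_0 := hdA 0
  have A_0_1 := nt_a_eq T 0 1
  rw [e_0_1] at A_0_1
  have A_0_2 := nt_a_eq T 0 2
  rw [e_0_2] at A_0_2
  have A_0_3 := nt_a_eq T 0 3
  rw [e_0_3] at A_0_3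
  have D_1 := hdA 1
  have A_1_0 := nt_a_eq T 1 0
  rw [e_1_0] at A_1_0
  have A_1_2 := nt_a_eq T 1 2
  rw [e_1_2] at A_1_2
  have A_1_3 := nt_a_eq T 1 3
  rw [e_1_3] at A_1_3
  have D_2 := hdA 2
  have A_2_0 := nt_a_eq T 2 0
  rw [e_2_0] at A_2_0
  have A_2_1 := nt_a_eq T 2 1
  rw [e_2_1] at A_2_1
  have A_2_3 := nt_a_eq T 2 3
  rw [e_2_3] at A_2_3
  have D_3 := hdA 3
  have A_3_0 := nt_a_eq T 3 0
  rw [e_3_0] at A_3_0
  have A_3_1 := nt_a_eq T 3 1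
  rw [e_3_1] at A_3_1
  have A_3_2 := nt_a_eq T 3 2
  rw [e_3_2] at A_3_2
  refine goal_of_indices T hg0 1 0 2 3 (by decide) (T.m 1) (T.w 0) ?_
  unfold Goali
  exact Or.inr (Or.inr (Or.inr (Or.inl ⟨by omega, by omega, by omega, by omega, by omega, by omega, by omega, by omega, by omega, by omega, by omega, by omega, by omega, by omega, by omega, by omega, by omega, by omega⟩)))

theorem ex_101 (T : Models.NumericalType 4)
    (hG : NTGood T)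
    (hmax : ∀ j, T.m j ≤ T.m 0)
    (e_0_1 : T.picMatrix 0 1 = 2)
    (e_0_2 : T.picMatrix 0 2 = 1)
    (e_1_0 : T.picMatrix 1 0 = 1)
    (e_1_2 : T.picMatrix 1 2 = 0)
    (e_2_0 : T.picMatrix 2 0 = 1)
    (e_2_1 : T.picMatrix 2 1 = 0)
    (cl : ∀ a b : Fin 4, a.val < 2 → 4 ≤ b.val → T.picMatrix a b = 0)
    (z : ∀ a : Fin 4, a.val < 2 → T.picMatrix a 3 = 0)
    (hne : T.picMatrix 2 3 ≠ 0) :
    Goal T := by
  have e_0_3 : T.picMatrix 0 3 = 0 := z 0 (by decide)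
  have e_3_0 : T.picMatrix 3 0 = 0 := nt_pic_zero_symm T 0 3 e_0_3
  have e_1_3 : T.picMatrix 1 3 = 0 := z 1 (by decide)
  have e_3_1 : T.picMatrix 3 1 = 0 := nt_pic_zero_symm T 1 3 e_1_3
  obtain ⟨hg0, hdA, hdP, hnn, hrow, hsym, hpair⟩ := ntgood_data T (by norm_num) hG
  have hm_0 := T.m_pos 0
  have hw_0 := T.w_pos 0
  have hm_1 := T.m_pos 1
  have hw_1 := T.w_pos 1
  have hm_2 := T.m_pos 2
  have hw_2 := T.w_pos 2
  have hm_3 := T.m_pos 3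
  have hw_3 := T.w_pos 3
  have hx_1 := hmax 1
  have hx_2 := hmax 2
  have hx_3 := hmax 3
  have N_2_3 := mul_nonneg (hnn 2 3 (by decide)) (T.m_pos 3).le
  have N_3_2 := mul_nonneg (hnn 3 2 (by decide)) (T.m_pos 2).le
  have R_0 := hrow 0
  rw [Fin.sum_univ_four, hdP 0, e_0_1, e_0_2, e_0_3] at R_0
  have R_1 := hrow 1
  rw [Fin.sum_univ_four, hdP 1, e_1_0, e_1_2, e_1_3] at R_1
  have R_2 := hrow 2
  rw [Fin.sum_univ_four, hdP 2, e_2_0, e_2_1] at R_2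
  have R_3 := hrow 3
  rw [Fin.sum_univ_four, hdP 3, e_3_0, e_3_1] at R_3
  have S_0_1 := hsym 0 1
  rw [e_0_1, e_1_0] at S_0_1
  have S_0_2 := hsym 0 2
  rw [e_0_2, e_2_0] at S_0_2
  have S_0_3 := hsym 0 3
  rw [e_0_3, e_3_0] at S_0_3
  have S_1_2 := hsym 1 2
  rw [e_1_2, e_2_1] at S_1_2
  have S_1_3 := hsym 1 3
  rw [e_1_3, e_3_1] at S_1_3
  have S_2_3 := hsym 2 3
  have Q_2 := hpair 2 3 (by decide)
  generalize e_2_3 : T.picMatrix 2 3 = x_2 at *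
  generalize e_3_2 : T.picMatrix 3 2 = y_2 at *
  rcases Q_2 with ⟨rfl, rfl⟩ | ⟨rfl, rfl⟩ | ⟨rfl, rfl⟩ | ⟨rfl, rfl⟩ | ⟨rfl, rfl⟩ | ⟨rfl, rfl⟩ | ⟨rfl, rfl⟩ | ⟨rfl, rfl⟩ | ⟨rfl, rfl⟩
  · exact absurd rfl hne
  · -- (2,3) = (1,1)
    omega
  · -- (2,3) = (1,2)
    exact nd_102 T hG hmax e_0_1 e_0_2 e_0_3 e_1_0 e_1_2 e_1_3 e_2_0 e_2_1 e_2_3 e_3_0 e_3_1 e_3_2 cl
  · -- (2,3) = (2,1)
    exact nd_103 T hG hmax e_0_1 e_0_2 e_0_3 e_1_0 e_1_2 e_1_3 e_2_0 e_2_1 e_2_3 e_3_0 e_3_1 e_3_2 cl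
  · -- (2,3) = (1,3)
    omega
  · -- (2,3) = (3,1)
    omega
  · -- (2,3) = (1,4)
    omega
  · -- (2,3) = (4,1)
    omega
  · -- (2,3) = (2,2)
    omega

theorem nd_99 (T : Models.NumericalType 4)
    (hG : NTGood T)
    (hmax : ∀ j, T.m j ≤ T.m 0)
    (e_0_1 : T.picMatrix 0 1 = 2)
    (e_0_2 : T.picMatrix 0 2 = 1)
    (e_1_0 : T.picMatrix 1 0 = 1)
    (e_1_2 : T.picMatrix 1 2 = 0)
    (e_2_0 : T.picMatrix 2 0 = 1)
    (e_2_1 : T.picMatrix 2 1 = 0)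
    (cl : ∀ a b : Fin 4, a.val < 2 → 3 ≤ b.val → T.picMatrix a b = 0) :
    Goal T := by
  by_cases hc : ∀ b : Fin 4, 3 ≤ b.val → T.picMatrix 2 b = 0
  · exact nd_100 T hG hmax e_0_1 e_0_2 e_1_0 e_1_2 e_2_0 e_2_1 (nt_cl_succ T 3 2 2 rfl cl hc)
  · obtain ⟨τ, hfix, cl', z, hne⟩ := nt_wlog_step T 3 (by norm_num) 2 (by norm_num) 2 (by decide) cl hc
    apply goal_relabel T τ
    refine ex_101 (ntRelabel T τ) (hG.relabel τ) ?_ ?_ ?_ ?_ ?_ ?_ ?_ cl' z hne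
    · intro j
      show T.m (τ j) ≤ T.m (τ 0)
      rw [hfix 0 (by decide)]
      exact hmax _
    · show T.picMatrix (τ 0) (τ 1) = 2
      rw [hfix 0 (by decide), hfix 1 (by decide)]
      exact e_0_1
    · show T.picMatrix (τ 0) (τ 2) = 1
      rw [hfix 0 (by decide), hfix 2 (by decide)]
      exact e_0_2
    · show T.picMatrix (τ 1) (τ 0) = 1
      rw [hfix 1 (by decide), hfix 0 (by decide)]
      exact e_1_0
    · show T.picMatrix (τ 1) (τ 2) = 0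
      rw [hfix 1 (by decide), hfix 2 (by decide)]
      exact e_1_2
    · show T.picMatrix (τ 2) (τ 0) = 1
      rw [hfix 2 (by decide), hfix 0 (by decide)]
      exact e_2_0
    · show T.picMatrix (τ 2) (τ 1) = 0
      rw [hfix 2 (by decide), hfix 1 (by decide)]
      exact e_2_1

theorem ex_104 (T : Models.NumericalType 4)
    (hG : NTGood T)
    (hmax : ∀ j, T.m j ≤ T.m 0)
    (e_0_1 : T.picMatrix 0 1 = 2)
    (e_0_2 : T.picMatrix 0 2 = 1)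
    (e_1_0 : T.picMatrix 1 0 = 1)
    (e_1_2 : T.picMatrix 1 2 = 0)
    (e_2_0 : T.picMatrix 2 0 = 1)
    (e_2_1 : T.picMatrix 2 1 = 0)
    (cl : ∀ a b : Fin 4, a.val < 1 → 4 ≤ b.val → T.picMatrix a b = 0)
    (z : ∀ a : Fin 4, a.val < 1 → T.picMatrix a 3 = 0)
    (hne : T.picMatrix 1 3 ≠ 0) :
    Goal T := by
  have e_0_3 : T.picMatrix 0 3 = 0 := z 0 (by decide)
  have e_3_0 : T.picMatrix 3 0 = 0 := nt_pic_zero_symm T 0 3 e_0_3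
  obtain ⟨hg0, hdA, hdP, hnn, hrow, hsym, hpair⟩ := ntgood_data T (by norm_num) hG
  have hm_0 := T.m_pos 0
  have hw_0 := T.w_pos 0
  have hm_1 := T.m_pos 1
  have hw_1 := T.w_pos 1
  have hm_2 := T.m_pos 2
  have hw_2 := T.w_pos 2
  have hm_3 := T.m_pos 3
  have hw_3 := T.w_pos 3
  have hx_1 := hmax 1
  have hx_2 := hmax 2
  have hx_3 := hmax 3
  have N_1_3 := mul_nonneg (hnn 1 3 (by decide)) (T.m_pos 3).le
  have N_3_1 := mul_nonneg (hnn 3 1 (by decide)) (T.m_pos 1).le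
  have N_2_3 := mul_nonneg (hnn 2 3 (by decide)) (T.m_pos 3).le
  have N_3_2 := mul_nonneg (hnn 3 2 (by decide)) (T.m_pos 2).le
  have R_0 := hrow 0
  rw [Fin.sum_univ_four, hdP 0, e_0_1, e_0_2, e_0_3] at R_0
  have R_1 := hrow 1
  rw [Fin.sum_univ_four, hdP 1, e_1_0, e_1_2] at R_1
  have R_2 := hrow 2
  rw [Fin.sum_univ_four, hdP 2, e_2_0, e_2_1] at R_2
  have R_3 := hrow 3
  rw [Fin.sum_univ_four, hdP 3, e_3_0] at R_3
  have S_0_1 := hsym 0 1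
  rw [e_0_1, e_1_0] at S_0_1
  have S_0_2 := hsym 0 2
  rw [e_0_2, e_2_0] at S_0_2
  have S_0_3 := hsym 0 3
  rw [e_0_3, e_3_0] at S_0_3
  have S_1_2 := hsym 1 2
  rw [e_1_2, e_2_1] at S_1_2
  have S_1_3 := hsym 1 3
  have S_2_3 := hsym 2 3
  have Q_1 := hpair 1 3 (by decide)
  have Q_2 := hpair 2 3 (by decide)
  generalize e_1_3 : T.picMatrix 1 3 = x_1 at *
  generalize e_3_1 : T.picMatrix 3 1 = y_1 at *
  generalize e_2_3 : T.picMatrix 2 3 = x_2 at *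
  generalize e_3_2 : T.picMatrix 3 2 = y_2 at *
  rcases Q_1 with ⟨rfl, rfl⟩ | ⟨rfl, rfl⟩ | ⟨rfl, rfl⟩ | ⟨rfl, rfl⟩ | ⟨rfl, rfl⟩ | ⟨rfl, rfl⟩ | ⟨rfl, rfl⟩ | ⟨rfl, rfl⟩ | ⟨rfl, rfl⟩
  · exact absurd rfl hne
  · -- (1,3) = (1,1)
    rcases Q_2 with ⟨rfl, rfl⟩ | ⟨rfl, rfl⟩ | ⟨rfl, rfl⟩ | ⟨rfl, rfl⟩ | ⟨rfl, rfl⟩ | ⟨rfl, rfl⟩ | ⟨rfl, rfl⟩ | ⟨rfl, rfl⟩ | ⟨rfl, rfl⟩
    · -- (2,3) = (0,0)
      omega
    · -- (2,3) = (1,1)
      omega
    · -- (2,3) = (1,2)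
      omega
    · -- (2,3) = (2,1)
      omega
    · -- (2,3) = (1,3)
      omega
    · -- (2,3) = (3,1)
      omega
    · -- (2,3) = (1,4)
      omega
    · -- (2,3) = (4,1)
      omega
    · -- (2,3) = (2,2)
      omega
  · omega
  · omega
  · omega
  · omega
  · omega
  · omega
  · omega

theorem nd_98 (T : Models.NumericalType 4)
    (hG : NTGood T)
    (hmax : ∀ j, T.m j ≤ T.m 0)
    (e_0_1 : T.picMatrix 0 1 = 2)
    (e_0_2 : T.picMatrix 0 2 = 1)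
    (e_1_0 : T.picMatrix 1 0 = 1)
    (e_1_2 : T.picMatrix 1 2 = 0)
    (e_2_0 : T.picMatrix 2 0 = 1)
    (e_2_1 : T.picMatrix 2 1 = 0)
    (cl : ∀ a b : Fin 4, a.val < 1 → 3 ≤ b.val → T.picMatrix a b = 0) :
    Goal T := by
  by_cases hc : ∀ b : Fin 4, 3 ≤ b.val → T.picMatrix 1 b = 0
  · exact nd_99 T hG hmax e_0_1 e_0_2 e_1_0 e_1_2 e_2_0 e_2_1 (nt_cl_succ T 3 1 1 rfl cl hc)
  · obtain ⟨τ, hfix, cl', z, hne⟩ := nt_wlog_step T 3 (by norm_num) 1 (by norm_num) 1 (by decide) cl hc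
    apply goal_relabel T τ
    refine ex_104 (ntRelabel T τ) (hG.relabel τ) ?_ ?_ ?_ ?_ ?_ ?_ ?_ cl' z hne
    · intro j
      show T.m (τ j) ≤ T.m (τ 0)
      rw [hfix 0 (by decide)]
      exact hmax _
    · show T.picMatrix (τ 0) (τ 1) = 2
      rw [hfix 0 (by decide), hfix 1 (by decide)]
      exact e_0_1
    · show T.picMatrix (τ 0) (τ 2) = 1
      rw [hfix 0 (by decide), hfix 2 (by decide)]
      exact e_0_2
    · show T.picMatrix (τ 1) (τ 0) = 1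
      rw [hfix 1 (by decide), hfix 0 (by decide)]
      exact e_1_0
    · show T.picMatrix (τ 1) (τ 2) = 0
      rw [hfix 1 (by decide), hfix 2 (by decide)]
      exact e_1_2
    · show T.picMatrix (τ 2) (τ 0) = 1
      rw [hfix 2 (by decide), hfix 0 (by decide)]
      exact e_2_0
    · show T.picMatrix (τ 2) (τ 1) = 0
      rw [hfix 2 (by decide), hfix 1 (by decide)]
      exact e_2_1

theorem nd_106 (T : Models.NumericalType 4)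
    (hG : NTGood T)
    (hmax : ∀ j, T.m j ≤ T.m 0)
    (e_0_1 : T.picMatrix 0 1 = 2)
    (e_0_2 : T.picMatrix 0 2 = 1)
    (e_0_3 : T.picMatrix 0 3 = 1)
    (e_1_0 : T.picMatrix 1 0 = 1)
    (e_1_2 : T.picMatrix 1 2 = 0)
    (e_1_3 : T.picMatrix 1 3 = 0)
    (e_2_0 : T.picMatrix 2 0 = 1)
    (e_2_1 : T.picMatrix 2 1 = 0)
    (e_2_3 : T.picMatrix 2 3 = 0)
    (e_3_0 : T.picMatrix 3 0 = 1)
    (e_3_1 : T.picMatrix 3 1 = 0)
    (e_3_2 : T.picMatrix 3 2 = 0)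
    (cl : ∀ a b : Fin 4, a.val < 0 → 4 ≤ b.val → T.picMatrix a b = 0) :
    Goal T := by
  obtain ⟨hg0, hdA, hdP, hnn, hrow, hsym, hpair⟩ := ntgood_data T (by norm_num) hG
  have hm_0 := T.m_pos 0
  have hw_0 := T.w_pos 0
  have hm_1 := T.m_pos 1
  have hw_1 := T.w_pos 1
  have hm_2 := T.m_pos 2
  have hw_2 := T.w_pos 2
  have hm_3 := T.m_pos 3
  have hw_3 := T.w_pos 3
  have hx_1 := hmax 1
  have hx_2 := hmax 2
  have hx_3 := hmax 3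
  have R_0 := hrow 0
  rw [Fin.sum_univ_four, hdP 0, e_0_1, e_0_2, e_0_3] at R_0
  have R_1 := hrow 1
  rw [Fin.sum_univ_four, hdP 1, e_1_0, e_1_2, e_1_3] at R_1
  have R_2 := hrow 2
  rw [Fin.sum_univ_four, hdP 2, e_2_0, e_2_1, e_2_3] at R_2
  have R_3 := hrow 3
  rw [Fin.sum_univ_four, hdP 3, e_3_0, e_3_1, e_3_2] at R_3
  have S_0_1 := hsym 0 1
  rw [e_0_1, e_1_0] at S_0_1
  have S_0_2 := hsym 0 2
  rw [e_0_2, e_2_0] at S_0_2
  have S_0_3 := hsym 0 3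
  rw [e_0_3, e_3_0] at S_0_3
  have S_1_2 := hsym 1 2
  rw [e_1_2, e_2_1] at S_1_2
  have S_1_3 := hsym 1 3
  rw [e_1_3, e_3_1] at S_1_3
  have S_2_3 := hsym 2 3
  rw [e_2_3, e_3_2] at S_2_3
  have D_0 := hdA 0
  have A_0_1 := nt_a_eq T 0 1
  rw [e_0_1] at A_0_1
  have A_0_2 := nt_a_eq T 0 2
  rw [e_0_2] at A_0_2
  have A_0_3 := nt_a_eq T 0 3
  rw [e_0_3] at A_0_3
  have D_1 := hdA 1
  have A_1_0 := nt_a_eq T 1 0
  rw [e_1_0] at A_1_0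
  have A_1_2 := nt_a_eq T 1 2
  rw [e_1_2] at A_1_2
  have A_1_3 := nt_a_eq T 1 3
  rw [e_1_3] at A_1_3
  have D_2 := hdA 2
  have A_2_0 := nt_a_eq T 2 0
  rw [e_2_0] at A_2_0
  have A_2_1 := nt_a_eq T 2 1
  rw [e_2_1] at A_2_1
  have A_2_3 := nt_a_eq T 2 3
  rw [e_2_3] at A_2_3
  have D_3 := hdA 3
  have A_3_0 := nt_a_eq T 3 0
  rw [e_3_0] at A_3_0
  have A_3_1 := nt_a_eq T 3 1
  rw [e_3_1] at A_3_1
  have A_3_2 := nt_a_eq T 3 2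
  rw [e_3_2] at A_3_2
  refine goal_of_indices T hg0 0 2 3 1 (by decide) (T.m 2) (T.w 0) ?_
  unfold Goali
  exact Or.inr (Or.inr (Or.inr (Or.inr (Or.inl ⟨by omega, by omega, by omega, by omega, by omega, by omega, by omega, by omega, by omega, by omega, by omega, by omega, by omega, by omega, by omega, by omega, by omega, by omega⟩))))

theorem ex_105 (T : Models.NumericalType 4)
    (hG : NTGood T)
    (hmax : ∀ j, T.m j ≤ T.m 0)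
    (e_0_1 : T.picMatrix 0 1 = 2)
    (e_0_2 : T.picMatrix 0 2 = 1)
    (e_1_0 : T.picMatrix 1 0 = 1)
    (e_1_2 : T.picMatrix 1 2 = 0)
    (e_2_0 : T.picMatrix 2 0 = 1)
    (e_2_1 : T.picMatrix 2 1 = 0)
    (cl : ∀ a b : Fin 4, a.val < 0 → 4 ≤ b.val → T.picMatrix a b = 0)
    (z : ∀ a : Fin 4, a.val < 0 → T.picMatrix a 3 = 0)
    (hne : T.picMatrix 0 3 ≠ 0) :
    Goal T := by
  obtain ⟨hg0, hdA, hdP, hnn, hrow, hsym, hpair⟩ := ntgood_data T (by norm_num) hG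
  have hm_0 := T.m_pos 0
  have hw_0 := T.w_pos 0
  have hm_1 := T.m_pos 1
  have hw_1 := T.w_pos 1
  have hm_2 := T.m_pos 2
  have hw_2 := T.w_pos 2
  have hm_3 := T.m_pos 3
  have hw_3 := T.w_pos 3
  have hx_1 := hmax 1
  have hx_2 := hmax 2
  have hx_3 := hmax 3
  have N_0_3 := mul_nonneg (hnn 0 3 (by decide)) (T.m_pos 3).le
  have N_3_0 := mul_nonneg (hnn 3 0 (by decide)) (T.m_pos 0).le
  have N_1_3 := mul_nonneg (hnn 1 3 (by decide)) (T.m_pos 3).le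
  have N_3_1 := mul_nonneg (hnn 3 1 (by decide)) (T.m_pos 1).le
  have N_2_3 := mul_nonneg (hnn 2 3 (by decide)) (T.m_pos 3).le
  have N_3_2 := mul_nonneg (hnn 3 2 (by decide)) (T.m_pos 2).le
  have R_0 := hrow 0
  rw [Fin.sum_univ_four, hdP 0, e_0_1, e_0_2] at R_0
  have R_1 := hrow 1
  rw [Fin.sum_univ_four, hdP 1, e_1_0, e_1_2] at R_1
  have R_2 := hrow 2
  rw [Fin.sum_univ_four, hdP 2, e_2_0, e_2_1] at R_2
  have R_3 := hrow 3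
  rw [Fin.sum_univ_four, hdP 3] at R_3
  have S_0_1 := hsym 0 1
  rw [e_0_1, e_1_0] at S_0_1
  have S_0_2 := hsym 0 2
  rw [e_0_2, e_2_0] at S_0_2
  have S_0_3 := hsym 0 3
  have S_1_2 := hsym 1 2
  rw [e_1_2, e_2_1] at S_1_2
  have S_1_3 := hsym 1 3
  have S_2_3 := hsym 2 3
  have Q_0 := hpair 0 3 (by decide)
  have Q_1 := hpair 1 3 (by decide)
  have Q_2 := hpair 2 3 (by decide)
  generalize e_0_3 : T.picMatrix 0 3 = x_0 at *
  generalize e_3_0 : T.picMatrix 3 0 = y_0 at *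
  generalize e_1_3 : T.picMatrix 1 3 = x_1 at *
  generalize e_3_1 : T.picMatrix 3 1 = y_1 at *
  generalize e_2_3 : T.picMatrix 2 3 = x_2 at *
  generalize e_3_2 : T.picMatrix 3 2 = y_2 at *
  rcases Q_0 with ⟨rfl, rfl⟩ | ⟨rfl, rfl⟩ | ⟨rfl, rfl⟩ | ⟨rfl, rfl⟩ | ⟨rfl, rfl⟩ | ⟨rfl, rfl⟩ | ⟨rfl, rfl⟩ | ⟨rfl, rfl⟩ | ⟨rfl, rfl⟩
  · exact absurd rfl hne
  · -- (0,3) = (1,1)
    rcases Q_1 with ⟨rfl, rfl⟩ | ⟨rfl, rfl⟩ | ⟨rfl, rfl⟩ | ⟨rfl, rfl⟩ | ⟨rfl, rfl⟩ | ⟨rfl, rfl⟩ | ⟨rfl, rfl⟩ | ⟨rfl, rfl⟩ | ⟨rfl, rfl⟩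
    · -- (1,3) = (0,0)
      rcases Q_2 with ⟨rfl, rfl⟩ | ⟨rfl, rfl⟩ | ⟨rfl, rfl⟩ | ⟨rfl, rfl⟩ | ⟨rfl, rfl⟩ | ⟨rfl, rfl⟩ | ⟨rfl, rfl⟩ | ⟨rfl, rfl⟩ | ⟨rfl, rfl⟩
      · -- (2,3) = (0,0)
        exact nd_106 T hG hmax e_0_1 e_0_2 e_0_3 e_1_0 e_1_2 e_1_3 e_2_0 e_2_1 e_2_3 e_3_0 e_3_1 e_3_2 cl
      · -- (2,3) = (1,1)
        omega
      · -- (2,3) = (1,2)
        omega
      · -- (2,3) = (2,1)
        omega
      · -- (2,3) = (1,3)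
        omega
      · -- (2,3) = (3,1)
        omega
      · -- (2,3) = (1,4)
        omega
      · -- (2,3) = (4,1)
        omega
      · -- (2,3) = (2,2)
        omega
    · omega
    · omega
    · omega
    · omega
    · omega
    · omega
    · omega
    · omega
  · omega
  · omega
  · omega
  · omega
  · omega
  · omega
  · omega

theorem nd_97 (T : Models.NumericalType 4)
    (hG : NTGood T)
    (hmax : ∀ j, T.m j ≤ T.m 0)
    (e_0_1 : T.picMatrix 0 1 = 2)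
    (e_0_2 : T.picMatrix 0 2 = 1)
    (e_1_0 : T.picMatrix 1 0 = 1)
    (e_1_2 : T.picMatrix 1 2 = 0)
    (e_2_0 : T.picMatrix 2 0 = 1)
    (e_2_1 : T.picMatrix 2 1 = 0)
    (cl : ∀ a b : Fin 4, a.val < 0 → 3 ≤ b.val → T.picMatrix a b = 0) :
    Goal T := by
  by_cases hc : ∀ b : Fin 4, 3 ≤ b.val → T.picMatrix 0 b = 0
  · exact nd_98 T hG hmax e_0_1 e_0_2 e_1_0 e_1_2 e_2_0 e_2_1 (nt_cl_succ T 3 0 0 rfl cl hc)
  · obtain ⟨τ, hfix, cl', z, hne⟩ := nt_wlog_step T 3 (by norm_num) 0 (by norm_num) 0 (by decide) cl hc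
    apply goal_relabel T τ
    refine ex_105 (ntRelabel T τ) (hG.relabel τ) ?_ ?_ ?_ ?_ ?_ ?_ ?_ cl' z hne
    · intro j
      show T.m (τ j) ≤ T.m (τ 0)
      rw [hfix 0 (by decide)]
      exact hmax _
    · show T.picMatrix (τ 0) (τ 1) = 2
      rw [hfix 0 (by decide), hfix 1 (by decide)]
      exact e_0_1
    · show T.picMatrix (τ 0) (τ 2) = 1
      rw [hfix 0 (by decide), hfix 2 (by decide)]
      exact e_0_2
    · show T.picMatrix (τ 1) (τ 0) = 1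
      rw [hfix 1 (by decide), hfix 0 (by decide)]
      exact e_1_0
    · show T.picMatrix (τ 1) (τ 2) = 0
      rw [hfix 1 (by decide), hfix 2 (by decide)]
      exact e_1_2
    · show T.picMatrix (τ 2) (τ 0) = 1
      rw [hfix 2 (by decide), hfix 0 (by decide)]
      exact e_2_0
    · show T.picMatrix (τ 2) (τ 1) = 0
      rw [hfix 2 (by decide), hfix 1 (by decide)]
      exact e_2_1

theorem nd_110 (T : Models.NumericalType 4)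
    (hG : NTGood T)
    (hmax : ∀ j, T.m j ≤ T.m 0)
    (e_0_1 : T.picMatrix 0 1 = 2)
    (e_0_2 : T.picMatrix 0 2 = 1)
    (e_1_0 : T.picMatrix 1 0 = 1)
    (e_1_2 : T.picMatrix 1 2 = 0)
    (e_2_0 : T.picMatrix 2 0 = 2)
    (e_2_1 : T.picMatrix 2 1 = 0)
    (cl : ∀ a b : Fin 4, a.val < 3 → 3 ≤ b.val → T.picMatrix a b = 0) :
    Goal T := by
  exact (nt_closed_false T 3 (by norm_num) (by norm_num) cl).elim

theorem ex_111 (T : Models.NumericalType 4)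
    (hG : NTGood T)
    (hmax : ∀ j, T.m j ≤ T.m 0)
    (e_0_1 : T.picMatrix 0 1 = 2)
    (e_0_2 : T.picMatrix 0 2 = 1)
    (e_1_0 : T.picMatrix 1 0 = 1)
    (e_1_2 : T.picMatrix 1 2 = 0)
    (e_2_0 : T.picMatrix 2 0 = 2)
    (e_2_1 : T.picMatrix 2 1 = 0)
    (cl : ∀ a b : Fin 4, a.val < 2 → 4 ≤ b.val → T.picMatrix a b = 0)
    (z : ∀ a : Fin 4, a.val < 2 → T.picMatrix a 3 = 0)
    (hne : T.picMatrix 2 3 ≠ 0) :
    Goal T := by
  have e_0_3 : T.picMatrix 0 3 = 0 := z 0 (by decide)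
  have e_3_0 : T.picMatrix 3 0 = 0 := nt_pic_zero_symm T 0 3 e_0_3
  have e_1_3 : T.picMatrix 1 3 = 0 := z 1 (by decide)
  have e_3_1 : T.picMatrix 3 1 = 0 := nt_pic_zero_symm T 1 3 e_1_3
  obtain ⟨hg0, hdA, hdP, hnn, hrow, hsym, hpair⟩ := ntgood_data T (by norm_num) hG
  have hm_0 := T.m_pos 0
  have hw_0 := T.w_pos 0
  have hm_1 := T.m_pos 1
  have hw_1 := T.w_pos 1
  have hm_2 := T.m_pos 2
  have hw_2 := T.w_pos 2
  have hm_3 := T.m_pos 3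
  have hw_3 := T.w_pos 3
  have hx_1 := hmax 1
  have hx_2 := hmax 2
  have hx_3 := hmax 3
  have N_2_3 := mul_nonneg (hnn 2 3 (by decide)) (T.m_pos 3).le
  have N_3_2 := mul_nonneg (hnn 3 2 (by decide)) (T.m_pos 2).le
  have R_0 := hrow 0
  rw [Fin.sum_univ_four, hdP 0, e_0_1, e_0_2, e_0_3] at R_0
  have R_1 := hrow 1
  rw [Fin.sum_univ_four, hdP 1, e_1_0, e_1_2, e_1_3] at R_1
  have R_2 := hrow 2
  rw [Fin.sum_univ_four, hdP 2, e_2_0, e_2_1] at R_2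
  have R_3 := hrow 3
  rw [Fin.sum_univ_four, hdP 3, e_3_0, e_3_1] at R_3
  have S_0_1 := hsym 0 1
  rw [e_0_1, e_1_0] at S_0_1
  have S_0_2 := hsym 0 2
  rw [e_0_2, e_2_0] at S_0_2
  have S_0_3 := hsym 0 3
  rw [e_0_3, e_3_0] at S_0_3
  have S_1_2 := hsym 1 2
  rw [e_1_2, e_2_1] at S_1_2
  have S_1_3 := hsym 1 3
  rw [e_1_3, e_3_1] at S_1_3
  have S_2_3 := hsym 2 3
  have Q_2 := hpair 2 3 (by decide)
  generalize e_2_3 : T.picMatrix 2 3 = x_2 at *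
  generalize e_3_2 : T.picMatrix 3 2 = y_2 at *
  rcases Q_2 with ⟨rfl, rfl⟩ | ⟨rfl, rfl⟩ | ⟨rfl, rfl⟩ | ⟨rfl, rfl⟩ | ⟨rfl, rfl⟩ | ⟨rfl, rfl⟩ | ⟨rfl, rfl⟩ | ⟨rfl, rfl⟩ | ⟨rfl, rfl⟩
  · exact absurd rfl hne
  · -- (2,3) = (1,1)
    omega
  · -- (2,3) = (1,2)
    omega
  · -- (2,3) = (2,1)
    omega
  · -- (2,3) = (1,3)
    omega
  · -- (2,3) = (3,1)
    omega
  · -- (2,3) = (1,4)
    omega
  · -- (2,3) = (4,1)
    omega
  · -- (2,3) = (2,2)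
    omega

theorem nd_109 (T : Models.NumericalType 4)
    (hG : NTGood T)
    (hmax : ∀ j, T.m j ≤ T.m 0)
    (e_0_1 : T.picMatrix 0 1 = 2)
    (e_0_2 : T.picMatrix 0 2 = 1)
    (e_1_0 : T.picMatrix 1 0 = 1)
    (e_1_2 : T.picMatrix 1 2 = 0)
    (e_2_0 : T.picMatrix 2 0 = 2)
    (e_2_1 : T.picMatrix 2 1 = 0)
    (cl : ∀ a b : Fin 4, a.val < 2 → 3 ≤ b.val → T.picMatrix a b = 0) :
    Goal T := by
  by_cases hc : ∀ b : Fin 4, 3 ≤ b.val → T.picMatrix 2 b = 0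
  · exact nd_110 T hG hmax e_0_1 e_0_2 e_1_0 e_1_2 e_2_0 e_2_1 (nt_cl_succ T 3 2 2 rfl cl hc)
  · obtain ⟨τ, hfix, cl', z, hne⟩ := nt_wlog_step T 3 (by norm_num) 2 (by norm_num) 2 (by decide) cl hc
    apply goal_relabel T τ
    refine ex_111 (ntRelabel T τ) (hG.relabel τ) ?_ ?_ ?_ ?_ ?_ ?_ ?_ cl' z hne
    · intro j
      show T.m (τ j) ≤ T.m (τ 0)
      rw [hfix 0 (by decide)]
      exact hmax _
    · show T.picMatrix (τ 0) (τ 1) = 2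
      rw [hfix 0 (by decide), hfix 1 (by decide)]
      exact e_0_1
    · show T.picMatrix (τ 0) (τ 2) = 1
      rw [hfix 0 (by decide), hfix 2 (by decide)]
      exact e_0_2
    · show T.picMatrix (τ 1) (τ 0) = 1
      rw [hfix 1 (by decide), hfix 0 (by decide)]
      exact e_1_0
    · show T.picMatrix (τ 1) (τ 2) = 0
      rw [hfix 1 (by decide), hfix 2 (by decide)]
      exact e_1_2
    · show T.picMatrix (τ 2) (τ 0) = 2
      rw [hfix 2 (by decide), hfix 0 (by decide)]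
      exact e_2_0
    · show T.picMatrix (τ 2) (τ 1) = 0
      rw [hfix 2 (by decide), hfix 1 (by decide)]
      exact e_2_1

theorem ex_112 (T : Models.NumericalType 4)
    (hG : NTGood T)
    (hmax : ∀ j, T.m j ≤ T.m 0)
    (e_0_1 : T.picMatrix 0 1 = 2)
    (e_0_2 : T.picMatrix 0 2 = 1)
    (e_1_0 : T.picMatrix 1 0 = 1)
    (e_1_2 : T.picMatrix 1 2 = 0)
    (e_2_0 : T.picMatrix 2 0 = 2)
    (e_2_1 : T.picMatrix 2 1 = 0)
    (cl : ∀ a b : Fin 4, a.val < 1 → 4 ≤ b.val → T.picMatrix a b = 0)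
    (z : ∀ a : Fin 4, a.val < 1 → T.picMatrix a 3 = 0)
    (hne : T.picMatrix 1 3 ≠ 0) :
    Goal T := by
  have e_0_3 : T.picMatrix 0 3 = 0 := z 0 (by decide)
  have e_3_0 : T.picMatrix 3 0 = 0 := nt_pic_zero_symm T 0 3 e_0_3
  obtain ⟨hg0, hdA, hdP, hnn, hrow, hsym, hpair⟩ := ntgood_data T (by norm_num) hG
  have hm_0 := T.m_pos 0
  have hw_0 := T.w_pos 0
  have hm_1 := T.m_pos 1
  have hw_1 := T.w_pos 1
  have hm_2 := T.m_pos 2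
  have hw_2 := T.w_pos 2
  have hm_3 := T.m_pos 3
  have hw_3 := T.w_pos 3
  have hx_1 := hmax 1
  have hx_2 := hmax 2
  have hx_3 := hmax 3
  have N_1_3 := mul_nonneg (hnn 1 3 (by decide)) (T.m_pos 3).le
  have N_3_1 := mul_nonneg (hnn 3 1 (by decide)) (T.m_pos 1).le
  have N_2_3 := mul_nonneg (hnn 2 3 (by decide)) (T.m_pos 3).le
  have N_3_2 := mul_nonneg (hnn 3 2 (by decide)) (T.m_pos 2).le
  have R_0 := hrow 0
  rw [Fin.sum_univ_four, hdP 0, e_0_1, e_0_2, e_0_3] at R_0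
  have R_1 := hrow 1
  rw [Fin.sum_univ_four, hdP 1, e_1_0, e_1_2] at R_1
  have R_2 := hrow 2
  rw [Fin.sum_univ_four, hdP 2, e_2_0, e_2_1] at R_2
  have R_3 := hrow 3
  rw [Fin.sum_univ_four, hdP 3, e_3_0] at R_3
  have S_0_1 := hsym 0 1
  rw [e_0_1, e_1_0] at S_0_1
  have S_0_2 := hsym 0 2
  rw [e_0_2, e_2_0] at S_0_2
  have S_0_3 := hsym 0 3
  rw [e_0_3, e_3_0] at S_0_3
  have S_1_2 := hsym 1 2
  rw [e_1_2, e_2_1] at S_1_2
  have S_1_3 := hsym 1 3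
  have S_2_3 := hsym 2 3
  have Q_1 := hpair 1 3 (by decide)
  have Q_2 := hpair 2 3 (by decide)
  generalize e_1_3 : T.picMatrix 1 3 = x_1 at *
  generalize e_3_1 : T.picMatrix 3 1 = y_1 at *
  generalize e_2_3 : T.picMatrix 2 3 = x_2 at *
  generalize e_3_2 : T.picMatrix 3 2 = y_2 at *
  rcases Q_1 with ⟨rfl, rfl⟩ | ⟨rfl, rfl⟩ | ⟨rfl, rfl⟩ | ⟨rfl, rfl⟩ | ⟨rfl, rfl⟩ | ⟨rfl, rfl⟩ | ⟨rfl, rfl⟩ | ⟨rfl, rfl⟩ | ⟨rfl, rfl⟩
  · exact absurd rfl hne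
  · omega
  · omega
  · omega
  · omega
  · omega
  · omega
  · omega
  · omega

theorem nd_108 (T : Models.NumericalType 4)
    (hG : NTGood T)
    (hmax : ∀ j, T.m j ≤ T.m 0)
    (e_0_1 : T.picMatrix 0 1 = 2)
    (e_0_2 : T.picMatrix 0 2 = 1)
    (e_1_0 : T.picMatrix 1 0 = 1)
    (e_1_2 : T.picMatrix 1 2 = 0)
    (e_2_0 : T.picMatrix 2 0 = 2)
    (e_2_1 : T.picMatrix 2 1 = 0)
    (cl : ∀ a b : Fin 4, a.val < 1 → 3 ≤ b.val → T.picMatrix a b = 0) :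
    Goal T := by
  by_cases hc : ∀ b : Fin 4, 3 ≤ b.val → T.picMatrix 1 b = 0
  · exact nd_109 T hG hmax e_0_1 e_0_2 e_1_0 e_1_2 e_2_0 e_2_1 (nt_cl_succ T 3 1 1 rfl cl hc)
  · obtain ⟨τ, hfix, cl', z, hne⟩ := nt_wlog_step T 3 (by norm_num) 1 (by norm_num) 1 (by decide) cl hc
    apply goal_relabel T τ
    refine ex_112 (ntRelabel T τ) (hG.relabel τ) ?_ ?_ ?_ ?_ ?_ ?_ ?_ cl' z hne
    · intro j
      show T.m (τ j) ≤ T.m (τ 0)
      rw [hfix 0 (by decide)]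
      exact hmax _
    · show T.picMatrix (τ 0) (τ 1) = 2
      rw [hfix 0 (by decide), hfix 1 (by decide)]
      exact e_0_1
    · show T.picMatrix (τ 0) (τ 2) = 1
      rw [hfix 0 (by decide), hfix 2 (by decide)]
      exact e_0_2
    · show T.picMatrix (τ 1) (τ 0) = 1
      rw [hfix 1 (by decide), hfix 0 (by decide)]
      exact e_1_0
    · show T.picMatrix (τ 1) (τ 2) = 0
      rw [hfix 1 (by decide), hfix 2 (by decide)]
      exact e_1_2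
    · show T.picMatrix (τ 2) (τ 0) = 2
      rw [hfix 2 (by decide), hfix 0 (by decide)]
      exact e_2_0
    · show T.picMatrix (τ 2) (τ 1) = 0
      rw [hfix 2 (by decide), hfix 1 (by decide)]
      exact e_2_1

theorem ex_113 (T : Models.NumericalType 4)
    (hG : NTGood T)
    (hmax : ∀ j, T.m j ≤ T.m 0)
    (e_0_1 : T.picMatrix 0 1 = 2)
    (e_0_2 : T.picMatrix 0 2 = 1)
    (e_1_0 : T.picMatrix 1 0 = 1)
    (e_1_2 : T.picMatrix 1 2 = 0)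
    (e_2_0 : T.picMatrix 2 0 = 2)
    (e_2_1 : T.picMatrix 2 1 = 0)
    (cl : ∀ a b : Fin 4, a.val < 0 → 4 ≤ b.val → T.picMatrix a b = 0)
    (z : ∀ a : Fin 4, a.val < 0 → T.picMatrix a 3 = 0)
    (hne : T.picMatrix 0 3 ≠ 0) :
    Goal T := by
  obtain ⟨hg0, hdA, hdP, hnn, hrow, hsym, hpair⟩ := ntgood_data T (by norm_num) hG
  have hm_0 := T.m_pos 0
  have hw_0 := T.w_pos 0
  have hm_1 := T.m_pos 1
  have hw_1 := T.w_pos 1
  have hm_2 := T.m_pos 2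
  have hw_2 := T.w_pos 2
  have hm_3 := T.m_pos 3
  have hw_3 := T.w_pos 3
  have hx_1 := hmax 1
  have hx_2 := hmax 2
  have hx_3 := hmax 3
  have N_0_3 := mul_nonneg (hnn 0 3 (by decide)) (T.m_pos 3).le
  have N_3_0 := mul_nonneg (hnn 3 0 (by decide)) (T.m_pos 0).le
  have N_1_3 := mul_nonneg (hnn 1 3 (by decide)) (T.m_pos 3).le
  have N_3_1 := mul_nonneg (hnn 3 1 (by decide)) (T.m_pos 1).le
  have N_2_3 := mul_nonneg (hnn 2 3 (by decide)) (T.m_pos 3).le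
  have N_3_2 := mul_nonneg (hnn 3 2 (by decide)) (T.m_pos 2).le
  have R_0 := hrow 0
  rw [Fin.sum_univ_four, hdP 0, e_0_1, e_0_2] at R_0
  have R_1 := hrow 1
  rw [Fin.sum_univ_four, hdP 1, e_1_0, e_1_2] at R_1
  have R_2 := hrow 2
  rw [Fin.sum_univ_four, hdP 2, e_2_0, e_2_1] at R_2
  have R_3 := hrow 3
  rw [Fin.sum_univ_four, hdP 3] at R_3
  have S_0_1 := hsym 0 1
  rw [e_0_1, e_1_0] at S_0_1
  have S_0_2 := hsym 0 2
  rw [e_0_2, e_2_0] at S_0_2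
  have S_0_3 := hsym 0 3
  have S_1_2 := hsym 1 2
  rw [e_1_2, e_2_1] at S_1_2
  have S_1_3 := hsym 1 3
  have S_2_3 := hsym 2 3
  have Q_0 := hpair 0 3 (by decide)
  have Q_1 := hpair 1 3 (by decide)
  have Q_2 := hpair 2 3 (by decide)
  generalize e_0_3 : T.picMatrix 0 3 = x_0 at *
  generalize e_3_0 : T.picMatrix 3 0 = y_0 at *
  generalize e_1_3 : T.picMatrix 1 3 = x_1 at *
  generalize e_3_1 : T.picMatrix 3 1 = y_1 at *
  generalize e_2_3 : T.picMatrix 2 3 = x_2 at *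
  generalize e_3_2 : T.picMatrix 3 2 = y_2 at *
  rcases Q_0 with ⟨rfl, rfl⟩ | ⟨rfl, rfl⟩ | ⟨rfl, rfl⟩ | ⟨rfl, rfl⟩ | ⟨rfl, rfl⟩ | ⟨rfl, rfl⟩ | ⟨rfl, rfl⟩ | ⟨rfl, rfl⟩ | ⟨rfl, rfl⟩
  · exact absurd rfl hne
  · omega
  · omega
  · omega
  · omega
  · omega
  · omega
  · omega
  · omega

theorem nd_107 (T : Models.NumericalType 4)
    (hG : NTGood T)
    (hmax : ∀ j, T.m j ≤ T.m 0)
    (e_0_1 : T.picMatrix 0 1 = 2)
    (e_0_2 : T.picMatrix 0 2 = 1)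
    (e_1_0 : T.picMatrix 1 0 = 1)
    (e_1_2 : T.picMatrix 1 2 = 0)
    (e_2_0 : T.picMatrix 2 0 = 2)
    (e_2_1 : T.picMatrix 2 1 = 0)
    (cl : ∀ a b : Fin 4, a.val < 0 → 3 ≤ b.val → T.picMatrix a b = 0) :
    Goal T := by
  by_cases hc : ∀ b : Fin 4, 3 ≤ b.val → T.picMatrix 0 b = 0
  · exact nd_108 T hG hmax e_0_1 e_0_2 e_1_0 e_1_2 e_2_0 e_2_1 (nt_cl_succ T 3 0 0 rfl cl hc)
  · obtain ⟨τ, hfix, cl', z, hne⟩ := nt_wlog_step T 3 (by norm_num) 0 (by norm_num) 0 (by decide) cl hc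
    apply goal_relabel T τ
    refine ex_113 (ntRelabel T τ) (hG.relabel τ) ?_ ?_ ?_ ?_ ?_ ?_ ?_ cl' z hne
    · intro j
      show T.m (τ j) ≤ T.m (τ 0)
      rw [hfix 0 (by decide)]
      exact hmax _
    · show T.picMatrix (τ 0) (τ 1) = 2
      rw [hfix 0 (by decide), hfix 1 (by decide)]
      exact e_0_1
    · show T.picMatrix (τ 0) (τ 2) = 1
      rw [hfix 0 (by decide), hfix 2 (by decide)]
      exact e_0_2
    · show T.picMatrix (τ 1) (τ 0) = 1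
      rw [hfix 1 (by decide), hfix 0 (by decide)]
      exact e_1_0
    · show T.picMatrix (τ 1) (τ 2) = 0
      rw [hfix 1 (by decide), hfix 2 (by decide)]
      exact e_1_2
    · show T.picMatrix (τ 2) (τ 0) = 2
      rw [hfix 2 (by decide), hfix 0 (by decide)]
      exact e_2_0
    · show T.picMatrix (τ 2) (τ 1) = 0
      rw [hfix 2 (by decide), hfix 1 (by decide)]
      exact e_2_1

theorem nd_117 (T : Models.NumericalType 4)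
    (hG : NTGood T)
    (hmax : ∀ j, T.m j ≤ T.m 0)
    (e_0_1 : T.picMatrix 0 1 = 2)
    (e_0_2 : T.picMatrix 0 2 = 2)
    (e_1_0 : T.picMatrix 1 0 = 1)
    (e_1_2 : T.picMatrix 1 2 = 0)
    (e_2_0 : T.picMatrix 2 0 = 1)
    (e_2_1 : T.picMatrix 2 1 = 0)
    (cl : ∀ a b : Fin 4, a.val < 3 → 3 ≤ b.val → T.picMatrix a b = 0) :
    Goal T := by
  exact (nt_closed_false T 3 (by norm_num) (by norm_num) cl).elim

theorem ex_118 (T : Models.NumericalType 4)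
    (hG : NTGood T)
    (hmax : ∀ j, T.m j ≤ T.m 0)
    (e_0_1 : T.picMatrix 0 1 = 2)
    (e_0_2 : T.picMatrix 0 2 = 2)
    (e_1_0 : T.picMatrix 1 0 = 1)
    (e_1_2 : T.picMatrix 1 2 = 0)
    (e_2_0 : T.picMatrix 2 0 = 1)
    (e_2_1 : T.picMatrix 2 1 = 0)
    (cl : ∀ a b : Fin 4, a.val < 2 → 4 ≤ b.val → T.picMatrix a b = 0)
    (z : ∀ a : Fin 4, a.val < 2 → T.picMatrix a 3 = 0)
    (hne : T.picMatrix 2 3 ≠ 0) :
    Goal T := by
  have e_0_3 : T.picMatrix 0 3 = 0 := z 0 (by decide)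
  have e_3_0 : T.picMatrix 3 0 = 0 := nt_pic_zero_symm T 0 3 e_0_3
  have e_1_3 : T.picMatrix 1 3 = 0 := z 1 (by decide)
  have e_3_1 : T.picMatrix 3 1 = 0 := nt_pic_zero_symm T 1 3 e_1_3
  obtain ⟨hg0, hdA, hdP, hnn, hrow, hsym, hpair⟩ := ntgood_data T (by norm_num) hG
  have hm_0 := T.m_pos 0
  have hw_0 := T.w_pos 0
  have hm_1 := T.m_pos 1
  have hw_1 := T.w_pos 1
  have hm_2 := T.m_pos 2
  have hw_2 := T.w_pos 2
  have hm_3 := T.m_pos 3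
  have hw_3 := T.w_pos 3
  have hx_1 := hmax 1
  have hx_2 := hmax 2
  have hx_3 := hmax 3
  have N_2_3 := mul_nonneg (hnn 2 3 (by decide)) (T.m_pos 3).le
  have N_3_2 := mul_nonneg (hnn 3 2 (by decide)) (T.m_pos 2).le
  have R_0 := hrow 0
  rw [Fin.sum_univ_four, hdP 0, e_0_1, e_0_2, e_0_3] at R_0
  have R_1 := hrow 1
  rw [Fin.sum_univ_four, hdP 1, e_1_0, e_1_2, e_1_3] at R_1
  have R_2 := hrow 2
  rw [Fin.sum_univ_four, hdP 2, e_2_0, e_2_1] at R_2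
  have R_3 := hrow 3
  rw [Fin.sum_univ_four, hdP 3, e_3_0, e_3_1] at R_3
  have S_0_1 := hsym 0 1
  rw [e_0_1, e_1_0] at S_0_1
  have S_0_2 := hsym 0 2
  rw [e_0_2, e_2_0] at S_0_2
  have S_0_3 := hsym 0 3
  rw [e_0_3, e_3_0] at S_0_3
  have S_1_2 := hsym 1 2
  rw [e_1_2, e_2_1] at S_1_2
  have S_1_3 := hsym 1 3
  rw [e_1_3, e_3_1] at S_1_3
  have S_2_3 := hsym 2 3
  have Q_2 := hpair 2 3 (by decide)
  generalize e_2_3 : T.picMatrix 2 3 = x_2 at *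
  generalize e_3_2 : T.picMatrix 3 2 = y_2 at *
  rcases Q_2 with ⟨rfl, rfl⟩ | ⟨rfl, rfl⟩ | ⟨rfl, rfl⟩ | ⟨rfl, rfl⟩ | ⟨rfl, rfl⟩ | ⟨rfl, rfl⟩ | ⟨rfl, rfl⟩ | ⟨rfl, rfl⟩ | ⟨rfl, rfl⟩
  · exact absurd rfl hne
  · -- (2,3) = (1,1)
    omega
  · -- (2,3) = (1,2)
    omega
  · -- (2,3) = (2,1)
    omega
  · -- (2,3) = (1,3)
    omega
  · -- (2,3) = (3,1)
    omega
  · -- (2,3) = (1,4)
    omega
  · -- (2,3) = (4,1)
    omega
  · -- (2,3) = (2,2)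
    omega

theorem nd_116 (T : Models.NumericalType 4)
    (hG : NTGood T)
    (hmax : ∀ j, T.m j ≤ T.m 0)
    (e_0_1 : T.picMatrix 0 1 = 2)
    (e_0_2 : T.picMatrix 0 2 = 2)
    (e_1_0 : T.picMatrix 1 0 = 1)
    (e_1_2 : T.picMatrix 1 2 = 0)
    (e_2_0 : T.picMatrix 2 0 = 1)
    (e_2_1 : T.picMatrix 2 1 = 0)
    (cl : ∀ a b : Fin 4, a.val < 2 → 3 ≤ b.val → T.picMatrix a b = 0) :
    Goal T := by
  by_cases hc : ∀ b : Fin 4, 3 ≤ b.val → T.picMatrix 2 b = 0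
  · exact nd_117 T hG hmax e_0_1 e_0_2 e_1_0 e_1_2 e_2_0 e_2_1 (nt_cl_succ T 3 2 2 rfl cl hc)
  · obtain ⟨τ, hfix, cl', z, hne⟩ := nt_wlog_step T 3 (by norm_num) 2 (by norm_num) 2 (by decide) cl hc
    apply goal_relabel T τ
    refine ex_118 (ntRelabel T τ) (hG.relabel τ) ?_ ?_ ?_ ?_ ?_ ?_ ?_ cl' z hne
    · intro j
      show T.m (τ j) ≤ T.m (τ 0)
      rw [hfix 0 (by decide)]
      exact hmax _
    · show T.picMatrix (τ 0) (τ 1) = 2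
      rw [hfix 0 (by decide), hfix 1 (by decide)]
      exact e_0_1
    · show T.picMatrix (τ 0) (τ 2) = 2
      rw [hfix 0 (by decide), hfix 2 (by decide)]
      exact e_0_2
    · show T.picMatrix (τ 1) (τ 0) = 1
      rw [hfix 1 (by decide), hfix 0 (by decide)]
      exact e_1_0
    · show T.picMatrix (τ 1) (τ 2) = 0
      rw [hfix 1 (by decide), hfix 2 (by decide)]
      exact e_1_2
    · show T.picMatrix (τ 2) (τ 0) = 1
      rw [hfix 2 (by decide), hfix 0 (by decide)]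
      exact e_2_0
    · show T.picMatrix (τ 2) (τ 1) = 0
      rw [hfix 2 (by decide), hfix 1 (by decide)]
      exact e_2_1

theorem ex_119 (T : Models.NumericalType 4)
    (hG : NTGood T)
    (hmax : ∀ j, T.m j ≤ T.m 0)
    (e_0_1 : T.picMatrix 0 1 = 2)
    (e_0_2 : T.picMatrix 0 2 = 2)
    (e_1_0 : T.picMatrix 1 0 = 1)
    (e_1_2 : T.picMatrix 1 2 = 0)
    (e_2_0 : T.picMatrix 2 0 = 1)
    (e_2_1 : T.picMatrix 2 1 = 0)
    (cl : ∀ a b : Fin 4, a.val < 1 → 4 ≤ b.val → T.picMatrix a b = 0)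
    (z : ∀ a : Fin 4, a.val < 1 → T.picMatrix a 3 = 0)
    (hne : T.picMatrix 1 3 ≠ 0) :
    Goal T := by
  have e_0_3 : T.picMatrix 0 3 = 0 := z 0 (by decide)
  have e_3_0 : T.picMatrix 3 0 = 0 := nt_pic_zero_symm T 0 3 e_0_3
  obtain ⟨hg0, hdA, hdP, hnn, hrow, hsym, hpair⟩ := ntgood_data T (by norm_num) hG
  have hm_0 := T.m_pos 0
  have hw_0 := T.w_pos 0
  have hm_1 := T.m_pos 1
  have hw_1 := T.w_pos 1
  have hm_2 := T.m_pos 2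
  have hw_2 := T.w_pos 2
  have hm_3 := T.m_pos 3
  have hw_3 := T.w_pos 3
  have hx_1 := hmax 1
  have hx_2 := hmax 2
  have hx_3 := hmax 3
  have N_1_3 := mul_nonneg (hnn 1 3 (by decide)) (T.m_pos 3).le
  have N_3_1 := mul_nonneg (hnn 3 1 (by decide)) (T.m_pos 1).le
  have N_2_3 := mul_nonneg (hnn 2 3 (by decide)) (T.m_pos 3).le
  have N_3_2 := mul_nonneg (hnn 3 2 (by decide)) (T.m_pos 2).le
  have R_0 := hrow 0
  rw [Fin.sum_univ_four, hdP 0, e_0_1, e_0_2, e_0_3] at R_0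
  have R_1 := hrow 1
  rw [Fin.sum_univ_four, hdP 1, e_1_0, e_1_2] at R_1
  have R_2 := hrow 2
  rw [Fin.sum_univ_four, hdP 2, e_2_0, e_2_1] at R_2
  have R_3 := hrow 3
  rw [Fin.sum_univ_four, hdP 3, e_3_0] at R_3
  have S_0_1 := hsym 0 1
  rw [e_0_1, e_1_0] at S_0_1
  have S_0_2 := hsym 0 2
  rw [e_0_2, e_2_0] at S_0_2
  have S_0_3 := hsym 0 3
  rw [e_0_3, e_3_0] at S_0_3
  have S_1_2 := hsym 1 2
  rw [e_1_2, e_2_1] at S_1_2
  have S_1_3 := hsym 1 3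
  have S_2_3 := hsym 2 3
  have Q_1 := hpair 1 3 (by decide)
  have Q_2 := hpair 2 3 (by decide)
  generalize e_1_3 : T.picMatrix 1 3 = x_1 at *
  generalize e_3_1 : T.picMatrix 3 1 = y_1 at *
  generalize e_2_3 : T.picMatrix 2 3 = x_2 at *
  generalize e_3_2 : T.picMatrix 3 2 = y_2 at *
  rcases Q_1 with ⟨rfl, rfl⟩ | ⟨rfl, rfl⟩ | ⟨rfl, rfl⟩ | ⟨rfl, rfl⟩ | ⟨rfl, rfl⟩ | ⟨rfl, rfl⟩ | ⟨rfl, rfl⟩ | ⟨rfl, rfl⟩ | ⟨rfl, rfl⟩
  · exact absurd rfl hne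
  · omega
  · omega
  · omega
  · omega
  · omega
  · omega
  · omega
  · omega

theorem nd_115 (T : Models.NumericalType 4)
    (hG : NTGood T)
    (hmax : ∀ j, T.m j ≤ T.m 0)
    (e_0_1 : T.picMatrix 0 1 = 2)
    (e_0_2 : T.picMatrix 0 2 = 2)
    (e_1_0 : T.picMatrix 1 0 = 1)
    (e_1_2 : T.picMatrix 1 2 = 0)
    (e_2_0 : T.picMatrix 2 0 = 1)
    (e_2_1 : T.picMatrix 2 1 = 0)
    (cl : ∀ a b : Fin 4, a.val < 1 → 3 ≤ b.val → T.picMatrix a b = 0) :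
    Goal T := by
  by_cases hc : ∀ b : Fin 4, 3 ≤ b.val → T.picMatrix 1 b = 0
  · exact nd_116 T hG hmax e_0_1 e_0_2 e_1_0 e_1_2 e_2_0 e_2_1 (nt_cl_succ T 3 1 1 rfl cl hc)
  · obtain ⟨τ, hfix, cl', z, hne⟩ := nt_wlog_step T 3 (by norm_num) 1 (by norm_num) 1 (by decide) cl hc
    apply goal_relabel T τ
    refine ex_119 (ntRelabel T τ) (hG.relabel τ) ?_ ?_ ?_ ?_ ?_ ?_ ?_ cl' z hne
    · intro j
      show T.m (τ j) ≤ T.m (τ 0)
      rw [hfix 0 (by decide)]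
      exact hmax _
    · show T.picMatrix (τ 0) (τ 1) = 2
      rw [hfix 0 (by decide), hfix 1 (by decide)]
      exact e_0_1
    · show T.picMatrix (τ 0) (τ 2) = 2
      rw [hfix 0 (by decide), hfix 2 (by decide)]
      exact e_0_2
    · show T.picMatrix (τ 1) (τ 0) = 1
      rw [hfix 1 (by decide), hfix 0 (by decide)]
      exact e_1_0
    · show T.picMatrix (τ 1) (τ 2) = 0
      rw [hfix 1 (by decide), hfix 2 (by decide)]
      exact e_1_2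
    · show T.picMatrix (τ 2) (τ 0) = 1
      rw [hfix 2 (by decide), hfix 0 (by decide)]
      exact e_2_0
    · show T.picMatrix (τ 2) (τ 1) = 0
      rw [hfix 2 (by decide), hfix 1 (by decide)]
      exact e_2_1

theorem ex_120 (T : Models.NumericalType 4)
    (hG : NTGood T)
    (hmax : ∀ j, T.m j ≤ T.m 0)
    (e_0_1 : T.picMatrix 0 1 = 2)
    (e_0_2 : T.picMatrix 0 2 = 2)
    (e_1_0 : T.picMatrix 1 0 = 1)
    (e_1_2 : T.picMatrix 1 2 = 0)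
    (e_2_0 : T.picMatrix 2 0 = 1)
    (e_2_1 : T.picMatrix 2 1 = 0)
    (cl : ∀ a b : Fin 4, a.val < 0 → 4 ≤ b.val → T.picMatrix a b = 0)
    (z : ∀ a : Fin 4, a.val < 0 → T.picMatrix a 3 = 0)
    (hne : T.picMatrix 0 3 ≠ 0) :
    Goal T := by
  obtain ⟨hg0, hdA, hdP, hnn, hrow, hsym, hpair⟩ := ntgood_data T (by norm_num) hG
  have hm_0 := T.m_pos 0
  have hw_0 := T.w_pos 0
  have hm_1 := T.m_pos 1
  have hw_1 := T.w_pos 1
  have hm_2 := T.m_pos 2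
  have hw_2 := T.w_pos 2
  have hm_3 := T.m_pos 3
  have hw_3 := T.w_pos 3
  have hx_1 := hmax 1
  have hx_2 := hmax 2
  have hx_3 := hmax 3
  have N_0_3 := mul_nonneg (hnn 0 3 (by decide)) (T.m_pos 3).le
  have N_3_0 := mul_nonneg (hnn 3 0 (by decide)) (T.m_pos 0).le
  have N_1_3 := mul_nonneg (hnn 1 3 (by decide)) (T.m_pos 3).le
  have N_3_1 := mul_nonneg (hnn 3 1 (by decide)) (T.m_pos 1).le
  have N_2_3 := mul_nonneg (hnn 2 3 (by decide)) (T.m_pos 3).le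
  have N_3_2 := mul_nonneg (hnn 3 2 (by decide)) (T.m_pos 2).le
  have R_0 := hrow 0
  rw [Fin.sum_univ_four, hdP 0, e_0_1, e_0_2] at R_0
  have R_1 := hrow 1
  rw [Fin.sum_univ_four, hdP 1, e_1_0, e_1_2] at R_1
  have R_2 := hrow 2
  rw [Fin.sum_univ_four, hdP 2, e_2_0, e_2_1] at R_2
  have R_3 := hrow 3
  rw [Fin.sum_univ_four, hdP 3] at R_3
  have S_0_1 := hsym 0 1
  rw [e_0_1, e_1_0] at S_0_1
  have S_0_2 := hsym 0 2
  rw [e_0_2, e_2_0] at S_0_2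
  have S_0_3 := hsym 0 3
  have S_1_2 := hsym 1 2
  rw [e_1_2, e_2_1] at S_1_2
  have S_1_3 := hsym 1 3
  have S_2_3 := hsym 2 3
  have Q_0 := hpair 0 3 (by decide)
  have Q_1 := hpair 1 3 (by decide)
  have Q_2 := hpair 2 3 (by decide)
  generalize e_0_3 : T.picMatrix 0 3 = x_0 at *
  generalize e_3_0 : T.picMatrix 3 0 = y_0 at *
  generalize e_1_3 : T.picMatrix 1 3 = x_1 at *
  generalize e_3_1 : T.picMatrix 3 1 = y_1 at *
  generalize e_2_3 : T.picMatrix 2 3 = x_2 at *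
  generalize e_3_2 : T.picMatrix 3 2 = y_2 at *
  rcases Q_0 with ⟨rfl, rfl⟩ | ⟨rfl, rfl⟩ | ⟨rfl, rfl⟩ | ⟨rfl, rfl⟩ | ⟨rfl, rfl⟩ | ⟨rfl, rfl⟩ | ⟨rfl, rfl⟩ | ⟨rfl, rfl⟩ | ⟨rfl, rfl⟩
  · exact absurd rfl hne
  · omega
  · omega
  · omega
  · omega
  · omega
  · omega
  · omega
  · omega

theorem nd_114 (T : Models.NumericalType 4)
    (hG : NTGood T)
    (hmax : ∀ j, T.m j ≤ T.m 0)
    (e_0_1 : T.picMatrix 0 1 = 2)
    (e_0_2 : T.picMatrix 0 2 = 2)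
    (e_1_0 : T.picMatrix 1 0 = 1)
    (e_1_2 : T.picMatrix 1 2 = 0)
    (e_2_0 : T.picMatrix 2 0 = 1)
    (e_2_1 : T.picMatrix 2 1 = 0)
    (cl : ∀ a b : Fin 4, a.val < 0 → 3 ≤ b.val → T.picMatrix a b = 0) :
    Goal T := by
  by_cases hc : ∀ b : Fin 4, 3 ≤ b.val → T.picMatrix 0 b = 0
  · exact nd_115 T hG hmax e_0_1 e_0_2 e_1_0 e_1_2 e_2_0 e_2_1 (nt_cl_succ T 3 0 0 rfl cl hc)
  · obtain ⟨τ, hfix, cl', z, hne⟩ := nt_wlog_step T 3 (by norm_num) 0 (by norm_num) 0 (by decide) cl hc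
    apply goal_relabel T τ
    refine ex_120 (ntRelabel T τ) (hG.relabel τ) ?_ ?_ ?_ ?_ ?_ ?_ ?_ cl' z hne
    · intro j
      show T.m (τ j) ≤ T.m (τ 0)
      rw [hfix 0 (by decide)]
      exact hmax _
    · show T.picMatrix (τ 0) (τ 1) = 2
      rw [hfix 0 (by decide), hfix 1 (by decide)]
      exact e_0_1
    · show T.picMatrix (τ 0) (τ 2) = 2
      rw [hfix 0 (by decide), hfix 2 (by decide)]
      exact e_0_2
    · show T.picMatrix (τ 1) (τ 0) = 1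
      rw [hfix 1 (by decide), hfix 0 (by decide)]
      exact e_1_0
    · show T.picMatrix (τ 1) (τ 2) = 0
      rw [hfix 1 (by decide), hfix 2 (by decide)]
      exact e_1_2
    · show T.picMatrix (τ 2) (τ 0) = 1
      rw [hfix 2 (by decide), hfix 0 (by decide)]
      exact e_2_0
    · show T.picMatrix (τ 2) (τ 1) = 0
      rw [hfix 2 (by decide), hfix 1 (by decide)]
      exact e_2_1

theorem ex_96 (T : Models.NumericalType 4)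
    (hG : NTGood T)
    (hmax : ∀ j, T.m j ≤ T.m 0)
    (e_0_1 : T.picMatrix 0 1 = 2)
    (e_1_0 : T.picMatrix 1 0 = 1)
    (cl : ∀ a b : Fin 4, a.val < 0 → 3 ≤ b.val → T.picMatrix a b = 0)
    (z : ∀ a : Fin 4, a.val < 0 → T.picMatrix a 2 = 0)
    (hne : T.picMatrix 0 2 ≠ 0) :
    Goal T := by
  obtain ⟨hg0, hdA, hdP, hnn, hrow, hsym, hpair⟩ := ntgood_data T (by norm_num) hG
  have hm_0 := T.m_pos 0
  have hw_0 := T.w_pos 0
  have hm_1 := T.m_pos 1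
  have hw_1 := T.w_pos 1
  have hm_2 := T.m_pos 2
  have hw_2 := T.w_pos 2
  have hx_1 := hmax 1
  have hx_2 := hmax 2
  have N_0_3 := mul_nonneg (hnn 0 3 (by decide)) (T.m_pos 3).le
  have N_1_3 := mul_nonneg (hnn 1 3 (by decide)) (T.m_pos 3).le
  have N_2_3 := mul_nonneg (hnn 2 3 (by decide)) (T.m_pos 3).le
  have N_0_2 := mul_nonneg (hnn 0 2 (by decide)) (T.m_pos 2).le
  have N_2_0 := mul_nonneg (hnn 2 0 (by decide)) (T.m_pos 0).le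
  have N_1_2 := mul_nonneg (hnn 1 2 (by decide)) (T.m_pos 2).le
  have N_2_1 := mul_nonneg (hnn 2 1 (by decide)) (T.m_pos 1).le
  have R_0 := hrow 0
  rw [Fin.sum_univ_four, hdP 0, e_0_1] at R_0
  have R_1 := hrow 1
  rw [Fin.sum_univ_four, hdP 1, e_1_0] at R_1
  have R_2 := hrow 2
  rw [Fin.sum_univ_four, hdP 2] at R_2
  have S_0_1 := hsym 0 1
  rw [e_0_1, e_1_0] at S_0_1
  have S_0_2 := hsym 0 2
  have S_1_2 := hsym 1 2
  have Q_0 := hpair 0 2 (by decide)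
  have Q_1 := hpair 1 2 (by decide)
  generalize e_0_2 : T.picMatrix 0 2 = x_0 at *
  generalize e_2_0 : T.picMatrix 2 0 = y_0 at *
  generalize e_1_2 : T.picMatrix 1 2 = x_1 at *
  generalize e_2_1 : T.picMatrix 2 1 = y_1 at *
  rcases Q_0 with ⟨rfl, rfl⟩ | ⟨rfl, rfl⟩ | ⟨rfl, rfl⟩ | ⟨rfl, rfl⟩ | ⟨rfl, rfl⟩ | ⟨rfl, rfl⟩ | ⟨rfl, rfl⟩ | ⟨rfl, rfl⟩ | ⟨rfl, rfl⟩
  · exact absurd rfl hne
  · -- (0,2) = (1,1)
    rcases Q_1 with ⟨rfl, rfl⟩ | ⟨rfl, rfl⟩ | ⟨rfl, rfl⟩ | ⟨rfl, rfl⟩ | ⟨rfl, rfl⟩ | ⟨rfl, rfl⟩ | ⟨rfl, rfl⟩ | ⟨rfl, rfl⟩ | ⟨rfl, rfl⟩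
    · -- (1,2) = (0,0)
      exact nd_97 T hG hmax e_0_1 e_0_2 e_1_0 e_1_2 e_2_0 e_2_1 cl
    · -- (1,2) = (1,1)
      omega
    · -- (1,2) = (1,2)
      omega
    · -- (1,2) = (2,1)
      omega
    · -- (1,2) = (1,3)
      omega
    · -- (1,2) = (3,1)
      omega
    · -- (1,2) = (1,4)
      omega
    · -- (1,2) = (4,1)
      omega
    · -- (1,2) = (2,2)
      omega
  · -- (0,2) = (1,2)
    rcases Q_1 with ⟨rfl, rfl⟩ | ⟨rfl, rfl⟩ | ⟨rfl, rfl⟩ | ⟨rfl, rfl⟩ | ⟨rfl, rfl⟩ | ⟨rfl, rfl⟩ | ⟨rfl, rfl⟩ | ⟨rfl, rfl⟩ | ⟨rfl, rfl⟩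
    · -- (1,2) = (0,0)
      exact nd_107 T hG hmax e_0_1 e_0_2 e_1_0 e_1_2 e_2_0 e_2_1 cl
    · -- (1,2) = (1,1)
      omega
    · -- (1,2) = (1,2)
      omega
    · -- (1,2) = (2,1)
      omega
    · -- (1,2) = (1,3)
      omega
    · -- (1,2) = (3,1)
      omega
    · -- (1,2) = (1,4)
      omega
    · -- (1,2) = (4,1)
      omega
    · -- (1,2) = (2,2)
      omega
  · -- (0,2) = (2,1)
    rcases Q_1 with ⟨rfl, rfl⟩ | ⟨rfl, rfl⟩ | ⟨rfl, rfl⟩ | ⟨rfl, rfl⟩ | ⟨rfl, rfl⟩ | ⟨rfl, rfl⟩ | ⟨rfl, rfl⟩ | ⟨rfl, rfl⟩ | ⟨rfl, rfl⟩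
    · -- (1,2) = (0,0)
      exact nd_114 T hG hmax e_0_1 e_0_2 e_1_0 e_1_2 e_2_0 e_2_1 cl
    · -- (1,2) = (1,1)
      omega
    · -- (1,2) = (1,2)
      omega
    · -- (1,2) = (2,1)
      omega
    · -- (1,2) = (1,3)
      omega
    · -- (1,2) = (3,1)
      omega
    · -- (1,2) = (1,4)
      omega
    · -- (1,2) = (4,1)
      omega
    · -- (1,2) = (2,2)
      omega
  · omega
  · omega
  · omega
  · omega
  · omega

theorem nd_74 (T : Models.NumericalType 4)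
    (hG : NTGood T)
    (hmax : ∀ j, T.m j ≤ T.m 0)
    (e_0_1 : T.picMatrix 0 1 = 2)
    (e_1_0 : T.picMatrix 1 0 = 1)
    (cl : ∀ a b : Fin 4, a.val < 0 → 2 ≤ b.val → T.picMatrix a b = 0) :
    Goal T := by
  by_cases hc : ∀ b : Fin 4, 2 ≤ b.val → T.picMatrix 0 b = 0
  · exact nd_75 T hG hmax e_0_1 e_1_0 (nt_cl_succ T 2 0 0 rfl cl hc)
  · obtain ⟨τ, hfix, cl', z, hne⟩ := nt_wlog_step T 2 (by norm_num) 0 (by norm_num) 0 (by decide) cl hc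
    apply goal_relabel T τ
    refine ex_96 (ntRelabel T τ) (hG.relabel τ) ?_ ?_ ?_ cl' z hne
    · intro j
      show T.m (τ j) ≤ T.m (τ 0)
      rw [hfix 0 (by decide)]
      exact hmax _
    · show T.picMatrix (τ 0) (τ 1) = 2
      rw [hfix 0 (by decide), hfix 1 (by decide)]
      exact e_0_1
    · show T.picMatrix (τ 1) (τ 0) = 1
      rw [hfix 1 (by decide), hfix 0 (by decide)]
      exact e_1_0

theorem nd_123 (T : Models.NumericalType 4)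
    (hG : NTGood T)
    (hmax : ∀ j, T.m j ≤ T.m 0)
    (e_0_1 : T.picMatrix 0 1 = 3)
    (e_1_0 : T.picMatrix 1 0 = 1)
    (cl : ∀ a b : Fin 4, a.val < 2 → 2 ≤ b.val → T.picMatrix a b = 0) :
    Goal T := by
  obtain ⟨hg0, hdA, hdP, hnn, hrow, hsym, hpair⟩ := ntgood_data T (by norm_num) hG
  have hm_0 := T.m_pos 0
  have hw_0 := T.w_pos 0
  have hm_1 := T.m_pos 1
  have hw_1 := T.w_pos 1
  have hx_1 := hmax 1
  have Z_0_2 := cl 0 2 (by decide) (by decide)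
  have Z_0_3 := cl 0 3 (by decide) (by decide)
  have Z_1_2 := cl 1 2 (by decide) (by decide)
  have Z_1_3 := cl 1 3 (by decide) (by decide)
  have R_0 := hrow 0
  rw [Fin.sum_univ_four, hdP 0, e_0_1, Z_0_2, Z_0_3] at R_0
  have R_1 := hrow 1
  rw [Fin.sum_univ_four, hdP 1, e_1_0, Z_1_2, Z_1_3] at R_1
  have S_0_1 := hsym 0 1
  rw [e_0_1, e_1_0] at S_0_1
  exfalso
  omega

theorem nd_127 (T : Models.NumericalType 4)
    (hG : NTGood T)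
    (hmax : ∀ j, T.m j ≤ T.m 0)
    (e_0_1 : T.picMatrix 0 1 = 3)
    (e_0_2 : T.picMatrix 0 2 = 0)
    (e_1_0 : T.picMatrix 1 0 = 1)
    (e_1_2 : T.picMatrix 1 2 = 1)
    (e_2_0 : T.picMatrix 2 0 = 0)
    (e_2_1 : T.picMatrix 2 1 = 1)
    (cl : ∀ a b : Fin 4, a.val < 3 → 3 ≤ b.val → T.picMatrix a b = 0) :
    Goal T := by
  exact (nt_closed_false T 3 (by norm_num) (by norm_num) cl).elim

theorem ex_128 (T : Models.NumericalType 4)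
    (hG : NTGood T)
    (hmax : ∀ j, T.m j ≤ T.m 0)
    (e_0_1 : T.picMatrix 0 1 = 3)
    (e_0_2 : T.picMatrix 0 2 = 0)
    (e_1_0 : T.picMatrix 1 0 = 1)
    (e_1_2 : T.picMatrix 1 2 = 1)
    (e_2_0 : T.picMatrix 2 0 = 0)
    (e_2_1 : T.picMatrix 2 1 = 1)
    (cl : ∀ a b : Fin 4, a.val < 2 → 4 ≤ b.val → T.picMatrix a b = 0)
    (z : ∀ a : Fin 4, a.val < 2 → T.picMatrix a 3 = 0)
    (hne : T.picMatrix 2 3 ≠ 0) :
    Goal T := by
  have e_0_3 : T.picMatrix 0 3 = 0 := z 0 (by decide)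
  have e_3_0 : T.picMatrix 3 0 = 0 := nt_pic_zero_symm T 0 3 e_0_3
  have e_1_3 : T.picMatrix 1 3 = 0 := z 1 (by decide)
  have e_3_1 : T.picMatrix 3 1 = 0 := nt_pic_zero_symm T 1 3 e_1_3
  obtain ⟨hg0, hdA, hdP, hnn, hrow, hsym, hpair⟩ := ntgood_data T (by norm_num) hG
  have hm_0 := T.m_pos 0
  have hw_0 := T.w_pos 0
  have hm_1 := T.m_pos 1
  have hw_1 := T.w_pos 1
  have hm_2 := T.m_pos 2
  have hw_2 := T.w_pos 2
  have hm_3 := T.m_pos 3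
  have hw_3 := T.w_pos 3
  have hx_1 := hmax 1
  have hx_2 := hmax 2
  have hx_3 := hmax 3
  have N_2_3 := mul_nonneg (hnn 2 3 (by decide)) (T.m_pos 3).le
  have N_3_2 := mul_nonneg (hnn 3 2 (by decide)) (T.m_pos 2).le
  have R_0 := hrow 0
  rw [Fin.sum_univ_four, hdP 0, e_0_1, e_0_2, e_0_3] at R_0
  have R_1 := hrow 1
  rw [Fin.sum_univ_four, hdP 1, e_1_0, e_1_2, e_1_3] at R_1
  have R_2 := hrow 2
  rw [Fin.sum_univ_four, hdP 2, e_2_0, e_2_1] at R_2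
  have R_3 := hrow 3
  rw [Fin.sum_univ_four, hdP 3, e_3_0, e_3_1] at R_3
  have S_0_1 := hsym 0 1
  rw [e_0_1, e_1_0] at S_0_1
  have S_0_2 := hsym 0 2
  rw [e_0_2, e_2_0] at S_0_2
  have S_0_3 := hsym 0 3
  rw [e_0_3, e_3_0] at S_0_3
  have S_1_2 := hsym 1 2
  rw [e_1_2, e_2_1] at S_1_2
  have S_1_3 := hsym 1 3
  rw [e_1_3, e_3_1] at S_1_3
  have S_2_3 := hsym 2 3
  have Q_2 := hpair 2 3 (by decide)
  generalize e_2_3 : T.picMatrix 2 3 = x_2 at *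
  generalize e_3_2 : T.picMatrix 3 2 = y_2 at *
  rcases Q_2 with ⟨rfl, rfl⟩ | ⟨rfl, rfl⟩ | ⟨rfl, rfl⟩ | ⟨rfl, rfl⟩ | ⟨rfl, rfl⟩ | ⟨rfl, rfl⟩ | ⟨rfl, rfl⟩ | ⟨rfl, rfl⟩ | ⟨rfl, rfl⟩
  · exact absurd rfl hne
  · -- (2,3) = (1,1)
    omega
  · -- (2,3) = (1,2)
    omega
  · -- (2,3) = (2,1)
    omega
  · -- (2,3) = (1,3)
    omega
  · -- (2,3) = (3,1)
    omega
  · -- (2,3) = (1,4)
    omega
  · -- (2,3) = (4,1)
    omega
  · -- (2,3) = (2,2)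
    omega

theorem nd_126 (T : Models.NumericalType 4)
    (hG : NTGood T)
    (hmax : ∀ j, T.m j ≤ T.m 0)
    (e_0_1 : T.picMatrix 0 1 = 3)
    (e_0_2 : T.picMatrix 0 2 = 0)
    (e_1_0 : T.picMatrix 1 0 = 1)
    (e_1_2 : T.picMatrix 1 2 = 1)
    (e_2_0 : T.picMatrix 2 0 = 0)
    (e_2_1 : T.picMatrix 2 1 = 1)
    (cl : ∀ a b : Fin 4, a.val < 2 → 3 ≤ b.val → T.picMatrix a b = 0) :
    Goal T := by
  by_cases hc : ∀ b : Fin 4, 3 ≤ b.val → T.picMatrix 2 b = 0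
  · exact nd_127 T hG hmax e_0_1 e_0_2 e_1_0 e_1_2 e_2_0 e_2_1 (nt_cl_succ T 3 2 2 rfl cl hc)
  · obtain ⟨τ, hfix, cl', z, hne⟩ := nt_wlog_step T 3 (by norm_num) 2 (by norm_num) 2 (by decide) cl hc
    apply goal_relabel T τ
    refine ex_128 (ntRelabel T τ) (hG.relabel τ) ?_ ?_ ?_ ?_ ?_ ?_ ?_ cl' z hne
    · intro j
      show T.m (τ j) ≤ T.m (τ 0)
      rw [hfix 0 (by decide)]
      exact hmax _
    · show T.picMatrix (τ 0) (τ 1) = 3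
      rw [hfix 0 (by decide), hfix 1 (by decide)]
      exact e_0_1
    · show T.picMatrix (τ 0) (τ 2) = 0
      rw [hfix 0 (by decide), hfix 2 (by decide)]
      exact e_0_2
    · show T.picMatrix (τ 1) (τ 0) = 1
      rw [hfix 1 (by decide), hfix 0 (by decide)]
      exact e_1_0
    · show T.picMatrix (τ 1) (τ 2) = 1
      rw [hfix 1 (by decide), hfix 2 (by decide)]
      exact e_1_2
    · show T.picMatrix (τ 2) (τ 0) = 0
      rw [hfix 2 (by decide), hfix 0 (by decide)]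
      exact e_2_0
    · show T.picMatrix (τ 2) (τ 1) = 1
      rw [hfix 2 (by decide), hfix 1 (by decide)]
      exact e_2_1

theorem ex_129 (T : Models.NumericalType 4)
    (hG : NTGood T)
    (hmax : ∀ j, T.m j ≤ T.m 0)
    (e_0_1 : T.picMatrix 0 1 = 3)
    (e_0_2 : T.picMatrix 0 2 = 0)
    (e_1_0 : T.picMatrix 1 0 = 1)
    (e_1_2 : T.picMatrix 1 2 = 1)
    (e_2_0 : T.picMatrix 2 0 = 0)
    (e_2_1 : T.picMatrix 2 1 = 1)
    (cl : ∀ a b : Fin 4, a.val < 1 → 4 ≤ b.val → T.picMatrix a b = 0)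
    (z : ∀ a : Fin 4, a.val < 1 → T.picMatrix a 3 = 0)
    (hne : T.picMatrix 1 3 ≠ 0) :
    Goal T := by
  have e_0_3 : T.picMatrix 0 3 = 0 := z 0 (by decide)
  have e_3_0 : T.picMatrix 3 0 = 0 := nt_pic_zero_symm T 0 3 e_0_3
  obtain ⟨hg0, hdA, hdP, hnn, hrow, hsym, hpair⟩ := ntgood_data T (by norm_num) hG
  have hm_0 := T.m_pos 0
  have hw_0 := T.w_pos 0
  have hm_1 := T.m_pos 1
  have hw_1 := T.w_pos 1
  have hm_2 := T.m_pos 2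
  have hw_2 := T.w_pos 2
  have hm_3 := T.m_pos 3
  have hw_3 := T.w_pos 3
  have hx_1 := hmax 1
  have hx_2 := hmax 2
  have hx_3 := hmax 3
  have N_1_3 := mul_nonneg (hnn 1 3 (by decide)) (T.m_pos 3).le
  have N_3_1 := mul_nonneg (hnn 3 1 (by decide)) (T.m_pos 1).le
  have N_2_3 := mul_nonneg (hnn 2 3 (by decide)) (T.m_pos 3).le
  have N_3_2 := mul_nonneg (hnn 3 2 (by decide)) (T.m_pos 2).le
  have R_0 := hrow 0
  rw [Fin.sum_univ_four, hdP 0, e_0_1, e_0_2, e_0_3] at R_0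
  have R_1 := hrow 1
  rw [Fin.sum_univ_four, hdP 1, e_1_0, e_1_2] at R_1
  have R_2 := hrow 2
  rw [Fin.sum_univ_four, hdP 2, e_2_0, e_2_1] at R_2
  have R_3 := hrow 3
  rw [Fin.sum_univ_four, hdP 3, e_3_0] at R_3
  have S_0_1 := hsym 0 1
  rw [e_0_1, e_1_0] at S_0_1
  have S_0_2 := hsym 0 2
  rw [e_0_2, e_2_0] at S_0_2
  have S_0_3 := hsym 0 3
  rw [e_0_3, e_3_0] at S_0_3
  have S_1_2 := hsym 1 2
  rw [e_1_2, e_2_1] at S_1_2
  have S_1_3 := hsym 1 3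
  have S_2_3 := hsym 2 3
  have Q_1 := hpair 1 3 (by decide)
  have Q_2 := hpair 2 3 (by decide)
  generalize e_1_3 : T.picMatrix 1 3 = x_1 at *
  generalize e_3_1 : T.picMatrix 3 1 = y_1 at *
  generalize e_2_3 : T.picMatrix 2 3 = x_2 at *
  generalize e_3_2 : T.picMatrix 3 2 = y_2 at *
  rcases Q_1 with ⟨rfl, rfl⟩ | ⟨rfl, rfl⟩ | ⟨rfl, rfl⟩ | ⟨rfl, rfl⟩ | ⟨rfl, rfl⟩ | ⟨rfl, rfl⟩ | ⟨rfl, rfl⟩ | ⟨rfl, rfl⟩ | ⟨rfl, rfl⟩
  · exact absurd rfl hne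
  · omega
  · omega
  · omega
  · omega
  · omega
  · omega
  · omega
  · omega

theorem nd_125 (T : Models.NumericalType 4)
    (hG : NTGood T)
    (hmax : ∀ j, T.m j ≤ T.m 0)
    (e_0_1 : T.picMatrix 0 1 = 3)
    (e_0_2 : T.picMatrix 0 2 = 0)
    (e_1_0 : T.picMatrix 1 0 = 1)
    (e_1_2 : T.picMatrix 1 2 = 1)
    (e_2_0 : T.picMatrix 2 0 = 0)
    (e_2_1 : T.picMatrix 2 1 = 1)
    (cl : ∀ a b : Fin 4, a.val < 1 → 3 ≤ b.val → T.picMatrix a b = 0) :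
    Goal T := by
  by_cases hc : ∀ b : Fin 4, 3 ≤ b.val → T.picMatrix 1 b = 0
  · exact nd_126 T hG hmax e_0_1 e_0_2 e_1_0 e_1_2 e_2_0 e_2_1 (nt_cl_succ T 3 1 1 rfl cl hc)
  · obtain ⟨τ, hfix, cl', z, hne⟩ := nt_wlog_step T 3 (by norm_num) 1 (by norm_num) 1 (by decide) cl hc
    apply goal_relabel T τ
    refine ex_129 (ntRelabel T τ) (hG.relabel τ) ?_ ?_ ?_ ?_ ?_ ?_ ?_ cl' z hne
    · intro j
      show T.m (τ j) ≤ T.m (τ 0)
      rw [hfix 0 (by decide)]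
      exact hmax _
    · show T.picMatrix (τ 0) (τ 1) = 3
      rw [hfix 0 (by decide), hfix 1 (by decide)]
      exact e_0_1
    · show T.picMatrix (τ 0) (τ 2) = 0
      rw [hfix 0 (by decide), hfix 2 (by decide)]
      exact e_0_2
    · show T.picMatrix (τ 1) (τ 0) = 1
      rw [hfix 1 (by decide), hfix 0 (by decide)]
      exact e_1_0
    · show T.picMatrix (τ 1) (τ 2) = 1
      rw [hfix 1 (by decide), hfix 2 (by decide)]
      exact e_1_2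
    · show T.picMatrix (τ 2) (τ 0) = 0
      rw [hfix 2 (by decide), hfix 0 (by decide)]
      exact e_2_0
    · show T.picMatrix (τ 2) (τ 1) = 1
      rw [hfix 2 (by decide), hfix 1 (by decide)]
      exact e_2_1

theorem ex_124 (T : Models.NumericalType 4)
    (hG : NTGood T)
    (hmax : ∀ j, T.m j ≤ T.m 0)
    (e_0_1 : T.picMatrix 0 1 = 3)
    (e_1_0 : T.picMatrix 1 0 = 1)
    (cl : ∀ a b : Fin 4, a.val < 1 → 3 ≤ b.val → T.picMatrix a b = 0)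
    (z : ∀ a : Fin 4, a.val < 1 → T.picMatrix a 2 = 0)
    (hne : T.picMatrix 1 2 ≠ 0) :
    Goal T := by
  have e_0_2 : T.picMatrix 0 2 = 0 := z 0 (by decide)
  have e_2_0 : T.picMatrix 2 0 = 0 := nt_pic_zero_symm T 0 2 e_0_2
  obtain ⟨hg0, hdA, hdP, hnn, hrow, hsym, hpair⟩ := ntgood_data T (by norm_num) hG
  have hm_0 := T.m_pos 0
  have hw_0 := T.w_pos 0
  have hm_1 := T.m_pos 1
  have hw_1 := T.w_pos 1
  have hm_2 := T.m_pos 2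
  have hw_2 := T.w_pos 2
  have hx_1 := hmax 1
  have hx_2 := hmax 2
  have Z_0_3 := cl 0 3 (by decide) (by decide)
  have N_1_3 := mul_nonneg (hnn 1 3 (by decide)) (T.m_pos 3).le
  have N_2_3 := mul_nonneg (hnn 2 3 (by decide)) (T.m_pos 3).le
  have N_1_2 := mul_nonneg (hnn 1 2 (by decide)) (T.m_pos 2).le
  have N_2_1 := mul_nonneg (hnn 2 1 (by decide)) (T.m_pos 1).le
  have R_0 := hrow 0
  rw [Fin.sum_univ_four, hdP 0, e_0_1, e_0_2, Z_0_3] at R_0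
  have R_1 := hrow 1
  rw [Fin.sum_univ_four, hdP 1, e_1_0] at R_1
  have R_2 := hrow 2
  rw [Fin.sum_univ_four, hdP 2, e_2_0] at R_2
  have S_0_1 := hsym 0 1
  rw [e_0_1, e_1_0] at S_0_1
  have S_0_2 := hsym 0 2
  rw [e_0_2, e_2_0] at S_0_2
  have S_1_2 := hsym 1 2
  have Q_1 := hpair 1 2 (by decide)
  generalize e_1_2 : T.picMatrix 1 2 = x_1 at *
  generalize e_2_1 : T.picMatrix 2 1 = y_1 at *
  rcases Q_1 with ⟨rfl, rfl⟩ | ⟨rfl, rfl⟩ | ⟨rfl, rfl⟩ | ⟨rfl, rfl⟩ | ⟨rfl, rfl⟩ | ⟨rfl, rfl⟩ | ⟨rfl, rfl⟩ | ⟨rfl, rfl⟩ | ⟨rfl, rfl⟩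
  · exact absurd rfl hne
  · -- (1,2) = (1,1)
    exact nd_125 T hG hmax e_0_1 e_0_2 e_1_0 e_1_2 e_2_0 e_2_1 cl
  · -- (1,2) = (1,2)
    omega
  · -- (1,2) = (2,1)
    omega
  · -- (1,2) = (1,3)
    omega
  · -- (1,2) = (3,1)
    omega
  · -- (1,2) = (1,4)
    omega
  · -- (1,2) = (4,1)
    omega
  · -- (1,2) = (2,2)
    omega

theorem nd_122 (T : Models.NumericalType 4)
    (hG : NTGood T)
    (hmax : ∀ j, T.m j ≤ T.m 0)
    (e_0_1 : T.picMatrix 0 1 = 3)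
    (e_1_0 : T.picMatrix 1 0 = 1)
    (cl : ∀ a b : Fin 4, a.val < 1 → 2 ≤ b.val → T.picMatrix a b = 0) :
    Goal T := by
  by_cases hc : ∀ b : Fin 4, 2 ≤ b.val → T.picMatrix 1 b = 0
  · exact nd_123 T hG hmax e_0_1 e_1_0 (nt_cl_succ T 2 1 1 rfl cl hc)
  · obtain ⟨τ, hfix, cl', z, hne⟩ := nt_wlog_step T 2 (by norm_num) 1 (by norm_num) 1 (by decide) cl hc
    apply goal_relabel T τ
    refine ex_124 (ntRelabel T τ) (hG.relabel τ) ?_ ?_ ?_ cl' z hne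
    · intro j
      show T.m (τ j) ≤ T.m (τ 0)
      rw [hfix 0 (by decide)]
      exact hmax _
    · show T.picMatrix (τ 0) (τ 1) = 3
      rw [hfix 0 (by decide), hfix 1 (by decide)]
      exact e_0_1
    · show T.picMatrix (τ 1) (τ 0) = 1
      rw [hfix 1 (by decide), hfix 0 (by decide)]
      exact e_1_0

theorem nd_134 (T : Models.NumericalType 4)
    (hG : NTGood T)
    (hmax : ∀ j, T.m j ≤ T.m 0)
    (e_0_1 : T.picMatrix 0 1 = 3)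
    (e_0_2 : T.picMatrix 0 2 = 1)
    (e_1_0 : T.picMatrix 1 0 = 1)
    (e_1_2 : T.picMatrix 1 2 = 0)
    (e_2_0 : T.picMatrix 2 0 = 1)
    (e_2_1 : T.picMatrix 2 1 = 0)
    (cl : ∀ a b : Fin 4, a.val < 3 → 3 ≤ b.val → T.picMatrix a b = 0) :
    Goal T := by
  exact (nt_closed_false T 3 (by norm_num) (by norm_num) cl).elim

theorem ex_135 (T : Models.NumericalType 4)
    (hG : NTGood T)
    (hmax : ∀ j, T.m j ≤ T.m 0)
    (e_0_1 : T.picMatrix 0 1 = 3)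
    (e_0_2 : T.picMatrix 0 2 = 1)
    (e_1_0 : T.picMatrix 1 0 = 1)
    (e_1_2 : T.picMatrix 1 2 = 0)
    (e_2_0 : T.picMatrix 2 0 = 1)
    (e_2_1 : T.picMatrix 2 1 = 0)
    (cl : ∀ a b : Fin 4, a.val < 2 → 4 ≤ b.val → T.picMatrix a b = 0)
    (z : ∀ a : Fin 4, a.val < 2 → T.picMatrix a 3 = 0)
    (hne : T.picMatrix 2 3 ≠ 0) :
    Goal T := by
  have e_0_3 : T.picMatrix 0 3 = 0 := z 0 (by decide)
  have e_3_0 : T.picMatrix 3 0 = 0 := nt_pic_zero_symm T 0 3 e_0_3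
  have e_1_3 : T.picMatrix 1 3 = 0 := z 1 (by decide)
  have e_3_1 : T.picMatrix 3 1 = 0 := nt_pic_zero_symm T 1 3 e_1_3
  obtain ⟨hg0, hdA, hdP, hnn, hrow, hsym, hpair⟩ := ntgood_data T (by norm_num) hG
  have hm_0 := T.m_pos 0
  have hw_0 := T.w_pos 0
  have hm_1 := T.m_pos 1
  have hw_1 := T.w_pos 1
  have hm_2 := T.m_pos 2
  have hw_2 := T.w_pos 2
  have hm_3 := T.m_pos 3
  have hw_3 := T.w_pos 3
  have hx_1 := hmax 1
  have hx_2 := hmax 2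
  have hx_3 := hmax 3
  have N_2_3 := mul_nonneg (hnn 2 3 (by decide)) (T.m_pos 3).le
  have N_3_2 := mul_nonneg (hnn 3 2 (by decide)) (T.m_pos 2).le
  have R_0 := hrow 0
  rw [Fin.sum_univ_four, hdP 0, e_0_1, e_0_2, e_0_3] at R_0
  have R_1 := hrow 1
  rw [Fin.sum_univ_four, hdP 1, e_1_0, e_1_2, e_1_3] at R_1
  have R_2 := hrow 2
  rw [Fin.sum_univ_four, hdP 2, e_2_0, e_2_1] at R_2
  have R_3 := hrow 3
  rw [Fin.sum_univ_four, hdP 3, e_3_0, e_3_1] at R_3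
  have S_0_1 := hsym 0 1
  rw [e_0_1, e_1_0] at S_0_1
  have S_0_2 := hsym 0 2
  rw [e_0_2, e_2_0] at S_0_2
  have S_0_3 := hsym 0 3
  rw [e_0_3, e_3_0] at S_0_3
  have S_1_2 := hsym 1 2
  rw [e_1_2, e_2_1] at S_1_2
  have S_1_3 := hsym 1 3
  rw [e_1_3, e_3_1] at S_1_3
  have S_2_3 := hsym 2 3
  have Q_2 := hpair 2 3 (by decide)
  generalize e_2_3 : T.picMatrix 2 3 = x_2 at *
  generalize e_3_2 : T.picMatrix 3 2 = y_2 at *
  rcases Q_2 with ⟨rfl, rfl⟩ | ⟨rfl, rfl⟩ | ⟨rfl, rfl⟩ | ⟨rfl, rfl⟩ | ⟨rfl, rfl⟩ | ⟨rfl, rfl⟩ | ⟨rfl, rfl⟩ | ⟨rfl, rfl⟩ | ⟨rfl, rfl⟩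
  · exact absurd rfl hne
  · -- (2,3) = (1,1)
    omega
  · -- (2,3) = (1,2)
    omega
  · -- (2,3) = (2,1)
    omega
  · -- (2,3) = (1,3)
    omega
  · -- (2,3) = (3,1)
    omega
  · -- (2,3) = (1,4)
    omega
  · -- (2,3) = (4,1)
    omega
  · -- (2,3) = (2,2)
    omega

theorem nd_133 (T : Models.NumericalType 4)
    (hG : NTGood T)
    (hmax : ∀ j, T.m j ≤ T.m 0)
    (e_0_1 : T.picMatrix 0 1 = 3)
    (e_0_2 : T.picMatrix 0 2 = 1)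
    (e_1_0 : T.picMatrix 1 0 = 1)
    (e_1_2 : T.picMatrix 1 2 = 0)
    (e_2_0 : T.picMatrix 2 0 = 1)
    (e_2_1 : T.picMatrix 2 1 = 0)
    (cl : ∀ a b : Fin 4, a.val < 2 → 3 ≤ b.val → T.picMatrix a b = 0) :
    Goal T := by
  by_cases hc : ∀ b : Fin 4, 3 ≤ b.val → T.picMatrix 2 b = 0
  · exact nd_134 T hG hmax e_0_1 e_0_2 e_1_0 e_1_2 e_2_0 e_2_1 (nt_cl_succ T 3 2 2 rfl cl hc)
  · obtain ⟨τ, hfix, cl', z, hne⟩ := nt_wlog_step T 3 (by norm_num) 2 (by norm_num) 2 (by decide) cl hc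
    apply goal_relabel T τ
    refine ex_135 (ntRelabel T τ) (hG.relabel τ) ?_ ?_ ?_ ?_ ?_ ?_ ?_ cl' z hne
    · intro j
      show T.m (τ j) ≤ T.m (τ 0)
      rw [hfix 0 (by decide)]
      exact hmax _
    · show T.picMatrix (τ 0) (τ 1) = 3
      rw [hfix 0 (by decide), hfix 1 (by decide)]
      exact e_0_1
    · show T.picMatrix (τ 0) (τ 2) = 1
      rw [hfix 0 (by decide), hfix 2 (by decide)]
      exact e_0_2
    · show T.picMatrix (τ 1) (τ 0) = 1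
      rw [hfix 1 (by decide), hfix 0 (by decide)]
      exact e_1_0
    · show T.picMatrix (τ 1) (τ 2) = 0
      rw [hfix 1 (by decide), hfix 2 (by decide)]
      exact e_1_2
    · show T.picMatrix (τ 2) (τ 0) = 1
      rw [hfix 2 (by decide), hfix 0 (by decide)]
      exact e_2_0
    · show T.picMatrix (τ 2) (τ 1) = 0
      rw [hfix 2 (by decide), hfix 1 (by decide)]
      exact e_2_1

theorem ex_136 (T : Models.NumericalType 4)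
    (hG : NTGood T)
    (hmax : ∀ j, T.m j ≤ T.m 0)
    (e_0_1 : T.picMatrix 0 1 = 3)
    (e_0_2 : T.picMatrix 0 2 = 1)
    (e_1_0 : T.picMatrix 1 0 = 1)
    (e_1_2 : T.picMatrix 1 2 = 0)
    (e_2_0 : T.picMatrix 2 0 = 1)
    (e_2_1 : T.picMatrix 2 1 = 0)
    (cl : ∀ a b : Fin 4, a.val < 1 → 4 ≤ b.val → T.picMatrix a b = 0)
    (z : ∀ a : Fin 4, a.val < 1 → T.picMatrix a 3 = 0)
    (hne : T.picMatrix 1 3 ≠ 0) :
    Goal T := by
  have e_0_3 : T.picMatrix 0 3 = 0 := z 0 (by decide)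
  have e_3_0 : T.picMatrix 3 0 = 0 := nt_pic_zero_symm T 0 3 e_0_3
  obtain ⟨hg0, hdA, hdP, hnn, hrow, hsym, hpair⟩ := ntgood_data T (by norm_num) hG
  have hm_0 := T.m_pos 0
  have hw_0 := T.w_pos 0
  have hm_1 := T.m_pos 1
  have hw_1 := T.w_pos 1
  have hm_2 := T.m_pos 2
  have hw_2 := T.w_pos 2
  have hm_3 := T.m_pos 3
  have hw_3 := T.w_pos 3
  have hx_1 := hmax 1
  have hx_2 := hmax 2
  have hx_3 := hmax 3
  have N_1_3 := mul_nonneg (hnn 1 3 (by decide)) (T.m_pos 3).le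
  have N_3_1 := mul_nonneg (hnn 3 1 (by decide)) (T.m_pos 1).le
  have N_2_3 := mul_nonneg (hnn 2 3 (by decide)) (T.m_pos 3).le
  have N_3_2 := mul_nonneg (hnn 3 2 (by decide)) (T.m_pos 2).le
  have R_0 := hrow 0
  rw [Fin.sum_univ_four, hdP 0, e_0_1, e_0_2, e_0_3] at R_0
  have R_1 := hrow 1
  rw [Fin.sum_univ_four, hdP 1, e_1_0, e_1_2] at R_1
  have R_2 := hrow 2
  rw [Fin.sum_univ_four, hdP 2, e_2_0, e_2_1] at R_2
  have R_3 := hrow 3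
  rw [Fin.sum_univ_four, hdP 3, e_3_0] at R_3
  have S_0_1 := hsym 0 1
  rw [e_0_1, e_1_0] at S_0_1
  have S_0_2 := hsym 0 2
  rw [e_0_2, e_2_0] at S_0_2
  have S_0_3 := hsym 0 3
  rw [e_0_3, e_3_0] at S_0_3
  have S_1_2 := hsym 1 2
  rw [e_1_2, e_2_1] at S_1_2
  have S_1_3 := hsym 1 3
  have S_2_3 := hsym 2 3
  have Q_1 := hpair 1 3 (by decide)
  have Q_2 := hpair 2 3 (by decide)
  generalize e_1_3 : T.picMatrix 1 3 = x_1 at *
  generalize e_3_1 : T.picMatrix 3 1 = y_1 at *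
  generalize e_2_3 : T.picMatrix 2 3 = x_2 at *
  generalize e_3_2 : T.picMatrix 3 2 = y_2 at *
  rcases Q_1 with ⟨rfl, rfl⟩ | ⟨rfl, rfl⟩ | ⟨rfl, rfl⟩ | ⟨rfl, rfl⟩ | ⟨rfl, rfl⟩ | ⟨rfl, rfl⟩ | ⟨rfl, rfl⟩ | ⟨rfl, rfl⟩ | ⟨rfl, rfl⟩
  · exact absurd rfl hne
  · omega
  · omega
  · omega
  · omega
  · omega
  · omega
  · omega
  · omega

theorem nd_132 (T : Models.NumericalType 4)
    (hG : NTGood T)
    (hmax : ∀ j, T.m j ≤ T.m 0)
    (e_0_1 : T.picMatrix 0 1 = 3)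
    (e_0_2 : T.picMatrix 0 2 = 1)
    (e_1_0 : T.picMatrix 1 0 = 1)
    (e_1_2 : T.picMatrix 1 2 = 0)
    (e_2_0 : T.picMatrix 2 0 = 1)
    (e_2_1 : T.picMatrix 2 1 = 0)
    (cl : ∀ a b : Fin 4, a.val < 1 → 3 ≤ b.val → T.picMatrix a b = 0) :
    Goal T := by
  by_cases hc : ∀ b : Fin 4, 3 ≤ b.val → T.picMatrix 1 b = 0
  · exact nd_133 T hG hmax e_0_1 e_0_2 e_1_0 e_1_2 e_2_0 e_2_1 (nt_cl_succ T 3 1 1 rfl cl hc)
  · obtain ⟨τ, hfix, cl', z, hne⟩ := nt_wlog_step T 3 (by norm_num) 1 (by norm_num) 1 (by decide) cl hc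
    apply goal_relabel T τ
    refine ex_136 (ntRelabel T τ) (hG.relabel τ) ?_ ?_ ?_ ?_ ?_ ?_ ?_ cl' z hne
    · intro j
      show T.m (τ j) ≤ T.m (τ 0)
      rw [hfix 0 (by decide)]
      exact hmax _
    · show T.picMatrix (τ 0) (τ 1) = 3
      rw [hfix 0 (by decide), hfix 1 (by decide)]
      exact e_0_1
    · show T.picMatrix (τ 0) (τ 2) = 1
      rw [hfix 0 (by decide), hfix 2 (by decide)]
      exact e_0_2
    · show T.picMatrix (τ 1) (τ 0) = 1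
      rw [hfix 1 (by decide), hfix 0 (by decide)]
      exact e_1_0
    · show T.picMatrix (τ 1) (τ 2) = 0
      rw [hfix 1 (by decide), hfix 2 (by decide)]
      exact e_1_2
    · show T.picMatrix (τ 2) (τ 0) = 1
      rw [hfix 2 (by decide), hfix 0 (by decide)]
      exact e_2_0
    · show T.picMatrix (τ 2) (τ 1) = 0
      rw [hfix 2 (by decide), hfix 1 (by decide)]
      exact e_2_1

theorem ex_137 (T : Models.NumericalType 4)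
    (hG : NTGood T)
    (hmax : ∀ j, T.m j ≤ T.m 0)
    (e_0_1 : T.picMatrix 0 1 = 3)
    (e_0_2 : T.picMatrix 0 2 = 1)
    (e_1_0 : T.picMatrix 1 0 = 1)
    (e_1_2 : T.picMatrix 1 2 = 0)
    (e_2_0 : T.picMatrix 2 0 = 1)
    (e_2_1 : T.picMatrix 2 1 = 0)
    (cl : ∀ a b : Fin 4, a.val < 0 → 4 ≤ b.val → T.picMatrix a b = 0)
    (z : ∀ a : Fin 4, a.val < 0 → T.picMatrix a 3 = 0)
    (hne : T.picMatrix 0 3 ≠ 0) :
    Goal T := by
  obtain ⟨hg0, hdA, hdP, hnn, hrow, hsym, hpair⟩ := ntgood_data T (by norm_num) hG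
  have hm_0 := T.m_pos 0
  have hw_0 := T.w_pos 0
  have hm_1 := T.m_pos 1
  have hw_1 := T.w_pos 1
  have hm_2 := T.m_pos 2
  have hw_2 := T.w_pos 2
  have hm_3 := T.m_pos 3
  have hw_3 := T.w_pos 3
  have hx_1 := hmax 1
  have hx_2 := hmax 2
  have hx_3 := hmax 3
  have N_0_3 := mul_nonneg (hnn 0 3 (by decide)) (T.m_pos 3).le
  have N_3_0 := mul_nonneg (hnn 3 0 (by decide)) (T.m_pos 0).le
  have N_1_3 := mul_nonneg (hnn 1 3 (by decide)) (T.m_pos 3).le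
  have N_3_1 := mul_nonneg (hnn 3 1 (by decide)) (T.m_pos 1).le
  have N_2_3 := mul_nonneg (hnn 2 3 (by decide)) (T.m_pos 3).le
  have N_3_2 := mul_nonneg (hnn 3 2 (by decide)) (T.m_pos 2).le
  have R_0 := hrow 0
  rw [Fin.sum_univ_four, hdP 0, e_0_1, e_0_2] at R_0
  have R_1 := hrow 1
  rw [Fin.sum_univ_four, hdP 1, e_1_0, e_1_2] at R_1
  have R_2 := hrow 2
  rw [Fin.sum_univ_four, hdP 2, e_2_0, e_2_1] at R_2
  have R_3 := hrow 3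
  rw [Fin.sum_univ_four, hdP 3] at R_3
  have S_0_1 := hsym 0 1
  rw [e_0_1, e_1_0] at S_0_1
  have S_0_2 := hsym 0 2
  rw [e_0_2, e_2_0] at S_0_2
  have S_0_3 := hsym 0 3
  have S_1_2 := hsym 1 2
  rw [e_1_2, e_2_1] at S_1_2
  have S_1_3 := hsym 1 3
  have S_2_3 := hsym 2 3
  have Q_0 := hpair 0 3 (by decide)
  have Q_1 := hpair 1 3 (by decide)
  have Q_2 := hpair 2 3 (by decide)
  generalize e_0_3 : T.picMatrix 0 3 = x_0 at *
  generalize e_3_0 : T.picMatrix 3 0 = y_0 at *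
  generalize e_1_3 : T.picMatrix 1 3 = x_1 at *
  generalize e_3_1 : T.picMatrix 3 1 = y_1 at *
  generalize e_2_3 : T.picMatrix 2 3 = x_2 at *
  generalize e_3_2 : T.picMatrix 3 2 = y_2 at *
  rcases Q_0 with ⟨rfl, rfl⟩ | ⟨rfl, rfl⟩ | ⟨rfl, rfl⟩ | ⟨rfl, rfl⟩ | ⟨rfl, rfl⟩ | ⟨rfl, rfl⟩ | ⟨rfl, rfl⟩ | ⟨rfl, rfl⟩ | ⟨rfl, rfl⟩
  · exact absurd rfl hne
  · omega
  · omega
  · omega
  · omega
  · omega
  · omega
  · omega
  · omega

theorem nd_131 (T : Models.NumericalType 4)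
    (hG : NTGood T)
    (hmax : ∀ j, T.m j ≤ T.m 0)
    (e_0_1 : T.picMatrix 0 1 = 3)
    (e_0_2 : T.picMatrix 0 2 = 1)
    (e_1_0 : T.picMatrix 1 0 = 1)
    (e_1_2 : T.picMatrix 1 2 = 0)
    (e_2_0 : T.picMatrix 2 0 = 1)
    (e_2_1 : T.picMatrix 2 1 = 0)
    (cl : ∀ a b : Fin 4, a.val < 0 → 3 ≤ b.val → T.picMatrix a b = 0) :
    Goal T := by
  by_cases hc : ∀ b : Fin 4, 3 ≤ b.val → T.picMatrix 0 b = 0
  · exact nd_132 T hG hmax e_0_1 e_0_2 e_1_0 e_1_2 e_2_0 e_2_1 (nt_cl_succ T 3 0 0 rfl cl hc)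
  · obtain ⟨τ, hfix, cl', z, hne⟩ := nt_wlog_step T 3 (by norm_num) 0 (by norm_num) 0 (by decide) cl hc
    apply goal_relabel T τ
    refine ex_137 (ntRelabel T τ) (hG.relabel τ) ?_ ?_ ?_ ?_ ?_ ?_ ?_ cl' z hne
    · intro j
      show T.m (τ j) ≤ T.m (τ 0)
      rw [hfix 0 (by decide)]
      exact hmax _
    · show T.picMatrix (τ 0) (τ 1) = 3
      rw [hfix 0 (by decide), hfix 1 (by decide)]
      exact e_0_1
    · show T.picMatrix (τ 0) (τ 2) = 1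
      rw [hfix 0 (by decide), hfix 2 (by decide)]
      exact e_0_2
    · show T.picMatrix (τ 1) (τ 0) = 1
      rw [hfix 1 (by decide), hfix 0 (by decide)]
      exact e_1_0
    · show T.picMatrix (τ 1) (τ 2) = 0
      rw [hfix 1 (by decide), hfix 2 (by decide)]
      exact e_1_2
    · show T.picMatrix (τ 2) (τ 0) = 1
      rw [hfix 2 (by decide), hfix 0 (by decide)]
      exact e_2_0
    · show T.picMatrix (τ 2) (τ 1) = 0
      rw [hfix 2 (by decide), hfix 1 (by decide)]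
      exact e_2_1

theorem ex_130 (T : Models.NumericalType 4)
    (hG : NTGood T)
    (hmax : ∀ j, T.m j ≤ T.m 0)
    (e_0_1 : T.picMatrix 0 1 = 3)
    (e_1_0 : T.picMatrix 1 0 = 1)
    (cl : ∀ a b : Fin 4, a.val < 0 → 3 ≤ b.val → T.picMatrix a b = 0)
    (z : ∀ a : Fin 4, a.val < 0 → T.picMatrix a 2 = 0)
    (hne : T.picMatrix 0 2 ≠ 0) :
    Goal T := by
  obtain ⟨hg0, hdA, hdP, hnn, hrow, hsym, hpair⟩ := ntgood_data T (by norm_num) hG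
  have hm_0 := T.m_pos 0
  have hw_0 := T.w_pos 0
  have hm_1 := T.m_pos 1
  have hw_1 := T.w_pos 1
  have hm_2 := T.m_pos 2
  have hw_2 := T.w_pos 2
  have hx_1 := hmax 1
  have hx_2 := hmax 2
  have N_0_3 := mul_nonneg (hnn 0 3 (by decide)) (T.m_pos 3).le
  have N_1_3 := mul_nonneg (hnn 1 3 (by decide)) (T.m_pos 3).le
  have N_2_3 := mul_nonneg (hnn 2 3 (by decide)) (T.m_pos 3).le
  have N_0_2 := mul_nonneg (hnn 0 2 (by decide)) (T.m_pos 2).le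
  have N_2_0 := mul_nonneg (hnn 2 0 (by decide)) (T.m_pos 0).le
  have N_1_2 := mul_nonneg (hnn 1 2 (by decide)) (T.m_pos 2).le
  have N_2_1 := mul_nonneg (hnn 2 1 (by decide)) (T.m_pos 1).le
  have R_0 := hrow 0
  rw [Fin.sum_univ_four, hdP 0, e_0_1] at R_0
  have R_1 := hrow 1
  rw [Fin.sum_univ_four, hdP 1, e_1_0] at R_1
  have R_2 := hrow 2
  rw [Fin.sum_univ_four, hdP 2] at R_2
  have S_0_1 := hsym 0 1
  rw [e_0_1, e_1_0] at S_0_1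
  have S_0_2 := hsym 0 2
  have S_1_2 := hsym 1 2
  have Q_0 := hpair 0 2 (by decide)
  have Q_1 := hpair 1 2 (by decide)
  generalize e_0_2 : T.picMatrix 0 2 = x_0 at *
  generalize e_2_0 : T.picMatrix 2 0 = y_0 at *
  generalize e_1_2 : T.picMatrix 1 2 = x_1 at *
  generalize e_2_1 : T.picMatrix 2 1 = y_1 at *
  rcases Q_0 with ⟨rfl, rfl⟩ | ⟨rfl, rfl⟩ | ⟨rfl, rfl⟩ | ⟨rfl, rfl⟩ | ⟨rfl, rfl⟩ | ⟨rfl, rfl⟩ | ⟨rfl, rfl⟩ | ⟨rfl, rfl⟩ | ⟨rfl, rfl⟩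
  · exact absurd rfl hne
  · -- (0,2) = (1,1)
    rcases Q_1 with ⟨rfl, rfl⟩ | ⟨rfl, rfl⟩ | ⟨rfl, rfl⟩ | ⟨rfl, rfl⟩ | ⟨rfl, rfl⟩ | ⟨rfl, rfl⟩ | ⟨rfl, rfl⟩ | ⟨rfl, rfl⟩ | ⟨rfl, rfl⟩
    · -- (1,2) = (0,0)
      exact nd_131 T hG hmax e_0_1 e_0_2 e_1_0 e_1_2 e_2_0 e_2_1 cl
    · -- (1,2) = (1,1)
      omega
    · -- (1,2) = (1,2)
      omega
    · -- (1,2) = (2,1)
      omega
    · -- (1,2) = (1,3)
      omega
    · -- (1,2) = (3,1)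
      omega
    · -- (1,2) = (1,4)
      omega
    · -- (1,2) = (4,1)
      omega
    · -- (1,2) = (2,2)
      omega
  · omega
  · omega
  · omega
  · omega
  · omega
  · omega
  · omega

theorem nd_121 (T : Models.NumericalType 4)
    (hG : NTGood T)
    (hmax : ∀ j, T.m j ≤ T.m 0)
    (e_0_1 : T.picMatrix 0 1 = 3)
    (e_1_0 : T.picMatrix 1 0 = 1)
    (cl : ∀ a b : Fin 4, a.val < 0 → 2 ≤ b.val → T.picMatrix a b = 0) :
    Goal T := by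
  by_cases hc : ∀ b : Fin 4, 2 ≤ b.val → T.picMatrix 0 b = 0
  · exact nd_122 T hG hmax e_0_1 e_1_0 (nt_cl_succ T 2 0 0 rfl cl hc)
  · obtain ⟨τ, hfix, cl', z, hne⟩ := nt_wlog_step T 2 (by norm_num) 0 (by norm_num) 0 (by decide) cl hc
    apply goal_relabel T τ
    refine ex_130 (ntRelabel T τ) (hG.relabel τ) ?_ ?_ ?_ cl' z hne
    · intro j
      show T.m (τ j) ≤ T.m (τ 0)
      rw [hfix 0 (by decide)]
      exact hmax _
    · show T.picMatrix (τ 0) (τ 1) = 3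
      rw [hfix 0 (by decide), hfix 1 (by decide)]
      exact e_0_1
    · show T.picMatrix (τ 1) (τ 0) = 1
      rw [hfix 1 (by decide), hfix 0 (by decide)]
      exact e_1_0

theorem nd_140 (T : Models.NumericalType 4)
    (hG : NTGood T)
    (hmax : ∀ j, T.m j ≤ T.m 0)
    (e_0_1 : T.picMatrix 0 1 = 4)
    (e_1_0 : T.picMatrix 1 0 = 1)
    (cl : ∀ a b : Fin 4, a.val < 2 → 2 ≤ b.val → T.picMatrix a b = 0) :
    Goal T := by
  exact (nt_closed_false T 2 (by norm_num) (by norm_num) cl).elim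

theorem ex_141 (T : Models.NumericalType 4)
    (hG : NTGood T)
    (hmax : ∀ j, T.m j ≤ T.m 0)
    (e_0_1 : T.picMatrix 0 1 = 4)
    (e_1_0 : T.picMatrix 1 0 = 1)
    (cl : ∀ a b : Fin 4, a.val < 1 → 3 ≤ b.val → T.picMatrix a b = 0)
    (z : ∀ a : Fin 4, a.val < 1 → T.picMatrix a 2 = 0)
    (hne : T.picMatrix 1 2 ≠ 0) :
    Goal T := by
  have e_0_2 : T.picMatrix 0 2 = 0 := z 0 (by decide)
  have e_2_0 : T.picMatrix 2 0 = 0 := nt_pic_zero_symm T 0 2 e_0_2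
  obtain ⟨hg0, hdA, hdP, hnn, hrow, hsym, hpair⟩ := ntgood_data T (by norm_num) hG
  have hm_0 := T.m_pos 0
  have hw_0 := T.w_pos 0
  have hm_1 := T.m_pos 1
  have hw_1 := T.w_pos 1
  have hm_2 := T.m_pos 2
  have hw_2 := T.w_pos 2
  have hx_1 := hmax 1
  have hx_2 := hmax 2
  have Z_0_3 := cl 0 3 (by decide) (by decide)
  have N_1_3 := mul_nonneg (hnn 1 3 (by decide)) (T.m_pos 3).le
  have N_2_3 := mul_nonneg (hnn 2 3 (by decide)) (T.m_pos 3).le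
  have N_1_2 := mul_nonneg (hnn 1 2 (by decide)) (T.m_pos 2).le
  have N_2_1 := mul_nonneg (hnn 2 1 (by decide)) (T.m_pos 1).le
  have R_0 := hrow 0
  rw [Fin.sum_univ_four, hdP 0, e_0_1, e_0_2, Z_0_3] at R_0
  have R_1 := hrow 1
  rw [Fin.sum_univ_four, hdP 1, e_1_0] at R_1
  have R_2 := hrow 2
  rw [Fin.sum_univ_four, hdP 2, e_2_0] at R_2
  have S_0_1 := hsym 0 1
  rw [e_0_1, e_1_0] at S_0_1
  have S_0_2 := hsym 0 2
  rw [e_0_2, e_2_0] at S_0_2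
  have S_1_2 := hsym 1 2
  have Q_1 := hpair 1 2 (by decide)
  generalize e_1_2 : T.picMatrix 1 2 = x_1 at *
  generalize e_2_1 : T.picMatrix 2 1 = y_1 at *
  rcases Q_1 with ⟨rfl, rfl⟩ | ⟨rfl, rfl⟩ | ⟨rfl, rfl⟩ | ⟨rfl, rfl⟩ | ⟨rfl, rfl⟩ | ⟨rfl, rfl⟩ | ⟨rfl, rfl⟩ | ⟨rfl, rfl⟩ | ⟨rfl, rfl⟩
  · exact absurd rfl hne
  · -- (1,2) = (1,1)
    omega
  · -- (1,2) = (1,2)
    omega
  · -- (1,2) = (2,1)
    omega
  · -- (1,2) = (1,3)
    omega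
  · -- (1,2) = (3,1)
    omega
  · -- (1,2) = (1,4)
    omega
  · -- (1,2) = (4,1)
    omega
  · -- (1,2) = (2,2)
    omega

theorem nd_139 (T : Models.NumericalType 4)
    (hG : NTGood T)
    (hmax : ∀ j, T.m j ≤ T.m 0)
    (e_0_1 : T.picMatrix 0 1 = 4)
    (e_1_0 : T.picMatrix 1 0 = 1)
    (cl : ∀ a b : Fin 4, a.val < 1 → 2 ≤ b.val → T.picMatrix a b = 0) :
    Goal T := by
  by_cases hc : ∀ b : Fin 4, 2 ≤ b.val → T.picMatrix 1 b = 0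
  · exact nd_140 T hG hmax e_0_1 e_1_0 (nt_cl_succ T 2 1 1 rfl cl hc)
  · obtain ⟨τ, hfix, cl', z, hne⟩ := nt_wlog_step T 2 (by norm_num) 1 (by norm_num) 1 (by decide) cl hc
    apply goal_relabel T τ
    refine ex_141 (ntRelabel T τ) (hG.relabel τ) ?_ ?_ ?_ cl' z hne
    · intro j
      show T.m (τ j) ≤ T.m (τ 0)
      rw [hfix 0 (by decide)]
      exact hmax _
    · show T.picMatrix (τ 0) (τ 1) = 4
      rw [hfix 0 (by decide), hfix 1 (by decide)]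
      exact e_0_1
    · show T.picMatrix (τ 1) (τ 0) = 1
      rw [hfix 1 (by decide), hfix 0 (by decide)]
      exact e_1_0

theorem ex_142 (T : Models.NumericalType 4)
    (hG : NTGood T)
    (hmax : ∀ j, T.m j ≤ T.m 0)
    (e_0_1 : T.picMatrix 0 1 = 4)
    (e_1_0 : T.picMatrix 1 0 = 1)
    (cl : ∀ a b : Fin 4, a.val < 0 → 3 ≤ b.val → T.picMatrix a b = 0)
    (z : ∀ a : Fin 4, a.val < 0 → T.picMatrix a 2 = 0)
    (hne : T.picMatrix 0 2 ≠ 0) :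
    Goal T := by
  obtain ⟨hg0, hdA, hdP, hnn, hrow, hsym, hpair⟩ := ntgood_data T (by norm_num) hG
  have hm_0 := T.m_pos 0
  have hw_0 := T.w_pos 0
  have hm_1 := T.m_pos 1
  have hw_1 := T.w_pos 1
  have hm_2 := T.m_pos 2
  have hw_2 := T.w_pos 2
  have hx_1 := hmax 1
  have hx_2 := hmax 2
  have N_0_3 := mul_nonneg (hnn 0 3 (by decide)) (T.m_pos 3).le
  have N_1_3 := mul_nonneg (hnn 1 3 (by decide)) (T.m_pos 3).le
  have N_2_3 := mul_nonneg (hnn 2 3 (by decide)) (T.m_pos 3).le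
  have N_0_2 := mul_nonneg (hnn 0 2 (by decide)) (T.m_pos 2).le
  have N_2_0 := mul_nonneg (hnn 2 0 (by decide)) (T.m_pos 0).le
  have N_1_2 := mul_nonneg (hnn 1 2 (by decide)) (T.m_pos 2).le
  have N_2_1 := mul_nonneg (hnn 2 1 (by decide)) (T.m_pos 1).le
  have R_0 := hrow 0
  rw [Fin.sum_univ_four, hdP 0, e_0_1] at R_0
  have R_1 := hrow 1
  rw [Fin.sum_univ_four, hdP 1, e_1_0] at R_1
  have R_2 := hrow 2
  rw [Fin.sum_univ_four, hdP 2] at R_2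
  have S_0_1 := hsym 0 1
  rw [e_0_1, e_1_0] at S_0_1
  have S_0_2 := hsym 0 2
  have S_1_2 := hsym 1 2
  have Q_0 := hpair 0 2 (by decide)
  have Q_1 := hpair 1 2 (by decide)
  generalize e_0_2 : T.picMatrix 0 2 = x_0 at *
  generalize e_2_0 : T.picMatrix 2 0 = y_0 at *
  generalize e_1_2 : T.picMatrix 1 2 = x_1 at *
  generalize e_2_1 : T.picMatrix 2 1 = y_1 at *
  rcases Q_0 with ⟨rfl, rfl⟩ | ⟨rfl, rfl⟩ | ⟨rfl, rfl⟩ | ⟨rfl, rfl⟩ | ⟨rfl, rfl⟩ | ⟨rfl, rfl⟩ | ⟨rfl, rfl⟩ | ⟨rfl, rfl⟩ | ⟨rfl, rfl⟩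
  · exact absurd rfl hne
  · omega
  · omega
  · omega
  · omega
  · omega
  · omega
  · omega
  · omega

theorem nd_138 (T : Models.NumericalType 4)
    (hG : NTGood T)
    (hmax : ∀ j, T.m j ≤ T.m 0)
    (e_0_1 : T.picMatrix 0 1 = 4)
    (e_1_0 : T.picMatrix 1 0 = 1)
    (cl : ∀ a b : Fin 4, a.val < 0 → 2 ≤ b.val → T.picMatrix a b = 0) :
    Goal T := by
  by_cases hc : ∀ b : Fin 4, 2 ≤ b.val → T.picMatrix 0 b = 0
  · exact nd_139 T hG hmax e_0_1 e_1_0 (nt_cl_succ T 2 0 0 rfl cl hc)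
  · obtain ⟨τ, hfix, cl', z, hne⟩ := nt_wlog_step T 2 (by norm_num) 0 (by norm_num) 0 (by decide) cl hc
    apply goal_relabel T τ
    refine ex_142 (ntRelabel T τ) (hG.relabel τ) ?_ ?_ ?_ cl' z hne
    · intro j
      show T.m (τ j) ≤ T.m (τ 0)
      rw [hfix 0 (by decide)]
      exact hmax _
    · show T.picMatrix (τ 0) (τ 1) = 4
      rw [hfix 0 (by decide), hfix 1 (by decide)]
      exact e_0_1
    · show T.picMatrix (τ 1) (τ 0) = 1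
      rw [hfix 1 (by decide), hfix 0 (by decide)]
      exact e_1_0

theorem nd_145 (T : Models.NumericalType 4)
    (hG : NTGood T)
    (hmax : ∀ j, T.m j ≤ T.m 0)
    (e_0_1 : T.picMatrix 0 1 = 2)
    (e_1_0 : T.picMatrix 1 0 = 2)
    (cl : ∀ a b : Fin 4, a.val < 2 → 2 ≤ b.val → T.picMatrix a b = 0) :
    Goal T := by
  exact (nt_closed_false T 2 (by norm_num) (by norm_num) cl).elim

theorem ex_146 (T : Models.NumericalType 4)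
    (hG : NTGood T)
    (hmax : ∀ j, T.m j ≤ T.m 0)
    (e_0_1 : T.picMatrix 0 1 = 2)
    (e_1_0 : T.picMatrix 1 0 = 2)
    (cl : ∀ a b : Fin 4, a.val < 1 → 3 ≤ b.val → T.picMatrix a b = 0)
    (z : ∀ a : Fin 4, a.val < 1 → T.picMatrix a 2 = 0)
    (hne : T.picMatrix 1 2 ≠ 0) :
    Goal T := by
  have e_0_2 : T.picMatrix 0 2 = 0 := z 0 (by decide)
  have e_2_0 : T.picMatrix 2 0 = 0 := nt_pic_zero_symm T 0 2 e_0_2
  obtain ⟨hg0, hdA, hdP, hnn, hrow, hsym, hpair⟩ := ntgood_data T (by norm_num) hG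
  have hm_0 := T.m_pos 0
  have hw_0 := T.w_pos 0
  have hm_1 := T.m_pos 1
  have hw_1 := T.w_pos 1
  have hm_2 := T.m_pos 2
  have hw_2 := T.w_pos 2
  have hx_1 := hmax 1
  have hx_2 := hmax 2
  have Z_0_3 := cl 0 3 (by decide) (by decide)
  have N_1_3 := mul_nonneg (hnn 1 3 (by decide)) (T.m_pos 3).le
  have N_2_3 := mul_nonneg (hnn 2 3 (by decide)) (T.m_pos 3).le
  have N_1_2 := mul_nonneg (hnn 1 2 (by decide)) (T.m_pos 2).le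
  have N_2_1 := mul_nonneg (hnn 2 1 (by decide)) (T.m_pos 1).le
  have R_0 := hrow 0
  rw [Fin.sum_univ_four, hdP 0, e_0_1, e_0_2, Z_0_3] at R_0
  have R_1 := hrow 1
  rw [Fin.sum_univ_four, hdP 1, e_1_0] at R_1
  have R_2 := hrow 2
  rw [Fin.sum_univ_four, hdP 2, e_2_0] at R_2
  have S_0_1 := hsym 0 1
  rw [e_0_1, e_1_0] at S_0_1
  have S_0_2 := hsym 0 2
  rw [e_0_2, e_2_0] at S_0_2
  have S_1_2 := hsym 1 2
  have Q_1 := hpair 1 2 (by decide)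
  generalize e_1_2 : T.picMatrix 1 2 = x_1 at *
  generalize e_2_1 : T.picMatrix 2 1 = y_1 at *
  rcases Q_1 with ⟨rfl, rfl⟩ | ⟨rfl, rfl⟩ | ⟨rfl, rfl⟩ | ⟨rfl, rfl⟩ | ⟨rfl, rfl⟩ | ⟨rfl, rfl⟩ | ⟨rfl, rfl⟩ | ⟨rfl, rfl⟩ | ⟨rfl, rfl⟩
  · exact absurd rfl hne
  · -- (1,2) = (1,1)
    omega
  · -- (1,2) = (1,2)
    omega
  · -- (1,2) = (2,1)
    omega
  · -- (1,2) = (1,3)
    omega
  · -- (1,2) = (3,1)
    omega
  · -- (1,2) = (1,4)
    omega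
  · -- (1,2) = (4,1)
    omega
  · -- (1,2) = (2,2)
    omega

theorem nd_144 (T : Models.NumericalType 4)
    (hG : NTGood T)
    (hmax : ∀ j, T.m j ≤ T.m 0)
    (e_0_1 : T.picMatrix 0 1 = 2)
    (e_1_0 : T.picMatrix 1 0 = 2)
    (cl : ∀ a b : Fin 4, a.val < 1 → 2 ≤ b.val → T.picMatrix a b = 0) :
    Goal T := by
  by_cases hc : ∀ b : Fin 4, 2 ≤ b.val → T.picMatrix 1 b = 0
  · exact nd_145 T hG hmax e_0_1 e_1_0 (nt_cl_succ T 2 1 1 rfl cl hc)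
  · obtain ⟨τ, hfix, cl', z, hne⟩ := nt_wlog_step T 2 (by norm_num) 1 (by norm_num) 1 (by decide) cl hc
    apply goal_relabel T τ
    refine ex_146 (ntRelabel T τ) (hG.relabel τ) ?_ ?_ ?_ cl' z hne
    · intro j
      show T.m (τ j) ≤ T.m (τ 0)
      rw [hfix 0 (by decide)]
      exact hmax _
    · show T.picMatrix (τ 0) (τ 1) = 2
      rw [hfix 0 (by decide), hfix 1 (by decide)]
      exact e_0_1
    · show T.picMatrix (τ 1) (τ 0) = 2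
      rw [hfix 1 (by decide), hfix 0 (by decide)]
      exact e_1_0

theorem ex_147 (T : Models.NumericalType 4)
    (hG : NTGood T)
    (hmax : ∀ j, T.m j ≤ T.m 0)
    (e_0_1 : T.picMatrix 0 1 = 2)
    (e_1_0 : T.picMatrix 1 0 = 2)
    (cl : ∀ a b : Fin 4, a.val < 0 → 3 ≤ b.val → T.picMatrix a b = 0)
    (z : ∀ a : Fin 4, a.val < 0 → T.picMatrix a 2 = 0)
    (hne : T.picMatrix 0 2 ≠ 0) :
    Goal T := by
  obtain ⟨hg0, hdA, hdP, hnn, hrow, hsym, hpair⟩ := ntgood_data T (by norm_num) hG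
  have hm_0 := T.m_pos 0
  have hw_0 := T.w_pos 0
  have hm_1 := T.m_pos 1
  have hw_1 := T.w_pos 1
  have hm_2 := T.m_pos 2
  have hw_2 := T.w_pos 2
  have hx_1 := hmax 1
  have hx_2 := hmax 2
  have N_0_3 := mul_nonneg (hnn 0 3 (by decide)) (T.m_pos 3).le
  have N_1_3 := mul_nonneg (hnn 1 3 (by decide)) (T.m_pos 3).le
  have N_2_3 := mul_nonneg (hnn 2 3 (by decide)) (T.m_pos 3).le
  have N_0_2 := mul_nonneg (hnn 0 2 (by decide)) (T.m_pos 2).le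
  have N_2_0 := mul_nonneg (hnn 2 0 (by decide)) (T.m_pos 0).le
  have N_1_2 := mul_nonneg (hnn 1 2 (by decide)) (T.m_pos 2).le
  have N_2_1 := mul_nonneg (hnn 2 1 (by decide)) (T.m_pos 1).le
  have R_0 := hrow 0
  rw [Fin.sum_univ_four, hdP 0, e_0_1] at R_0
  have R_1 := hrow 1
  rw [Fin.sum_univ_four, hdP 1, e_1_0] at R_1
  have R_2 := hrow 2
  rw [Fin.sum_univ_four, hdP 2] at R_2
  have S_0_1 := hsym 0 1
  rw [e_0_1, e_1_0] at S_0_1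
  have S_0_2 := hsym 0 2
  have S_1_2 := hsym 1 2
  have Q_0 := hpair 0 2 (by decide)
  have Q_1 := hpair 1 2 (by decide)
  generalize e_0_2 : T.picMatrix 0 2 = x_0 at *
  generalize e_2_0 : T.picMatrix 2 0 = y_0 at *
  generalize e_1_2 : T.picMatrix 1 2 = x_1 at *
  generalize e_2_1 : T.picMatrix 2 1 = y_1 at *
  rcases Q_0 with ⟨rfl, rfl⟩ | ⟨rfl, rfl⟩ | ⟨rfl, rfl⟩ | ⟨rfl, rfl⟩ | ⟨rfl, rfl⟩ | ⟨rfl, rfl⟩ | ⟨rfl, rfl⟩ | ⟨rfl, rfl⟩ | ⟨rfl, rfl⟩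
  · exact absurd rfl hne
  · omega
  · omega
  · omega
  · omega
  · omega
  · omega
  · omega
  · omega

theorem nd_143 (T : Models.NumericalType 4)
    (hG : NTGood T)
    (hmax : ∀ j, T.m j ≤ T.m 0)
    (e_0_1 : T.picMatrix 0 1 = 2)
    (e_1_0 : T.picMatrix 1 0 = 2)
    (cl : ∀ a b : Fin 4, a.val < 0 → 2 ≤ b.val → T.picMatrix a b = 0) :
    Goal T := by
  by_cases hc : ∀ b : Fin 4, 2 ≤ b.val → T.picMatrix 0 b = 0
  · exact nd_144 T hG hmax e_0_1 e_1_0 (nt_cl_succ T 2 0 0 rfl cl hc)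
  · obtain ⟨τ, hfix, cl', z, hne⟩ := nt_wlog_step T 2 (by norm_num) 0 (by norm_num) 0 (by decide) cl hc
    apply goal_relabel T τ
    refine ex_147 (ntRelabel T τ) (hG.relabel τ) ?_ ?_ ?_ cl' z hne
    · intro j
      show T.m (τ j) ≤ T.m (τ 0)
      rw [hfix 0 (by decide)]
      exact hmax _
    · show T.picMatrix (τ 0) (τ 1) = 2
      rw [hfix 0 (by decide), hfix 1 (by decide)]
      exact e_0_1
    · show T.picMatrix (τ 1) (τ 0) = 2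
      rw [hfix 1 (by decide), hfix 0 (by decide)]
      exact e_1_0

theorem ex_3 (T : Models.NumericalType 4)
    (hG : NTGood T)
    (hmax : ∀ j, T.m j ≤ T.m 0)
    (cl : ∀ a b : Fin 4, a.val < 0 → 2 ≤ b.val → T.picMatrix a b = 0)
    (z : ∀ a : Fin 4, a.val < 0 → T.picMatrix a 1 = 0)
    (hne : T.picMatrix 0 1 ≠ 0) :
    Goal T := by
  obtain ⟨hg0, hdA, hdP, hnn, hrow, hsym, hpair⟩ := ntgood_data T (by norm_num) hG
  have hm_0 := T.m_pos 0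
  have hw_0 := T.w_pos 0
  have hm_1 := T.m_pos 1
  have hw_1 := T.w_pos 1
  have hx_1 := hmax 1
  have N_0_2 := mul_nonneg (hnn 0 2 (by decide)) (T.m_pos 2).le
  have N_0_3 := mul_nonneg (hnn 0 3 (by decide)) (T.m_pos 3).le
  have N_1_2 := mul_nonneg (hnn 1 2 (by decide)) (T.m_pos 2).le
  have N_1_3 := mul_nonneg (hnn 1 3 (by decide)) (T.m_pos 3).le
  have N_0_1 := mul_nonneg (hnn 0 1 (by decide)) (T.m_pos 1).le
  have N_1_0 := mul_nonneg (hnn 1 0 (by decide)) (T.m_pos 0).le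
  have R_0 := hrow 0
  rw [Fin.sum_univ_four, hdP 0] at R_0
  have R_1 := hrow 1
  rw [Fin.sum_univ_four, hdP 1] at R_1
  have S_0_1 := hsym 0 1
  have Q_0 := hpair 0 1 (by decide)
  generalize e_0_1 : T.picMatrix 0 1 = x_0 at *
  generalize e_1_0 : T.picMatrix 1 0 = y_0 at *
  rcases Q_0 with ⟨rfl, rfl⟩ | ⟨rfl, rfl⟩ | ⟨rfl, rfl⟩ | ⟨rfl, rfl⟩ | ⟨rfl, rfl⟩ | ⟨rfl, rfl⟩ | ⟨rfl, rfl⟩ | ⟨rfl, rfl⟩ | ⟨rfl, rfl⟩
  · exact absurd rfl hne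
  · -- (0,1) = (1,1)
    exact nd_4 T hG hmax e_0_1 e_1_0 cl
  · -- (0,1) = (1,2)
    exact nd_47 T hG hmax e_0_1 e_1_0 cl
  · -- (0,1) = (2,1)
    exact nd_74 T hG hmax e_0_1 e_1_0 cl
  · -- (0,1) = (1,3)
    omega
  · -- (0,1) = (3,1)
    exact nd_121 T hG hmax e_0_1 e_1_0 cl
  · -- (0,1) = (1,4)
    omega
  · -- (0,1) = (4,1)
    exact nd_138 T hG hmax e_0_1 e_1_0 cl
  · -- (0,1) = (2,2)
    exact nd_143 T hG hmax e_0_1 e_1_0 cl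

theorem nd_1 (T : Models.NumericalType 4)
    (hG : NTGood T)
    (hmax : ∀ j, T.m j ≤ T.m 0)
    (cl : ∀ a b : Fin 4, a.val < 0 → 1 ≤ b.val → T.picMatrix a b = 0) :
    Goal T := by
  by_cases hc : ∀ b : Fin 4, 1 ≤ b.val → T.picMatrix 0 b = 0
  · exact nd_2 T hG hmax  (nt_cl_succ T 1 0 0 rfl cl hc)
  · obtain ⟨τ, hfix, cl', z, hne⟩ := nt_wlog_step T 1 (by norm_num) 0 (by norm_num) 0 (by decide) cl hc
    apply goal_relabel T τ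
    refine ex_3 (ntRelabel T τ) (hG.relabel τ) ?_  cl' z hne
    · intro j
      show T.m (τ j) ≤ T.m (τ 0)
      rw [hfix 0 (by decide)]
      exact hmax _

end Groth.Agent.Lib.helper4.G4
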